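/-
Counting lemmas for the norm-one circle of a quadratic extension of finite fields.
-/
import Cfsg.Agent.Lib.Classical.Unitary.Field

set_option autoImplicit false

namespace CfsgLib.Geo.UnitDecomp

open CfsgLib.Classical CfsgLib.Classical.Herm

variable {F : Type*} [Field F] {σ : F →+* F}

/-- The norm. -/
def nm (σ : F →+* F) (x : F) : F := x * σ x

theorem nm_mul (x y : F) : nm σ (x * y) = nm σ x * nm σ y := by
  simp only [nm, map_mul]; ring

theorem nm_zero : nm σ (0 : F) = 0 := by simp [nm]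

theorem nm_eq_zero {x : F} : nm σ x = 0 ↔ x = 0 := by
  simp [nm, map_eq_zero_iff σ σ.injective]

theorem nm_inv (x : F) : nm σ x⁻¹ = (nm σ x)⁻¹ := by simp [nm, map_inv₀, mul_comm]

theorem nm_div (x y : F) : nm σ (x / y) = nm σ x / nm σ y := by
  rw [div_eq_mul_inv, nm_mul, nm_inv, div_eq_mul_inv]

theorem inv_of_norm_one {x : F} (h : nm σ x = 1) : σ x = x⁻¹ :=
  eq_inv_of_mul_eq_one_right h

theorem ne_zero_of_norm_one {x : F} (h : nm σ x = 1) : x ≠ 0 := fun e => by simp [e, nm_zero] at h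

variable (hσ : IsInvol σ)
include hσ

theorem nm_fixed (x : F) : σ (nm σ x) = nm σ x := mem_fixedSub.1 (hσ.norm_mem x)

theorem nm_conj (x : F) : nm σ (σ x) = nm σ x := by rw [nm, hσ.invol, mul_comm]; rfl

/-- A non-zero skew element avoiding a given one. -/
theorem exists_skew_ne [Finite F] (hq : 3 ≤ Nat.card (fixedSub σ)) (x : F) :
    ∃ θ : F, θ ≠ 0 ∧ θ + σ θ = 0 ∧ θ ≠ x := by
  classical
  obtain ⟨θ, h0, h1⟩ := hσ.exists_skew
  haveI := Fintype.ofFinite (fixedSub σ)
  have : ({0, x / θ} : Finset F).card < ((Finset.univ : Finset (fixedSub σ)).map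
      ⟨Subtype.val, Subtype.val_injective⟩ : Finset F).card := by
    refine lt_of_le_of_lt Finset.card_le_two ?_
    rw [Finset.card_map, Finset.card_univ (α := fixedSub σ), ← Nat.card_eq_fintype_card]
    exact hq
  obtain ⟨a, ha, hne⟩ := Finset.exists_mem_notMem_of_card_lt_card this
  obtain ⟨r, -, rfl⟩ := Finset.mem_map.1 ha
  simp only [Finset.mem_insert, Finset.mem_singleton, not_or, Function.Embedding.coeFn_mk] at hne
  refine ⟨(r : F) * θ, mul_ne_zero hne.1 h0, ?_, fun e => hne.2 ?_⟩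
  · rw [map_mul, mem_fixedSub.1 r.2, h1]; ring
  · rw [← e, mul_div_assoc, div_self h0, mul_one]

section Fin

variable [Fintype F] [DecidableEq F]

omit hσ in
/-- Elements of norm one. -/
def circ (σ : F →+* F) : Finset F := Finset.univ.filter fun x => nm σ x = 1

omit hσ in
theorem mem_circ {x : F} : x ∈ circ σ ↔ nm σ x = 1 := by simp [circ]

theorem card_circ : (circ σ).card = Nat.card (fixedSub σ) + 1 := by
  rw [← hσ.card_norm_fibre one_ne_zero (map_one σ), Nat.card_eq_fintype_card, Fintype.card_subtype]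
  rfl

omit hσ in
/-- The non-zero elements of the fixed field. -/
def fixStar (σ : F →+* F) : Finset F := Finset.univ.filter fun x => σ x = x ∧ x ≠ 0

omit hσ in
theorem mem_fixStar {x : F} : x ∈ fixStar σ ↔ σ x = x ∧ x ≠ 0 := by simp [fixStar]

omit hσ in
theorem card_fixed : (Finset.univ.filter fun x : F => σ x = x).card = Nat.card (fixedSub σ) := by
  rw [← Fintype.card_subtype, ← Nat.card_eq_fintype_card]
  exact Nat.card_congr (Equiv.subtypeEquivRight fun x => mem_fixedSub.symm)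

omit hσ in
theorem card_fixStar : (fixStar σ).card + 1 = Nat.card (fixedSub σ) := by
  rw [← card_fixed]
  have h : fixStar σ = (Finset.univ.filter fun x : F => σ x = x).erase 0 := by
    ext x; simp [fixStar, and_comm]
  rw [h, Finset.card_erase_add_one (by simp)]

theorem card_field : Fintype.card F = Nat.card (fixedSub σ) ^ 2 := by
  rw [← Nat.card_eq_fintype_card, hσ.card_sq]

/-- A circle meets each fibre of the norm in at most two points. -/
theorem circle_fibre {x y : F} (hx : x ≠ 0) (hy : y ≠ 0) (S : Finset F) (hS : S ⊆ circ σ) :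
    S.card ≤ 2 * (S.image fun τ => nm σ (x + τ * y)).card := by
  refine Finset.card_le_mul_card_image _ 2 fun c _ => ?_
  set s := S.filter fun τ => nm σ (x + τ * y) = c
  rcases s.eq_empty_or_nonempty with h | ⟨τ₀, h0⟩
  · simp [h]
  set a := σ x * y
  have ha : a ≠ 0 := mul_ne_zero ((map_ne_zero σ).2 hx) hy
  refine le_trans (Finset.card_le_card (t := {τ₀, -τ₀ - (nm σ x + nm σ y - c) / a}) fun τ hτ => ?_)
    Finset.card_le_two
  have key : ∀ τ ∈ s, a * τ ^ 2 + (nm σ x + nm σ y - c) * τ + x * σ y = 0 := fun τ hτ => by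
    obtain ⟨h1, h2⟩ := Finset.mem_filter.1 hτ
    have h3 : τ * σ τ = 1 := mem_circ.1 (hS h1)
    simp only [nm, map_add, map_mul] at h2 ⊢
    linear_combination τ * h2 - (x * σ y + τ * y * σ y) * h3
  rw [Finset.mem_insert, Finset.mem_singleton]
  by_cases e : τ = τ₀
  · exact Or.inl e
  refine Or.inr (mul_left_cancel₀ ha (mul_right_cancel₀ (sub_ne_zero.2 e) ?_))
  have h1 := key τ hτ
  have h2 := key τ₀ h0
  have h3 : a * ((nm σ x + nm σ y - c) / a) = nm σ x + nm σ y - c := mul_div_cancel₀ _ ha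
  linear_combination h1 - h2 + (τ - τ₀) * h3

/-- The norms of `λ - 1` for `λ ≠ 1` of norm one. -/
def zset (σ : F →+* F) : Finset F := ((circ σ).erase 1).image fun l => nm σ (l - 1)

theorem zset_subset : zset σ ⊆ fixStar σ := fun z hz => by
  obtain ⟨l, hl, rfl⟩ := Finset.mem_image.1 hz
  exact mem_fixStar.2 ⟨nm_fixed hσ _, fun e => (Finset.mem_erase.1 hl).1 (sub_eq_zero.1 (nm_eq_zero.1 e))⟩

theorem card_zset : Nat.card (fixedSub σ) ≤ 2 * (zset σ).card := by
  have h := circle_fibre hσ (x := (-1 : F)) (y := 1) (neg_ne_zero.2 one_ne_zero) one_ne_zero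
    ((circ σ).erase 1) (Finset.erase_subset _ _)
  rw [Finset.card_erase_of_mem (mem_circ.2 (by simp [nm])), card_circ hσ] at h
  simp only [mul_one, neg_add_eq_sub, Nat.add_sub_cancel] at h
  exact h

omit hσ in
theorem mem_zset {z : F} : z ∈ zset σ ↔ ∃ l, nm σ l = 1 ∧ l ≠ 1 ∧ nm σ (l - 1) = z := by
  simp [zset, mem_circ, and_assoc, and_left_comm]

theorem exists_ratio' {r : F} (hr : σ r = r) (hr0 : r ≠ 0) :
    ∃ l m : F, nm σ l = 1 ∧ l ≠ 1 ∧ nm σ m = 1 ∧ m ≠ 1 ∧ nm σ (l - 1) = r * nm σ (m - 1) := by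
  obtain ⟨z, hz⟩ : (zset σ ∩ (zset σ).image fun z => r * z).Nonempty := by
    rw [← Finset.card_pos]
    have h1 := card_zset hσ
    have h2 := Finset.card_union_add_card_inter (zset σ) ((zset σ).image fun z => r * z)
    have h3 : (zset σ ∪ (zset σ).image fun z => r * z).card ≤ (fixStar σ).card := by
      refine Finset.card_le_card (Finset.union_subset (zset_subset hσ) fun x hx => ?_)
      obtain ⟨z, hz, rfl⟩ := Finset.mem_image.1 hx
      obtain ⟨e1, e2⟩ := mem_fixStar.1 (zset_subset hσ hz)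
      exact mem_fixStar.2 ⟨by rw [map_mul, hr, e1], mul_ne_zero hr0 e2⟩
    rw [Finset.card_image_of_injective _ (mul_right_injective₀ hr0)] at h2
    have h4 := card_fixStar (σ := σ)
    omega
  obtain ⟨h1, h2⟩ := Finset.mem_inter.1 hz
  obtain ⟨l, hl, hl1, hlz⟩ := mem_zset.1 h1
  obtain ⟨z', hz', hzz⟩ := Finset.mem_image.1 h2
  obtain ⟨m, hm, hm1, hmz⟩ := mem_zset.1 hz'
  exact ⟨l, m, hl, hl1, hm, hm1, by rw [hlz, hmz, ← hzz]⟩

/-- The non-zero values of a sum of two circles. -/
def twoSum (σ : F →+* F) (a b : F) : Finset F :=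
  ((circ σ ×ˢ circ σ).image fun p => a * p.1 + b * p.2).erase 0

theorem card_twoSum {a b : F} (ha : a ≠ 0) (hb : b ≠ 0) :
    (Nat.card (fixedSub σ) + 1) * Nat.card (fixedSub σ) ≤ 2 * (twoSum σ a b).card := by
  set Q := Nat.card (fixedSub σ)
  set P := (circ σ ×ˢ circ σ).filter fun p => a * p.1 + b * p.2 ≠ 0
  have h0 : ((circ σ ×ˢ circ σ).filter fun p => ¬ a * p.1 + b * p.2 ≠ 0).card ≤ (circ σ).card := by
    refine Finset.card_le_card_of_injOn Prod.fst (fun p hp => (Finset.mem_product.1 (Finset.mem_filter.1 hp).1).1) ?_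
    intro p hp p' hp' e
    have e1 := not_not.1 (Finset.mem_filter.1 hp).2
    have e2 := not_not.1 (Finset.mem_filter.1 hp').2
    exact Prod.ext e (mul_left_cancel₀ hb (by rw [e] at e1; linear_combination e1 - e2))
  have hP : (Q + 1) * Q ≤ P.card := by
    have h1 := Finset.card_filter_add_card_filter_not (s := circ σ ×ˢ circ σ) (fun p => a * p.1 + b * p.2 ≠ 0)
    rw [Finset.card_product, card_circ hσ] at h1
    rw [card_circ hσ] at h0
    simp only [Q, P]
    have : (Nat.card (fixedSub σ) + 1) * (Nat.card (fixedSub σ) + 1) =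
        (Nat.card (fixedSub σ) + 1) * Nat.card (fixedSub σ) + (Nat.card (fixedSub σ) + 1) := by ring
    omega
  refine hP.trans ((Finset.card_le_mul_card_image (f := fun p : F × F => a * p.1 + b * p.2) P 2 fun z hz => ?_).trans
    (Nat.mul_le_mul_left 2 (Finset.card_le_card fun z hz => ?_)))
  · -- fibres: the first entry determines the second and solves a circle equation
    obtain ⟨p₀, hp₀, hz0⟩ := Finset.mem_image.1 hz
    have hz0' : z ≠ 0 := hz0 ▸ (Finset.mem_filter.1 hp₀).2
    set s := P.filter fun p => a * p.1 + b * p.2 = z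
    have hinj : Set.InjOn Prod.fst (s : Set (F × F)) := by
      intro p hp p' hp' e
      have e1 := (Finset.mem_filter.1 hp).2
      have e2 := (Finset.mem_filter.1 hp').2
      exact Prod.ext e (mul_left_cancel₀ hb (by rw [e] at e1; linear_combination e1 - e2))
    have h := circle_fibre hσ hz0' (neg_ne_zero.2 ha) (s.image Prod.fst) fun τ hτ => by
      obtain ⟨p, hp, rfl⟩ := Finset.mem_image.1 hτ
      exact (Finset.mem_product.1 (Finset.mem_filter.1 (Finset.mem_filter.1 hp).1).1).1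
    have hc : ((s.image Prod.fst).image fun τ => nm σ (z + τ * -a)).card ≤ 1 := by
      refine Finset.card_le_one.2 fun u hu v hv => ?_
      simp only [Finset.mem_image, exists_exists_and_eq_and] at hu hv
      obtain ⟨p, hp, rfl⟩ := hu
      obtain ⟨p', hp', rfl⟩ := hv
      have key : ∀ p ∈ s, nm σ (z + p.1 * -a) = nm σ b := fun p hp => by
        obtain ⟨h1, h2⟩ := Finset.mem_filter.1 hp
        rw [show z + p.1 * -a = b * p.2 by linear_combination -h2, nm_mul,
          mem_circ.1 (Finset.mem_product.1 (Finset.mem_filter.1 h1).1).2, mul_one]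
      rw [key p hp, key p' hp']
    rw [Finset.card_image_of_injOn hinj] at h
    omega
  · obtain ⟨p, hp, rfl⟩ := Finset.mem_image.1 hz
    exact Finset.mem_erase.2 ⟨(Finset.mem_filter.1 hp).2, Finset.mem_image.2 ⟨p, (Finset.mem_filter.1 hp).1, rfl⟩⟩

/-- Four circles cover the field, with many representations. -/
theorem four_cover {w : Fin 4 → F} (hw : ∀ i, w i ≠ 0) (t : F) :
    ∃ Z : Finset (Fin 4 → F), (∀ T ∈ Z, (∀ i, nm σ (T i) = 1) ∧ ∑ i, w i * T i = t) ∧
      Nat.card (fixedSub σ) ≤ Z.card ∧ (t = 0 → Nat.card (fixedSub σ) + 1 ≤ Z.card) := by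
  set Q := Nat.card (fixedSub σ)
  set A := twoSum σ (w 0) (w 1)
  set A' := (twoSum σ (w 2) (w 3)).image fun z => t - z
  have hpick : ∀ z ∈ A ∩ A', ∃ T : Fin 4 → F, (∀ i, nm σ (T i) = 1) ∧ ∑ i, w i * T i = t ∧
      w 0 * T 0 + w 1 * T 1 = z := by
    intro z hz
    obtain ⟨h1, h2⟩ := Finset.mem_inter.1 hz
    obtain ⟨z', hz', e'⟩ := Finset.mem_image.1 h2
    obtain ⟨⟨a, b⟩, hab, e1⟩ := Finset.mem_image.1 (Finset.mem_erase.1 h1).2
    obtain ⟨⟨c, d⟩, hcd, e2⟩ := Finset.mem_image.1 (Finset.mem_erase.1 hz').2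
    rw [Finset.mem_product, mem_circ, mem_circ] at hab hcd
    refine ⟨![a, b, c, d], fun i => ?_, ?_, by simpa using e1⟩
    · fin_cases i <;> simp [hab.1, hab.2, hcd.1, hcd.2]
    · simp only [Fin.sum_univ_four]
      simp only [Matrix.cons_val_zero, Matrix.cons_val_one, Matrix.cons_val]
      linear_combination e1 + e2 - e'
  choose T hT1 hT2 hT3 using hpick
  refine ⟨(A ∩ A').attach.image fun z => T z.1 z.2, fun S hS => ?_, ?_⟩
  · obtain ⟨z, -, rfl⟩ := Finset.mem_image.1 hS
    exact ⟨hT1 _ _, hT2 _ _⟩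
  rw [Finset.card_image_of_injective _ (fun z z' e => Subtype.ext (by
    rw [← hT3 z.1 z.2, ← hT3 z'.1 z'.2, show T z.1 z.2 = T z'.1 z'.2 from e])), Finset.card_attach]
  have h1 : (Q + 1) * Q ≤ 2 * A.card := card_twoSum hσ (hw 0) (hw 1)
  have h2 : (Q + 1) * Q ≤ 2 * A'.card := by
    rw [Finset.card_image_of_injective _ sub_right_injective]
    exact card_twoSum hσ (hw 2) (hw 3)
  have h3 := Finset.card_union_add_card_inter A A'
  have h4 : (A ∪ A').card ≤ Q ^ 2 := by
    rw [← card_field hσ]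
    exact Finset.card_le_univ _
  have hQ : (Q + 1) * Q = Q ^ 2 + Q := by ring
  refine ⟨by omega, fun ht => ?_⟩
  have h5 : (A ∪ A').card + 1 ≤ Q ^ 2 := by
    rw [← card_field hσ, Nat.add_one_le_iff]
    refine Finset.card_lt_univ_of_notMem (x := (0 : F)) ?_
    simp [A, A', ht, twoSum, Finset.mem_union]
  omega

/-- The squares of skew elements fill half of the fixed field. -/
theorem card_skew_sq :
    (fixStar σ).card ≤ 2 * ((Finset.univ.filter fun x : F => x + σ x = 0 ∧ x ≠ 0).image fun x => x ^ 2).card := by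
  set K0 := Finset.univ.filter fun x : F => x + σ x = 0 ∧ x ≠ 0
  obtain ⟨θ, h0, h1⟩ := hσ.exists_skew
  have hcard : (fixStar σ).card ≤ K0.card := by
    refine Finset.card_le_card_of_injOn (fun r => r * θ) (fun r hr => ?_) (fun a _ b _ e => mul_right_cancel₀ h0 e)
    obtain ⟨e1, e2⟩ := mem_fixStar.1 (Finset.mem_coe.1 hr)
    simp only [K0, Finset.coe_filter, Set.mem_setOf_eq, Finset.mem_univ, true_and]
    exact ⟨by rw [map_mul, e1, h1]; ring, mul_ne_zero e2 h0⟩
  refine hcard.trans (Finset.card_le_mul_card_image K0 2 fun c _ => ?_)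
  rcases (K0.filter fun x => x ^ 2 = c).eq_empty_or_nonempty with h | ⟨x₀, hx₀⟩
  · simp [h]
  refine le_trans (Finset.card_le_card (t := {x₀, -x₀}) fun x hx => ?_) Finset.card_le_two
  have e : x ^ 2 = x₀ ^ 2 := (Finset.mem_filter.1 hx).2.trans (Finset.mem_filter.1 hx₀).2.symm
  rcases sq_eq_sq_iff_eq_or_eq_neg.1 e with e | e <;> simp [e]

end Fin

variable [Finite F]

theorem exists_ratio {r : F} (hr : σ r = r) (hr0 : r ≠ 0) :
    ∃ l m : F, nm σ l = 1 ∧ l ≠ 1 ∧ nm σ m = 1 ∧ m ≠ 1 ∧ nm σ (l - 1) = r * nm σ (m - 1) := by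
  classical
  haveI := Fintype.ofFinite F
  exact exists_ratio' hσ hr hr0

/-- A norm-one element different from two given ones. -/
theorem exists_circ_ne (a b : F) : ∃ x, nm σ x = 1 ∧ x ≠ a ∧ x ≠ b := by
  classical
  haveI := Fintype.ofFinite F
  obtain ⟨x, hx, hne⟩ := Finset.exists_mem_notMem_of_card_lt_card (s := ({a, b} : Finset F)) (t := circ σ)
    (lt_of_le_of_lt Finset.card_le_two (by rw [card_circ hσ]; have := IsInvol.card_ge_two (σ := σ); omega))
  simp only [Finset.mem_insert, Finset.mem_singleton, not_or] at hne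
  exact ⟨x, mem_circ.1 hx, hne⟩

end CfsgLib.Geo.UnitDecomp
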