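/-
Orthonormal frames of Hermitian spaces, block monomial elements, and transvection centres supported on two
coordinates.
-/
import Cfsg.Agent.Lib.Geo.UnitDecomp.Field
import Cfsg.Agent.Lib.Geo.UnitMaximal

set_option autoImplicit false
set_option linter.unusedSectionVars false
set_option linter.style.haveILetI false

namespace CfsgLib.Geo.UnitDecomp

open CfsgLib.Classical CfsgLib.Classical.Herm CfsgLib.Geo.UnitMax

variable {F : Type*} [Field F] {V : Type*} [AddCommGroup V] [Module F V] {σ : F →+* F}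
  {B : V →ₛₗ[σ] V →ₗ[F] F} {ι : Type} [Fintype ι] [DecidableEq ι]

/-- An orthonormal basis. -/
def IsFrame (B : V →ₛₗ[σ] V →ₗ[F] F) (e : Module.Basis ι F V) : Prop :=
  ∀ i j, B (e i) (e j) = if i = j then 1 else 0

variable {e : Module.Basis ι F V}

theorem repr_single (e : Module.Basis ι F V) (i x : ι) : e.repr (e i) x = if i = x then 1 else 0 := by
  rw [e.repr_self, Finsupp.single_apply]

theorem repr_eq (he : IsFrame B e) (v : V) (x : ι) : e.repr v x = B (e x) v := by
  conv_rhs => rw [← e.sum_repr v]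
  rw [map_sum, Finset.sum_eq_single x]
  · rw [smul_right, he x x, if_pos rfl, mul_one]
  · intro j _ hj
    rw [smul_right, he x j, if_neg (Ne.symm hj), mul_zero]
  · simp

theorem apply_eq (he : IsFrame B e) (u v : V) : B u v = ∑ x, σ (e.repr u x) * e.repr v x := by
  conv_lhs => rw [← e.sum_repr u]
  rw [map_sum, LinearMap.sum_apply]
  exact Finset.sum_congr rfl fun x _ => by rw [smul_left, repr_eq he v x]

theorem self_eq (he : IsFrame B e) (v : V) : B v v = ∑ x, nm σ (e.repr v x) := by
  rw [apply_eq he]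
  exact Finset.sum_congr rfl fun x _ => mul_comm _ _

variable [DecidableEq F]

/-- The support. -/
noncomputable def supp (e : Module.Basis ι F V) (v : V) : Finset ι := Finset.univ.filter fun x => e.repr v x ≠ 0

theorem mem_supp {v : V} {x : ι} : x ∈ supp e v ↔ e.repr v x ≠ 0 := by simp [supp]

theorem not_mem_supp {v : V} {x : ι} : x ∉ supp e v ↔ e.repr v x = 0 := by simp [supp]

theorem supp_nonempty {v : V} (hv : v ≠ 0) : (supp e v).Nonempty := by
  by_contra hc
  refine hv (e.repr.injective (Finsupp.ext fun x => ?_))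
  rw [map_zero, Finsupp.zero_apply]
  exact not_mem_supp.1 fun hx => hc ⟨x, hx⟩

theorem supp_pair {a b : ι} {s t : F} (hab : a ≠ b) (hs : s ≠ 0) (ht : t ≠ 0) :
    supp e (s • e a + t • e b) = {a, b} := by
  ext x
  rw [mem_supp]
  simp only [map_add, map_smul, Finsupp.coe_add, Finsupp.coe_smul, Pi.add_apply, Pi.smul_apply, repr_single,
    smul_eq_mul, Finset.mem_insert, Finset.mem_singleton]
  by_cases h1 : a = x
  · subst h1; simp [hab.symm, hs]
  · by_cases h2 : b = x
    · subst h2; simp [h1, ht]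
    · simp [h1, h2, Ne.symm h1, Ne.symm h2]

/-- No two non-orthogonal images of one block leave a common block: each block is mapped into one block. -/
def Blk (e : Module.Basis ι F V) {β : Type} (bl : ι → β) (g : HU B) : Prop :=
  ∀ x x', bl x = bl x' → ∀ y y', e.repr ((g : V ≃ₗ[F] V) (e x)) y ≠ 0 →
    e.repr ((g : V ≃ₗ[F] V) (e x')) y' ≠ 0 → bl y = bl y'

/-- A set of transvection centres. -/
def Ctr [FiniteDimensional F V] (h : IsHerm B) (M : Subgroup (HU B)) : Set V := {v | B v v = 0 ∧ HasTr h M v}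

variable [FiniteDimensional F V] (h : IsHerm B) {M : Subgroup (HU B)}
include h

theorem ctr_smul {v : V} (hv : v ∈ Ctr h M) (a : F) : a • v ∈ Ctr h M := by
  refine ⟨by rw [IsHerm.smul_self, hv.1, mul_zero], fun hav c hc => ?_⟩
  by_cases ha : a = 0
  · have : h.tr hav hc = 1 := by
      ext y
      rw [h.tr_apply]
      simp [ha]
    rw [this]
    exact M.one_mem
  · have hc' : c * (a * σ a) + σ (c * (a * σ a)) = 0 := by
      rw [map_mul, map_mul, h.invol.invol, mul_comm (σ a) a, ← add_mul, hc, zero_mul]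
    have : h.tr hav hc = h.tr hv.1 hc' := by
      ext y
      rw [h.tr_apply, h.tr_apply, smul_left, smul_smul]
      congr 2
      ring
    rw [this]
    exact hv.2 hv.1 _ hc'

theorem ctr_zero : (0 : V) ∈ Ctr h M := by
  refine ⟨zero_left _, fun hz c hc => ?_⟩
  have : h.tr hz hc = 1 := by
    ext y
    rw [h.tr_apply]
    simp
  rw [this]
  exact M.one_mem

theorem ctr_conj {v : V} (hv : v ∈ Ctr h M) {g : HU B} (hg : g ∈ M) : (g : V ≃ₗ[F] V) v ∈ Ctr h M :=
  ⟨(HU.map_eq g v v).trans hv.1, hv.2.conj h hg⟩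

/-- Two centres with a skew non-zero product add to a centre. -/
theorem ctr_add {x y : V} (hx : x ∈ Ctr h M) (hy : y ∈ Ctr h M) (hne : B x y ≠ 0)
    (hsk : B x y + σ (B x y) = 0) : x + y ∈ Ctr h M := by
  have hc : (B y x)⁻¹ + σ (B y x)⁻¹ = 0 := by
    rw [← h.symm x y, eq_neg_of_add_eq_zero_right hsk, map_inv₀, map_neg, eq_neg_of_add_eq_zero_right hsk,
      neg_neg, inv_neg, neg_add_cancel]
  have hne' : B y x ≠ 0 := fun e' => hne (h.eq_zero_symm e')
  have := ctr_conj h hx (hy.2 hy.1 _ hc)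
  rwa [h.tr_apply, inv_mul_cancel₀ hne', one_smul] at this

variable (he : IsFrame B e)
include he

theorem exists_of_family (f : ι → V) (hf : ∀ i j, B (f i) (f j) = if i = j then 1 else 0) :
    ∃ g : HU B, ∀ x, (g : V ≃ₗ[F] V) (e x) = f x := by
  let L := e.constr F f
  refine ⟨h.ofPreserves L fun y z => ?_, fun x => by simp [L]⟩
  have hL : ∀ w, L w = ∑ x, e.repr w x • f x := fun w => e.constr_apply_fintype F f w
  rw [hL, hL, apply_eq he y z, map_sum B, LinearMap.sum_apply]
  refine Finset.sum_congr rfl fun x _ => ?_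
  rw [smul_left, map_sum, Finset.sum_eq_single x]
  · rw [smul_right, hf x x, if_pos rfl, mul_one]
  · intro j _ hj
    rw [smul_right, hf x j, if_neg (Ne.symm hj), mul_zero]
  · simp

theorem det_norm_one (g : HU B) : nm σ ((HU.det B g : Fˣ) : F) = 1 := by
  set A := LinearMap.toMatrix e e ((g : V ≃ₗ[F] V) : V →ₗ[F] V)
  have hA : ∀ r x, A r x = e.repr ((g : V ≃ₗ[F] V) (e x)) r := fun r x => LinearMap.toMatrix_apply _ _ _ _ _
  have h1 : (A.map σ).transpose * A = 1 := by
    ext x y
    rw [Matrix.mul_apply, Matrix.one_apply]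
    simp only [Matrix.transpose_apply, Matrix.map_apply, hA]
    rw [← apply_eq he, HU.map_eq, he x y]
  have h2 := congrArg Matrix.det h1
  rw [Matrix.det_mul, Matrix.det_transpose, Matrix.det_one, show A.map σ = σ.mapMatrix A from rfl,
    ← RingHom.map_det] at h2
  have hd : ((HU.det B g : Fˣ) : F) = A.det := by
    show ((LinearEquiv.det (g : V ≃ₗ[F] V) : Fˣ) : F) = _
    rw [LinearEquiv.coe_det, ← LinearMap.det_toMatrix e]
  rw [nm, hd, mul_comm]
  exact h2

/-- A diagonal isometry. -/
theorem exists_dia {l : ι → F} (hl : ∀ x, nm σ (l x) = 1) :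
    ∃ g : HU B, (∀ x, (g : V ≃ₗ[F] V) (e x) = l x • e x) ∧ ((HU.det B g : Fˣ) : F) = ∏ x, l x := by
  obtain ⟨g, hg⟩ := exists_of_family h he (fun x => l x • e x) fun i j => by
    rw [smul_left, smul_right, he i j]
    split_ifs with hij
    · subst hij; rw [mul_one, mul_comm]; exact hl i
    · rw [mul_zero, mul_zero]
  refine ⟨g, hg, ?_⟩
  show ((LinearEquiv.det (g : V ≃ₗ[F] V) : Fˣ) : F) = _
  rw [LinearEquiv.coe_det, ← LinearMap.det_toMatrix e, show LinearMap.toMatrix e e ((g : V ≃ₗ[F] V) : V →ₗ[F] V) =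
    Matrix.diagonal l from ?_, Matrix.det_diagonal]
  ext r x
  rw [LinearMap.toMatrix_apply, LinearEquiv.coe_coe, hg, map_smul, Finsupp.smul_apply, repr_single, Matrix.diagonal_apply,
    smul_eq_mul]
  by_cases hrx : r = x
  · subst hrx; simp
  · simp [hrx, Ne.symm hrx]

theorem dia_repr {l : ι → F} {g : HU B} (hg : ∀ x, (g : V ≃ₗ[F] V) (e x) = l x • e x) (v : V) (x : ι) :
    e.repr ((g : V ≃ₗ[F] V) v) x = l x * e.repr v x := by
  conv_lhs => rw [← e.sum_repr v]
  simp only [map_sum, map_smul, hg, smul_smul, Finsupp.coe_finsetSum, Finset.sum_apply, Finsupp.coe_smul,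
    Pi.smul_apply, repr_single, smul_eq_mul]
  rw [Finset.sum_eq_single x]
  · rw [if_pos rfl, mul_one, mul_comm]
  · intro j _ hj; rw [if_neg hj, mul_zero]
  · simp

/-- An isometry of determinant one moving the frame onto a family, up to one scalar. -/
theorem exists_su_of_family (f : ι → V) (hf : ∀ i j, B (f i) (f j) = if i = j then 1 else 0) (x₀ : ι) :
    ∃ g ∈ HSU B, ∃ l : ι → F, (∀ x, nm σ (l x) = 1) ∧ (∀ x, x ≠ x₀ → l x = 1) ∧
      ∀ x, (g : V ≃ₗ[F] V) (e x) = l x • f x := by
  obtain ⟨g, hg⟩ := exists_of_family h he f hf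
  set δ := ((HU.det B g : Fˣ) : F)
  have hδ : nm σ δ = 1 := det_norm_one h he g
  let l : ι → F := Function.update (fun _ => 1) x₀ δ⁻¹
  have hl : ∀ x, nm σ (l x) = 1 := fun x => by
    simp only [l, Function.update_apply]
    split_ifs
    · rw [nm_inv, hδ, inv_one]
    · simp [nm]
  obtain ⟨d, hd, hdet⟩ := exists_dia h he hl
  refine ⟨g * d, ?_, l, hl, fun x hx => Function.update_of_ne hx _ _, fun x => ?_⟩
  · rw [MonoidHom.mem_ker, map_mul, Units.ext_iff, Units.val_mul, hdet, Units.val_one,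
      Finset.prod_update_of_mem (Finset.mem_univ _)]
    simp only [Finset.prod_const_one, mul_one]
    exact mul_inv_cancel₀ (ne_zero_of_norm_one hδ)
  · rw [Subgroup.coe_mul, LinearEquiv.mul_apply, hd, map_smul, hg]

variable {β : Type} {bl : ι → β} (hH : ∀ g ∈ HSU B, Blk e bl g → g ∈ M)
include hH

theorem exists_dia_mem {l : ι → F} (hl : ∀ x, nm σ (l x) = 1) (hprod : ∏ x, l x = 1) :
    ∃ g ∈ M, ∀ x, (g : V ≃ₗ[F] V) (e x) = l x • e x := by
  obtain ⟨g, hg, hdet⟩ := exists_dia h he hl
  refine ⟨g, hH g (by rw [MonoidHom.mem_ker, Units.ext_iff, hdet, hprod, Units.val_one]) ?_, hg⟩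
  intro x x' hxx y y' hy hy'
  rw [hg, map_smul, Finsupp.smul_apply, repr_single] at hy hy'
  simp only [smul_eq_mul, mul_ite, mul_one, mul_zero, ne_eq, ite_eq_right_iff, not_forall] at hy hy'
  rw [← hy.1, ← hy'.1, hxx]

/-- A monomial element for a permutation compatible with the blocks. -/
theorem exists_perm_mem (π : Equiv.Perm ι) (hπ : ∀ x x', bl x = bl x' → bl (π x) = bl (π x')) :
    ∃ g ∈ M, ∃ l : ι → F, (∀ x, nm σ (l x) = 1) ∧ ∀ x, (g : V ≃ₗ[F] V) (e x) = l x • e (π x) := by
  by_cases hι : Nonempty ι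
  · obtain ⟨x₀⟩ := hι
    obtain ⟨g, hg, l, hl, -, hgl⟩ := exists_su_of_family h he (fun x => e (π x)) (fun i j => by
      rw [he]; simp [π.injective.eq_iff]) x₀
    refine ⟨g, hH g hg ?_, l, hl, hgl⟩
    intro x x' hxx y y' hy hy'
    rw [hgl, map_smul, Finsupp.smul_apply, repr_single] at hy hy'
    simp only [smul_eq_mul, mul_ite, mul_one, mul_zero, ne_eq, ite_eq_right_iff, not_forall] at hy hy'
    rw [← hy.1, ← hy'.1, hπ x x' hxx]
  · exact ⟨1, M.one_mem, fun _ => 1, fun x => absurd ⟨x⟩ hι, fun x => absurd ⟨x⟩ hι⟩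

/-- Rescaling coordinates, when the product is one or a coordinate vanishes. -/
theorem ctr_scale {v : V} (hv : v ∈ Ctr h M) {l : ι → F} (hl : ∀ x, nm σ (l x) = 1)
    (hprod : ∏ x, l x = 1 ∨ ∃ m, e.repr v m = 0) :
    ∃ w ∈ Ctr h M, ∀ x, e.repr w x = l x * e.repr v x := by
  rcases hprod with hp | ⟨m, hm⟩
  · obtain ⟨g, hgM, hg⟩ := exists_dia_mem h he hH hl hp
    exact ⟨_, ctr_conj h hv hgM, dia_repr h he hg v⟩
  · let l' : ι → F := Function.update l m (∏ x ∈ Finset.univ.erase m, l x)⁻¹
    have hne : ∏ x ∈ Finset.univ.erase m, l x ≠ 0 := Finset.prod_ne_zero_iff.2 fun x _ => ne_zero_of_norm_one (hl x)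
    have hnp : nm σ (∏ x ∈ Finset.univ.erase m, l x) = 1 :=
      Finset.prod_induction _ (fun y => nm σ y = 1) (fun a b ha hb => by rw [nm_mul, ha, hb, one_mul])
        (by simp [nm]) fun x _ => hl x
    obtain ⟨g, hgM, hg⟩ := exists_dia_mem h he hH (l := l') (fun x => by
        simp only [l', Function.update_apply]
        split_ifs
        · rw [nm_inv, hnp, inv_one]
        · exact hl x)
      (by
        rw [← Finset.mul_prod_erase _ _ (Finset.mem_univ m),
          Finset.prod_congr rfl (g := l) fun x hx => Function.update_of_ne (Finset.ne_of_mem_erase hx) _ _]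
        simp only [l', Function.update_self]
        exact inv_mul_cancel₀ hne)
    refine ⟨_, ctr_conj h hv hgM, fun x => ?_⟩
    rw [dia_repr h he hg]
    by_cases hx : x = m
    · subst hx; rw [hm, mul_zero, mul_zero]
    · simp only [l', Function.update_of_ne hx]

/-- From one centre, a centre supported on any two coordinates of its support. -/
theorem ctr_pair [Finite F] {v : V} (hv : v ∈ Ctr h M) {a b : ι} (hab : a ≠ b) (ha : e.repr v a ≠ 0)
    (hb : e.repr v b ≠ 0)
    (hz : nm σ (e.repr v a) + nm σ (e.repr v b) = 0 ∨ ∃ m, e.repr v m = 0) :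
    ∃ y ∈ Ctr h M, supp e y = {a, b} := by
  classical
  have hσ := h.invol
  set s := e.repr v a
  set t := e.repr v b
  obtain ⟨l, m, hl, hl1, hm, hm1, hsum, hne, hpm⟩ : ∃ l m : F, nm σ l = 1 ∧ l ≠ 1 ∧ nm σ m = 1 ∧ m ≠ 1 ∧
      nm σ s * nm σ (l - 1) + nm σ t * nm σ (m - 1) = 0 ∧ nm σ s * (l - 1) + nm σ t * (m - 1) ≠ 0 ∧
      (l * m = 1 ∨ ∃ m, e.repr v m = 0) := by
    by_cases hst : nm σ s + nm σ t = 0
    · obtain ⟨l, hl, hl1, hl2⟩ := exists_circ_ne hσ (1 : F) (-1)
      refine ⟨l, σ l, hl, hl1, by rw [nm_conj hσ, hl], fun e' => hl1 ((map_eq_one_iff σ σ.injective).1 e'),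
        ?_, ?_, Or.inl hl⟩
      · rw [show nm σ (σ l - 1) = nm σ (l - 1) by rw [← nm_conj hσ (l - 1), map_sub, map_one]]
        linear_combination nm σ (l - 1) * hst
      · have hs : nm σ s ≠ 0 := fun e' => ha (nm_eq_zero.1 e')
        intro e'
        have e2 : nm σ s * (l - σ l) = 0 := by linear_combination e' - (σ l - 1) * hst
        have e3 : l * l = 1 := by
          have := (mul_eq_zero.1 e2).resolve_left hs
          have hl' : l * σ l = 1 := hl
          linear_combination l * this + hl'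
        rcases mul_self_eq_one_iff.1 e3 with e4 | e4
        · exact hl1 e4
        · exact hl2 e4
    · have hm' := hz.resolve_left hst
      have hs : nm σ s ≠ 0 := fun e' => ha (nm_eq_zero.1 e')
      have ht : nm σ t ≠ 0 := fun e' => hb (nm_eq_zero.1 e')
      obtain ⟨l, m, hl, hl1, hm, hm1, hlm⟩ := exists_ratio hσ (r := -(nm σ t) / nm σ s)
        (by rw [map_div₀, map_neg, nm_fixed hσ, nm_fixed hσ]) (div_ne_zero (neg_ne_zero.2 ht) hs)
      have hsum : nm σ s * nm σ (l - 1) + nm σ t * nm σ (m - 1) = 0 := by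
        rw [hlm]; field_simp; ring
      refine ⟨l, m, hl, hl1, hm, hm1, hsum, fun e' => hst ?_, Or.inr hm'⟩
      have e1 : nm σ (nm σ s * (l - 1)) = nm σ (nm σ t * (m - 1)) := by
        rw [eq_neg_of_add_eq_zero_left e']; simp [nm]
      have e5 : ∀ x : F, nm σ (nm σ x) = nm σ x * nm σ x := fun x => by
        show nm σ x * σ (nm σ x) = _
        rw [nm_fixed hσ]
      rw [nm_mul, nm_mul, e5, e5] at e1
      have e2 : nm σ t * nm σ (m - 1) * (nm σ s + nm σ t) = 0 := by
        linear_combination nm σ s * hsum - e1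
      exact (mul_eq_zero.1 e2).resolve_left (mul_ne_zero ht fun e3 => hm1 (sub_eq_zero.1 (nm_eq_zero.1 e3)))
  let L : ι → F := fun x => if x = a then l else if x = b then m else 1
  have hL : ∀ x, nm σ (L x) = 1 := fun x => by
    simp only [L]; split_ifs <;> first | assumption | simp [nm]
  obtain ⟨w, hw, hwr⟩ := ctr_scale h he hH hv (l := L) hL (hpm.imp_left fun e' => by
    rw [Finset.prod_eq_mul a b hab (fun c _ hc => by simp [L, hc.1, hc.2]) (by simp) (by simp)]
    simp [L, hab.symm, e'])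
  have hBvw : B v w = nm σ s * (l - 1) + nm σ t * (m - 1) := by
    have h0 := (self_eq he v).symm.trans hv.1
    rw [apply_eq he, ← add_zero (_ + _), ← h0, ← sub_eq_iff_eq_add, ← Finset.sum_sub_distrib,
      Finset.sum_eq_add a b hab (fun c _ hc => by rw [hwr]; simp [L, hc.1, hc.2, nm, mul_comm]) (by simp) (by simp),
      hwr, hwr]
    simp only [L, hab.symm, if_true, if_false, nm, s, t]
    ring
  have htr : ∀ x : F, nm σ x = 1 → (x - 1) + σ (x - 1) = -nm σ (x - 1) := fun x hx => by
    simp only [nm, map_sub, map_one] at hx ⊢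
    linear_combination hx
  refine ⟨v + (-1 : F) • w, ctr_add h hv (ctr_smul h hw _) ?_ ?_, ?_⟩
  · rw [smul_right, hBvw]; exact mul_ne_zero (neg_ne_zero.2 one_ne_zero) hne
  · rw [smul_right, hBvw]
    simp only [map_mul, map_add, map_neg, map_one, nm_fixed hσ]
    linear_combination hsum - nm σ s * htr l hl - nm σ t * htr m hm
  · ext x
    rw [mem_supp, map_add, map_smul, Finsupp.add_apply, Finsupp.smul_apply, hwr, smul_eq_mul, Finset.mem_insert,
      Finset.mem_singleton]
    by_cases hxa : x = a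
    · subst hxa
      simp only [L, if_true, true_or, iff_true]
      rw [show s + -1 * (l * s) = (1 - l) * s by ring]
      exact mul_ne_zero (sub_ne_zero.2 (Ne.symm hl1)) ha
    by_cases hxb : x = b
    · subst hxb
      simp only [L, if_true, if_neg hxa, or_true, iff_true]
      rw [show t + -1 * (m * t) = (1 - m) * t by ring]
      exact mul_ne_zero (sub_ne_zero.2 (Ne.symm hm1)) hb
    simp [L, hxa, hxb]

/-- One centre supported on two coordinates gives all isotropic vectors supported there. -/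
theorem two_of_pair (hι : 3 ≤ Fintype.card ι) {a b : ι} (hab : a ≠ b) {y : V} (hy : y ∈ Ctr h M)
    (hys : supp e y = {a, b}) {w : V} (hw : supp e w ⊆ {a, b}) (hww : B w w = 0) : w ∈ Ctr h M := by
  classical
  obtain ⟨m, -, hm⟩ := Finset.exists_mem_notMem_of_card_lt_card (s := ({a, b} : Finset ι)) (t := Finset.univ)
    (lt_of_le_of_lt Finset.card_le_two (by rw [Finset.card_univ]; omega))
  simp only [Finset.mem_insert, Finset.mem_singleton, not_or] at hm
  have hout : ∀ z : V, supp e z ⊆ {a, b} → ∀ x, x ≠ a → x ≠ b → e.repr z x = 0 := fun z hz x h1 h2 =>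
    not_mem_supp.1 fun hx => by simpa [h1, h2] using hz hx
  have hnorm : ∀ z : V, supp e z ⊆ {a, b} → B z z = 0 → nm σ (e.repr z b) = -nm σ (e.repr z a) := by
    intro z hz hzz
    rw [self_eq he, Finset.sum_eq_add a b hab
      (fun c _ hc => by rw [hout z hz c hc.1 hc.2, nm_zero]) (by simp) (by simp)] at hzz
    linear_combination hzz
  have hya : e.repr y a ≠ 0 := mem_supp.1 (by rw [hys]; simp)
  have hyb : e.repr y b ≠ 0 := mem_supp.1 (by rw [hys]; simp)
  set c := e.repr w a / e.repr y a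
  by_cases hwa : e.repr w a = 0
  · have hwb : e.repr w b = 0 := by
      have := hnorm w hw hww
      rw [hwa, nm_zero, neg_zero] at this
      exact nm_eq_zero.1 this
    have : w = 0 := by
      refine e.repr.injective (Finsupp.ext fun x => ?_)
      by_cases h1 : x = a
      · subst h1; simp [hwa]
      by_cases h2 : x = b
      · subst h2; simp [hwb]
      simp [hout w hw x h1 h2]
    subst this
    exact ctr_zero h
  let l : ι → F := Function.update (fun _ => 1) b (e.repr w b / (c * e.repr y b))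
  have hl : ∀ x, nm σ (l x) = 1 := fun x => by
    simp only [l, Function.update_apply]
    split_ifs
    · rw [nm_div, nm_mul, nm_div, hnorm w hw hww, hnorm y hys.le hy.1]
      have h1 : nm σ (e.repr w a) ≠ 0 := fun e' => hwa (nm_eq_zero.1 e')
      have h2 : nm σ (e.repr y a) ≠ 0 := fun e' => hya (nm_eq_zero.1 e')
      field_simp
    · simp [nm]
  obtain ⟨z, hz, hzr⟩ := ctr_scale h he hH (ctr_smul h hy c) hl
    (Or.inr ⟨m, by rw [map_smul, Finsupp.smul_apply, hout y hys.le m hm.1 hm.2, smul_zero]⟩)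
  convert hz using 1
  refine e.repr.injective (Finsupp.ext fun x => ?_)
  rw [hzr, map_smul, Finsupp.smul_apply, smul_eq_mul]
  by_cases h2 : x = b
  · subst h2
    simp only [l, Function.update_self]
    have hc : c ≠ 0 := div_ne_zero hwa hya
    field_simp
  rw [show l x = 1 from Function.update_of_ne h2 _ _, one_mul]
  by_cases h1 : x = a
  · subst h1; exact (div_mul_cancel₀ _ hya).symm
  rw [hout w hw x h1 h2, hout y hys.le x h1 h2, mul_zero]

/-- Two-coordinate centres move along block compatible permutations. -/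
theorem two_perm (hι : 3 ≤ Fintype.card ι) {a b : ι} (hab : a ≠ b) {y : V} (hy : y ∈ Ctr h M)
    (hys : supp e y = {a, b}) (π : Equiv.Perm ι) (hπ : ∀ x x', bl x = bl x' → bl (π x) = bl (π x')) :
    ∀ w, supp e w ⊆ {π a, π b} → B w w = 0 → w ∈ Ctr h M := by
  intro w hw hww
  obtain ⟨g, hg, l, hl, hgl⟩ := exists_perm_mem h he hH π hπ
  refine two_of_pair h he hH hι (π.injective.ne hab) (ctr_conj h hy hg) ?_ hw hww
  have hy' : y = e.repr y a • e a + e.repr y b • e b := by
    conv_lhs => rw [← e.sum_repr y]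
    rw [Finset.sum_eq_add a b hab (fun c _ hc => ?_) (by simp) (by simp)]
    rw [show e.repr y c = 0 from not_mem_supp.1 (by rw [hys]; simp [hc.1, hc.2]), zero_smul]
  conv_lhs => rw [hy', map_add, map_smul, map_smul, hgl, hgl, smul_smul, smul_smul]
  exact supp_pair (π.injective.ne hab)
    (mul_ne_zero (mem_supp.1 (by rw [hys]; simp)) (ne_zero_of_norm_one (hl a)))
    (mul_ne_zero (mem_supp.1 (by rw [hys]; simp)) (ne_zero_of_norm_one (hl b)))

end CfsgLib.Geo.UnitDecomp
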