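/-
From all isotropic vectors supported on two coordinates to all isotropic vectors.
-/
import Cfsg.Agent.Lib.Geo.UnitDecomp.Frame

set_option autoImplicit false
set_option linter.unusedSectionVars false
set_option linter.style.haveILetI false

namespace CfsgLib.Geo.UnitDecomp

open CfsgLib.Classical CfsgLib.Classical.Herm CfsgLib.Geo.UnitMax

variable {F : Type*} [Field F] {σ : F →+* F}

/-- Two coordinates with prescribed product against a given pair and prescribed norm. -/
theorem pair_solve [Finite F] (hσ : IsInvol σ) {p p' γ ρ : F} (hp : p ≠ 0) (hγ : γ ≠ 0) (hρ : σ ρ = ρ) :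
    ∃ z z' : F, σ p * z + σ p' * z' = γ ∧ nm σ z + nm σ z' = ρ := by
  set P := nm σ p + nm σ p'
  have hPf : σ P = P := by rw [map_add, nm_fixed hσ, nm_fixed hσ]
  have hsp : σ p ≠ 0 := (map_ne_zero σ).2 hp
  by_cases hP : P = 0
  · have hP' : p * σ p + p' * σ p' = 0 := hP
    obtain ⟨x, hx⟩ := hσ.exists_trace_eq (μ := ρ - nm σ (γ / σ p)) (by rw [map_sub, hρ, nm_fixed hσ])
    refine ⟨γ / σ p + x / σ γ * p, x / σ γ * p', ?_, ?_⟩
    · have h2 : σ γ ≠ 0 := (map_ne_zero σ).2 hγ
      field_simp
      linear_combination x * hP'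
    · have h2 : σ γ ≠ 0 := (map_ne_zero σ).2 hγ
      simp only [nm, map_add, map_mul, map_div₀, hσ.invol] at hx ⊢
      field_simp at hx ⊢
      linear_combination γ * σ γ * hx + x * σ x * p * σ p * hP'
  · obtain ⟨b, hb⟩ := hσ.exists_norm_eq (μ := (ρ - nm σ γ / P) / P) (by
      rw [map_div₀, map_sub, map_div₀, hρ, nm_fixed hσ, hPf])
    refine ⟨γ * p / P + b * σ p', γ * p' / P - b * σ p, ?_, ?_⟩
    · field_simp
      simp only [P, nm]
      ring
    · simp only [nm, map_add, map_sub, map_mul, map_div₀, hσ.invol, hPf]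
      simp only [nm] at hb
      field_simp at hb ⊢
      have hP' : P = p * σ p + p' * σ p' := rfl
      linear_combination P * hb - (γ * σ γ + P ^ 2 * (b * σ b)) * hP'

variable {V : Type*} [AddCommGroup V] [Module F V] {B : V →ₛₗ[σ] V →ₗ[F] F} {ι : Type} [Fintype ι]
  [DecidableEq ι] {e : Module.Basis ι F V} [DecidableEq F] [FiniteDimensional F V] (h : IsHerm B)
  {M : Subgroup (HU B)} (he : IsFrame B e) {β : Type} {bl : ι → β}
  (hH : ∀ g ∈ HSU B, Blk e bl g → g ∈ M)
include h he hH

section

variable [Finite F] (hι : 4 ≤ Fintype.card ι)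
  (htwo : ∀ a b : ι, a ≠ b → ∀ w, supp e w ⊆ {a, b} → B w w = 0 → w ∈ Ctr h M)

omit hH in
theorem apply_single (i : ι) (v : V) : B (e i) v = e.repr v i := (repr_eq he v i).symm

include hι htwo in
/-- Three coordinates whose norms satisfy the mixing condition. -/
theorem ctr_three_good {i j l : ι} (hij : i ≠ j) (hjl : j ≠ l) (hil : i ≠ l) {w : V}
    (hw : supp e w = {i, j, l}) (hww : B w w = 0) {θ : F} (hθ : θ + σ θ = 0)
    (hsq : θ ^ 2 = -(nm σ (e.repr w i) * nm σ (e.repr w l))) : w ∈ Ctr h M := by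
  have hσ := h.invol
  set a := e.repr w i
  set b := e.repr w j
  set c := e.repr w l
  have ha : a ≠ 0 := mem_supp.1 (by rw [hw]; simp)
  have hb : b ≠ 0 := mem_supp.1 (by rw [hw]; simp)
  have hc : c ≠ 0 := mem_supp.1 (by rw [hw]; simp)
  obtain ⟨b₁, hb₁⟩ := hσ.exists_norm_eq (μ := -nm σ a) (by rw [map_neg, nm_fixed hσ])
  have hb₁' : nm σ b₁ = -nm σ a := hb₁
  have hb0 : b₁ ≠ 0 := fun e' => ha (nm_eq_zero.1 (by simpa [e', nm_zero] using hb₁'.symm))
  have hθ0 : θ ≠ 0 := fun e' => by
    rw [e', zero_pow two_ne_zero, eq_comm, neg_eq_zero, mul_eq_zero] at hsq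
    exact hsq.elim (fun e1 => ha (nm_eq_zero.1 e1)) fun e1 => hc (nm_eq_zero.1 e1)
  set y₂ := θ / σ b₁
  have hy₂ : nm σ y₂ = -nm σ c := by
    have hA : nm σ a ≠ 0 := fun e' => ha (nm_eq_zero.1 e')
    rw [nm_div, nm_conj hσ, hb₁', nm, eq_neg_of_add_eq_zero_right hθ, div_eq_iff (neg_ne_zero.2 hA)]
    linear_combination -hsq
  have hv : a • e i + b₁ • e j ∈ Ctr h M := htwo i j hij _ (le_of_eq (supp_pair hij ha hb0)) (by
    simp only [map_add, LinearMap.add_apply, smul_left, smul_right, he i i, he i j, he j i, he j j, if_true,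
      if_neg hij, if_neg hij.symm]
    simp only [nm] at hb₁'
    linear_combination hb₁')
  have hy20 : y₂ ≠ 0 := div_ne_zero hθ0 ((map_ne_zero σ).2 hb0)
  have hy : y₂ • e j + c • e l ∈ Ctr h M := htwo j l hjl _ (le_of_eq (supp_pair hjl hy20 hc)) (by
    simp only [map_add, LinearMap.add_apply, smul_left, smul_right, he j j, he j l, he l j, he l l, if_true,
      if_neg hjl, if_neg hjl.symm]
    simp only [nm] at hy₂
    linear_combination hy₂)
  have hB : B (a • e i + b₁ • e j) (y₂ • e j + c • e l) = θ := by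
    simp only [map_add, LinearMap.add_apply, smul_left, smul_right, he i j, he i l, he j j, he j l, if_true,
      if_neg hij, if_neg hil, if_neg hjl, y₂]
    field_simp [(map_ne_zero σ).2 hb0]
    ring
  have hz := ctr_add h hv hy (by rw [hB]; exact hθ0) (by rw [hB]; exact hθ)
  set z := a • e i + b₁ • e j + (y₂ • e j + c • e l)
  have hzr : ∀ x, e.repr z x = (if i = x then a else 0) + (if j = x then b₁ + y₂ else 0) + (if l = x then c else 0) := by
    intro x
    simp only [z, map_add, map_smul, Finsupp.coe_add, Finsupp.coe_smul, Pi.add_apply, Pi.smul_apply, repr_single,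
      smul_eq_mul, mul_ite, mul_one, mul_zero]
    split_ifs <;> ring
  have hwr : ∀ x, x ≠ i → x ≠ j → x ≠ l → e.repr w x = 0 := fun x h1 h2 h3 =>
    not_mem_supp.1 (by rw [hw]; simp [h1, h2, h3])
  have hzj : e.repr z j = b₁ + y₂ := by rw [hzr, if_neg hij, if_pos rfl, if_neg hjl.symm]; ring
  have hzi : e.repr z i = a := by rw [hzr, if_pos rfl, if_neg hij.symm, if_neg hil.symm]; ring
  have hzl : e.repr z l = c := by rw [hzr, if_neg hil, if_neg hjl, if_pos rfl]; ring
  have hzo : ∀ x, x ≠ i → x ≠ j → x ≠ l → e.repr z x = 0 := fun x h1 h2 h3 => by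
    rw [hzr, if_neg h1.symm, if_neg h2.symm, if_neg h3.symm]; ring
  have hnorm : ∀ v : V, (∀ x, x ≠ i → x ≠ j → x ≠ l → e.repr v x = 0) →
      B v v = nm σ (e.repr v i) + nm σ (e.repr v j) + nm σ (e.repr v l) := by
    intro v hv'
    rw [self_eq he, ← Finset.sum_subset (Finset.subset_univ ({i, j, l} : Finset ι)) (fun x _ hx => by
      simp only [Finset.mem_insert, Finset.mem_singleton, not_or] at hx
      rw [hv' x hx.1 hx.2.1 hx.2.2, nm_zero]), Finset.sum_insert (by simp [hij, hil]),
      Finset.sum_pair hjl]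
    ring
  have hN : nm σ (b₁ + y₂) = nm σ b := by
    have e1 := (hnorm z hzo).symm.trans hz.1
    have e2 := (hnorm w hwr).symm.trans hww
    rw [hzi, hzj, hzl] at e1
    linear_combination e1 - e2
  have hbb : b₁ + y₂ ≠ 0 := fun e' => hb (nm_eq_zero.1 (by rw [← hN, e', nm_zero]))
  obtain ⟨m, -, hm⟩ := Finset.exists_mem_notMem_of_card_lt_card (s := ({i, j, l} : Finset ι)) (t := Finset.univ)
    (lt_of_le_of_lt Finset.card_le_three (by rw [Finset.card_univ]; omega))
  simp only [Finset.mem_insert, Finset.mem_singleton, not_or] at hm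
  obtain ⟨u, hu, hur⟩ := ctr_scale h he hH hz (l := Function.update (fun _ => 1) j (b / (b₁ + y₂))) (fun x => by
    simp only [Function.update_apply]
    split_ifs
    · rw [nm_div, hN, div_self fun e' => hb (nm_eq_zero.1 e')]
    · simp [nm]) (Or.inr ⟨m, hzo m hm.1 hm.2.1 hm.2.2⟩)
  convert hu using 1
  refine e.repr.injective (Finsupp.ext fun x => ?_)
  rw [hur]
  by_cases h2 : x = j
  · subst h2
    rw [Function.update_self, hzj, div_mul_cancel₀ _ hbb]
  rw [Function.update_of_ne h2, one_mul]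
  by_cases h1 : x = i
  · subst h1; rw [hzi]
  by_cases h3 : x = l
  · subst h3; rw [hzl]
  rw [hwr x h1 h2 h3, hzo x h1 h2 h3]

include hι htwo in
/-- Isotropic vectors supported on three coordinates. -/
theorem ctr_three (hq : 3 ≤ Nat.card (fixedSub σ)) {i j l : ι} (hij : i ≠ j) (hjl : j ≠ l) (hil : i ≠ l)
    {w : V} (hw : supp e w = {i, j, l}) (hww : B w w = 0) : w ∈ Ctr h M := by
  classical
  haveI := Fintype.ofFinite F
  have hσ := h.invol
  set a := e.repr w i
  set b := e.repr w j
  set c := e.repr w l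
  have ha : a ≠ 0 := mem_supp.1 (by rw [hw]; simp)
  have hb : b ≠ 0 := mem_supp.1 (by rw [hw]; simp)
  have hc : c ≠ 0 := mem_supp.1 (by rw [hw]; simp)
  by_cases hgood : ∃ θ : F, θ + σ θ = 0 ∧ θ ^ 2 = -(nm σ a * nm σ c)
  · obtain ⟨θ, h1, h2⟩ := hgood
    exact ctr_three_good h he hH hι htwo hij hjl hil hw hww h1 h2
  obtain ⟨η, hη0, hη, hη1⟩ := exists_skew_ne hσ hq (-1)
  obtain ⟨τ₀, hτ₀⟩ := hσ.exists_norm_eq (μ := (-1 : F)) (by rw [map_neg, map_one])
  have hτ₀' : nm σ τ₀ = -1 := hτ₀
  have hτ0 : τ₀ ≠ 0 := fun e' => by simp [e', nm_zero] at hτ₀'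
  -- moving the first coordinate along an isotropic line
  set K0 := ((Finset.univ.filter fun x : F => x + σ x = 0 ∧ x ≠ 0).image fun x => x ^ 2)
  set Bad := fixStar σ \ K0.image fun s => -s / nm σ c
  set X := (circ σ).image fun u => nm σ ((1 + η) * a + u * (σ τ₀ * η * b))
  obtain ⟨A', hA', hA'n⟩ : ∃ A' ∈ X, A' ∉ Bad := by
    refine Finset.exists_mem_notMem_of_card_lt_card ?_
    have h1 : (circ σ).card ≤ 2 * X.card := circle_fibre hσ (x := (1 + η) * a) (y := σ τ₀ * η * b)
      (mul_ne_zero (fun e' => hη1 (eq_neg_of_add_eq_zero_right e')) ha)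
      (mul_ne_zero (mul_ne_zero ((map_ne_zero σ).2 hτ0) hη0) hb) (circ σ) subset_rfl
    have h2 : (fixStar σ).card ≤ 2 * K0.card := card_skew_sq hσ
    have hC : nm σ c ≠ 0 := fun e' => hc (nm_eq_zero.1 e')
    have hsub : (K0.image fun s => -s / nm σ c) ⊆ fixStar σ := fun x hx => by
      obtain ⟨s, hs, rfl⟩ := Finset.mem_image.1 hx
      obtain ⟨θ, hθ, rfl⟩ := Finset.mem_image.1 hs
      obtain ⟨e1, e2⟩ := (Finset.mem_filter.1 hθ).2
      refine mem_fixStar.2 ⟨?_, div_ne_zero (neg_ne_zero.2 (pow_ne_zero 2 e2)) hC⟩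
      rw [map_div₀, map_neg, map_pow, nm_fixed hσ, eq_neg_of_add_eq_zero_right e1, neg_sq]
    have h3 : Bad.card + K0.card = (fixStar σ).card := by
      rw [Finset.card_sdiff_of_subset hsub, Finset.card_image_of_injective _ (fun x y e' => by
        simpa [div_left_inj' hC] using e')]
      have := Finset.card_le_card hsub
      rw [Finset.card_image_of_injective _ (fun x y e' => by simpa [div_left_inj' hC] using e')] at this
      omega
    have h4 := card_fixStar (σ := σ)
    rw [card_circ hσ] at h1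
    omega
  obtain ⟨u, hu, rfl⟩ := Finset.mem_image.1 hA'
  have hu' : nm σ u = 1 := mem_circ.1 hu
  set τ := τ₀ * σ u
  have hτ : nm σ τ = -1 := by rw [nm_mul, hτ₀', nm_conj hσ, hu', mul_one]
  have hτne : τ ≠ 0 := fun e' => by simp [e', nm_zero] at hτ
  set D := a + σ τ * b
  have hA'eq : nm σ (a + η * D) = nm σ ((1 + η) * a + u * (σ τ₀ * η * b)) := by
    congr 1
    simp only [D, τ, map_mul, hσ.invol]
    ring
  have hbad : ¬ (fun θ => θ + σ θ = 0 ∧ θ ^ 2 = -(nm σ a * nm σ c)) 0 ∧
      nm σ (a + η * D) ∉ Bad := ⟨fun e' => hgood ⟨0, e'⟩, hA'eq ▸ hA'n⟩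
  have hD : D ≠ 0 := by
    intro hD
    apply hbad.2
    rw [hD, mul_zero, add_zero, Finset.mem_sdiff, mem_fixStar]
    refine ⟨⟨nm_fixed hσ _, fun e' => ha (nm_eq_zero.1 e')⟩, fun hm => ?_⟩
    obtain ⟨s, hs, e1⟩ := Finset.mem_image.1 hm
    obtain ⟨θ, hθ, rfl⟩ := Finset.mem_image.1 hs
    refine hgood ⟨θ, (Finset.mem_filter.1 hθ).2.1, ?_⟩
    rw [div_eq_iff (fun e' => hc (nm_eq_zero.1 e'))] at e1
    linear_combination -e1
  set t := η * D
  have ht : t ≠ 0 := mul_ne_zero hη0 hD
  have hy : t • e i + (t * τ) • e j ∈ Ctr h M :=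
    htwo i j hij _ (le_of_eq (supp_pair hij ht (mul_ne_zero ht hτne))) (by
      simp only [map_add, LinearMap.add_apply, smul_left, smul_right, map_mul, he i i, he i j, he j i, he j j,
        if_true, if_neg hij, if_neg hij.symm]
      simp only [nm] at hτ
      linear_combination t * σ t * hτ)
  set y := t • e i + (t * τ) • e j
  have hBwy : B w y = η * nm σ D := by
    simp only [y, map_add, smul_right, ← h.symm (e i) w, ← h.symm (e j) w, ← repr_eq he]
    simp only [nm, D, t, a, b, map_add, map_mul, hσ.invol]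
    ring
  set x := w + y
  have hxi : e.repr x i = a + η * D := by
    simp [x, y, a, t, repr_single, hij.symm]
  have hxl : e.repr x l = c := by
    simp [x, y, c, repr_single, hil, hjl]
  have hxo : ∀ z, z ≠ i → z ≠ j → z ≠ l → e.repr x z = 0 := fun z h1 h2 h3 => by
    simp [x, y, repr_single, Ne.symm h1, Ne.symm h2, not_mem_supp.1 (show z ∉ supp e w by rw [hw]; simp [h1, h2, h3])]
  have hsk : η * nm σ D + σ (η * nm σ D) = 0 := by
    rw [map_mul, nm_fixed hσ, ← add_mul, hη, zero_mul]
  have hxx : B x x = 0 := by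
    simp only [x, map_add, LinearMap.add_apply, hww, hy.1, ← h.symm w y, hBwy]
    linear_combination hsk
  have hx : x ∈ Ctr h M := by
    by_cases hxi0 : e.repr x i = 0
    · refine htwo j l hjl x (fun z hz => ?_) hxx
      simp only [Finset.mem_insert, Finset.mem_singleton]
      by_contra hc'
      simp only [not_or] at hc'
      refine mem_supp.1 hz ?_
      by_cases h1 : z = i
      · rw [h1, hxi0]
      · exact hxo z h1 hc'.1 hc'.2
    by_cases hxj0 : e.repr x j = 0
    · refine htwo i l hil x (fun z hz => ?_) hxx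
      simp only [Finset.mem_insert, Finset.mem_singleton]
      by_contra hc'
      simp only [not_or] at hc'
      refine mem_supp.1 hz ?_
      by_cases h1 : z = j
      · rw [h1, hxj0]
      · exact hxo z hc'.1 h1 hc'.2
    have hm : nm σ (e.repr x i) ∈ fixStar σ := mem_fixStar.2 ⟨nm_fixed hσ _, fun e' => hxi0 (nm_eq_zero.1 e')⟩
    have hm' : nm σ (e.repr x i) ∈ K0.image fun s => -s / nm σ c := by
      by_contra hcn
      exact hbad.2 (hxi ▸ Finset.mem_sdiff.2 ⟨hm, hcn⟩)
    obtain ⟨s, hs, e1⟩ := Finset.mem_image.1 hm'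
    obtain ⟨θ, hθ, rfl⟩ := Finset.mem_image.1 hs
    refine ctr_three_good h he hH hι htwo hij hjl hil ?_ hxx (Finset.mem_filter.1 hθ).2.1 (by
      rw [hxl, ← e1, div_mul_cancel₀ _ (fun e' => hc (nm_eq_zero.1 e'))]; ring)
    ext z
    rw [mem_supp, Finset.mem_insert, Finset.mem_insert, Finset.mem_singleton]
    by_cases h1 : z = i
    · subst h1; simp [hxi0]
    by_cases h2 : z = j
    · subst h2; simp [hxj0]
    by_cases h3 : z = l
    · subst h3; simp [hxl, hc]
    simp [hxo z h1 h2 h3, h1, h2, h3]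
  have hfin := ctr_add h hx (ctr_smul h hy (-1 : F)) ?_ ?_
  · simpa [x] using hfin
  all_goals
    rw [smul_right, show x = w + y from rfl, map_add B w y, LinearMap.add_apply, hy.1, hBwy, add_zero]
  · exact mul_ne_zero (neg_ne_zero.2 one_ne_zero) (mul_ne_zero hη0 fun e' => hD (nm_eq_zero.1 e'))
  · rw [map_mul, map_neg, map_one, ← mul_add, hsk, mul_zero]

include hι htwo in
/-- All isotropic vectors are centres. -/
theorem ctr_all (hq : 3 ≤ Nat.card (fixedSub σ)) : ∀ w : V, B w w = 0 → w ∈ Ctr h M := by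
  have hσ := h.invol
  suffices H : ∀ (s : ℕ) (w : V), (supp e w).card ≤ s → B w w = 0 → w ∈ Ctr h M from
    fun w hw => H _ w le_rfl hw
  intro s
  induction s with
  | zero =>
    intro w hs _
    have : w = 0 := by
      by_contra h0
      have := (supp_nonempty (e := e) h0).card_pos
      omega
    exact this ▸ ctr_zero h
  | succ s ih =>
    intro w hs hww
    by_cases hlt : (supp e w).card ≤ s
    · exact ih w hlt hww
    have hcard : (supp e w).card = s + 1 := by omega
    rcases Nat.lt_or_ge (s + 1) 4 with h4 | h4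
    · rcases (show s + 1 = 1 ∨ s + 1 = 2 ∨ s + 1 = 3 by omega) with h1 | h1 | h1
      · obtain ⟨a, ha⟩ := Finset.card_eq_one.1 (hcard.trans h1)
        obtain ⟨b, hb⟩ : ∃ b, b ≠ a := Fintype.exists_ne_of_one_lt_card (by omega) a
        exact htwo a b hb.symm w (by rw [ha]; simp) hww
      · obtain ⟨a, b, hab, hw⟩ := Finset.card_eq_two.1 (hcard.trans h1)
        exact htwo a b hab w hw.le hww
      · obtain ⟨a, b, c, hab, hac, hbc, hw⟩ := Finset.card_eq_three.1 (hcard.trans h1)
        exact ctr_three h he hH hι htwo hq hab hbc hac hw hww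
    obtain ⟨j, hj⟩ := Finset.card_pos.1 (show 0 < (supp e w).card by omega)
    obtain ⟨i, i', hi, hi', hii⟩ := Finset.one_lt_card_iff.1 (show 1 < ((supp e w).erase j).card by
      rw [Finset.card_erase_of_mem hj]; omega)
    obtain ⟨hij, hiw⟩ := Finset.mem_erase.1 hi
    obtain ⟨hi'j, hi'w⟩ := Finset.mem_erase.1 hi'
    obtain ⟨θ, hθ0, hθ, hθν⟩ := exists_skew_ne hσ hq (nm σ (e.repr w j))
    obtain ⟨z, z', hzz, hnz⟩ := pair_solve hσ (p := e.repr w i) (p' := e.repr w i')
      (γ := θ - nm σ (e.repr w j)) (ρ := -nm σ (e.repr w j)) (mem_supp.1 hiw) (sub_ne_zero.2 hθν)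
      (by rw [map_neg, nm_fixed hσ])
    set y := z • e i + z' • e i' + e.repr w j • e j
    have hyr : ∀ x, e.repr y x = (if i = x then z else 0) + (if i' = x then z' else 0) +
        (if j = x then e.repr w j else 0) := by
      intro x
      simp only [y, map_add, map_smul, Finsupp.coe_add, Finsupp.coe_smul, Pi.add_apply, Pi.smul_apply, repr_single,
        smul_eq_mul, mul_ite, mul_one, mul_zero]
    have hyy : B y y = 0 := by
      simp only [y, map_add, LinearMap.add_apply, smul_left, smul_right, he i i, he i i', he i j, he i' i, he i' i',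
        he i' j, he j i, he j i', he j j, if_true, if_neg hii, if_neg hij, if_neg hi'j, if_neg hii.symm,
        if_neg hij.symm, if_neg hi'j.symm]
      simp only [nm] at hnz ⊢
      linear_combination hnz
    have hBwy : B w y = θ := by
      simp only [y, map_add, smul_right, ← h.symm (e i) w, ← h.symm (e i') w, ← h.symm (e j) w, ← repr_eq he]
      simp only [nm] at hzz ⊢
      linear_combination hzz
    have hy : y ∈ Ctr h M := ih y (by
      have : supp e y ⊆ {i, i', j} := fun x hx => by
        simp only [Finset.mem_insert, Finset.mem_singleton]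
        by_contra hc
        simp only [not_or] at hc
        refine mem_supp.1 hx ?_
        rw [hyr, if_neg (Ne.symm hc.1), if_neg (Ne.symm hc.2.1), if_neg (Ne.symm hc.2.2)]
        ring
      have := (Finset.card_le_card this).trans Finset.card_le_three
      omega) hyy
    have hxx : B (w - y) (w - y) = 0 := by
      simp only [map_sub, sub_left, LinearMap.sub_apply, hww, hyy, ← h.symm w y, hBwy]
      linear_combination -hθ
    have hx : w - y ∈ Ctr h M := ih (w - y) (by
      have : supp e (w - y) ⊆ (supp e w).erase j := fun x hx => by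
        rw [mem_supp, map_sub, Finsupp.sub_apply, hyr] at hx
        rw [Finset.mem_erase, mem_supp]
        refine ⟨fun e' => hx ?_, fun e' => hx ?_⟩
        · subst e'
          rw [if_neg hij, if_neg hi'j, if_pos rfl]; ring
        · rw [if_neg (fun e1 : i = x => mem_supp.1 hiw (e1 ▸ e')), if_neg (fun e1 : i' = x => mem_supp.1 hi'w (e1 ▸ e')),
            if_neg (fun e1 : j = x => mem_supp.1 hj (e1 ▸ e')), e']
          ring
      have := Finset.card_le_card this
      rw [Finset.card_erase_of_mem hj] at this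
      omega) hxx
    have := ctr_add h hx hy (by rw [sub_left, hyy, sub_zero, hBwy]; exact hθ0) (by rw [sub_left, hyy, sub_zero, hBwy]; exact hθ)
    rwa [sub_add_cancel] at this

end

/-- Over the smallest field a centre can be moved by transpositions of coordinates. -/
theorem ctr_swap (hq : Nat.card (fixedSub σ) = 2) [Finite F]
    (htwo : ∀ a b : ι, a ≠ b → ∀ w, supp e w ⊆ {a, b} → B w w = 0 → w ∈ Ctr h M)
    (hone : ∀ x : F, x ≠ 0 → nm σ x = 1) {v : V} (hv : v ∈ Ctr h M) {a b : ι} (ha : e.repr v a ≠ 0)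
    (hb : e.repr v b = 0) :
    ∃ v' ∈ Ctr h M, supp e v' = insert b ((supp e v).erase a) := by
  have hab : a ≠ b := fun e' => ha (e' ▸ hb)
  have h2 : (1 : F) + σ 1 = 0 := by
    rw [map_one]
    have : ((2 : ℕ) : fixedSub σ) = 0 := by
      haveI : Fintype (fixedSub σ) := Fintype.ofFinite _
      rw [← hq, Nat.card_eq_fintype_card, FiniteField.cast_card_eq_zero]
    have h0 := congrArg (fixedSub σ).subtype this
    rw [map_natCast, map_zero, Nat.cast_ofNat] at h0
    linear_combination h0
  have hw : e a + (1 : F) • e b ∈ Ctr h M := by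
    have hs := supp_pair (e := e) hab (one_ne_zero (α := F)) (one_ne_zero (α := F))
    rw [one_smul F (e a)] at hs
    refine htwo a b hab _ hs.le ?_
    simp only [map_add, LinearMap.add_apply, smul_left, smul_right, he a a, he a b, he b a, he b b, if_true,
      if_neg hab, if_neg hab.symm]
    linear_combination h2
  rw [one_smul] at hw
  set s := e.repr v a
  have hc : (1 : F) + σ 1 = 0 := h2
  refine ⟨_, ctr_conj h hv (hw.2 hw.1 1 hc), ?_⟩
  have hBw : B (e a + e b) v = s := by rw [map_add, LinearMap.add_apply, ← repr_eq he, ← repr_eq he, hb, add_zero]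
  ext x
  rw [mem_supp, h.tr_apply, one_mul, hBw]
  simp only [map_add, map_smul, Finsupp.coe_add, Finsupp.coe_smul, Pi.add_apply, Pi.smul_apply, repr_single,
    smul_eq_mul, Finset.mem_insert, Finset.mem_erase, mem_supp]
  have hneg : s + s = 0 := by
    have := h2; rw [map_one] at this
    linear_combination s * this
  by_cases h1 : a = x
  · subst h1; simp [hab, hab.symm, hneg, s]
  by_cases h3 : b = x
  · subst h3; simp [h1, hb, s, ha]
  simp [h1, h3, Ne.symm h1, Ne.symm h3]

end CfsgLib.Geo.UnitDecomp
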