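/-
The smallest field: from centres supported on two coordinates and one larger one to all isotropic vectors.
-/
import Cfsg.Agent.Lib.Geo.UnitDecomp.Up

set_option autoImplicit false
set_option linter.unusedSectionVars false
set_option linter.style.haveILetI false

namespace CfsgLib.Geo.UnitDecomp

open CfsgLib.Classical CfsgLib.Classical.Herm CfsgLib.Geo.UnitMax

variable {F : Type*} [Field F] [Finite F] {σ : F →+* F}

/-- The arithmetic of the field with four elements. -/
theorem four_facts (hσ : IsInvol σ) (hq : Nat.card (fixedSub σ) = 2) :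
    (2 : F) = 0 ∧ (∀ x : F, x ≠ 0 → nm σ x = 1) ∧
      ∃ w : F, w ≠ 0 ∧ w * w + w + 1 = 0 ∧ σ w = w * w := by
  have h2 : (2 : F) = 0 := by
    have : ((2 : ℕ) : fixedSub σ) = 0 := by
      haveI : Fintype (fixedSub σ) := Fintype.ofFinite _
      rw [← hq, Nat.card_eq_fintype_card, FiniteField.cast_card_eq_zero]
    have h0 := congrArg (fixedSub σ).subtype this
    rw [map_natCast, map_zero, Nat.cast_ofNat] at h0
    exact h0
  have hone : ∀ x : F, x ≠ 0 → nm σ x = 1 := by
    intro x hx
    classical
    haveI := Fintype.ofFinite F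
    have h := card_fixStar (σ := σ)
    rw [hq] at h
    exact Finset.card_le_one.1 (show (fixStar σ).card ≤ 1 by omega) _
      (mem_fixStar.2 ⟨nm_fixed hσ x, fun e => hx (nm_eq_zero.1 e)⟩) _ (mem_fixStar.2 ⟨map_one σ, one_ne_zero⟩)
  obtain ⟨w, hw, hw1, -⟩ := exists_circ_ne hσ (1 : F) 1
  have hsw : σ w = w * w := by rw [hσ.apply_eq_pow, hq, pow_two]
  refine ⟨h2, hone, w, ne_zero_of_norm_one hw, (mul_eq_zero.1 ?_).resolve_left (sub_ne_zero.2 hw1), hsw⟩
  rw [nm, hsw] at hw
  linear_combination hw

variable {V : Type*} [AddCommGroup V] [Module F V] {B : V →ₛₗ[σ] V →ₗ[F] F} {ι : Type} [Fintype ι]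
  [DecidableEq ι] {e : Module.Basis ι F V} [DecidableEq F] [FiniteDimensional F V] (h : IsHerm B)
  {M : Subgroup (HU B)} (he : IsFrame B e) {β : Type} {bl : ι → β}
  (hH : ∀ g ∈ HSU B, Blk e bl g → g ∈ M)
include h he hH

omit hH in
theorem self_card (hone : ∀ x : F, x ≠ 0 → nm σ x = 1) (v : V) : B v v = ((supp e v).card : F) := by
  rw [self_eq he, ← Finset.sum_subset (Finset.subset_univ (supp e v)) (fun x _ hx => by
    rw [not_mem_supp.1 hx, nm_zero]), Finset.sum_congr rfl fun x hx => hone _ (mem_supp.1 hx),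
    Finset.sum_const, nsmul_one]

omit hH in
theorem even_card (h2 : (2 : F) = 0) (hone : ∀ x : F, x ≠ 0 → nm σ x = 1) {v : V} (hv : B v v = 0) :
    Even (supp e v).card := by
  rw [self_card h he hone] at hv
  by_contra hodd
  obtain ⟨m, hm⟩ := Nat.not_even_iff_odd.1 hodd
  rw [hm] at hv
  push_cast at hv
  rw [h2, zero_mul, zero_add] at hv
  exact one_ne_zero hv

/-- Splitting off the coordinates in two odd sets. -/
theorem ctr_split (hq : Nat.card (fixedSub σ) = 2) {v : V} (hv : v ∈ Ctr h M) {P Q : Finset ι}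
    (hP : P ⊆ supp e v) (hQ : Q ⊆ supp e v) (hPQ : Disjoint P Q) (hPo : Odd P.card) (hQo : Odd Q.card)
    (hprod : (P.card = 3 ∧ Q.card = 3) ∨ ∃ m, e.repr v m = 0) :
    ∃ y ∈ Ctr h M, supp e y = P ∪ Q := by
  obtain ⟨h2, hone, ω, hω0, hω, hσω⟩ := four_facts h.invol hq
  have hω3 : ω * ω * ω = 1 := by linear_combination (ω - 1) * hω
  let L : ι → F := fun x => if x ∈ P then ω else if x ∈ Q then ω * ω else 1
  obtain ⟨w, hw, hwr⟩ := ctr_scale h he hH hv (l := L) (fun x => hone _ (by
    simp only [L]; split_ifs <;> simp [hω0])) (hprod.imp_left fun e' => by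
      have : ∀ x, L x = (if x ∈ P then ω else 1) * (if x ∈ Q then ω * ω else 1) := fun x => by
        simp only [L]
        split_ifs with h1 h2 <;> first | exact absurd h2 (Finset.disjoint_left.1 hPQ h1) | simp
      simp only [this, Finset.prod_mul_distrib, Finset.prod_ite_mem, Finset.univ_inter, Finset.prod_const, e'.1, e'.2]
      linear_combination (ω ^ 6 + ω ^ 3 + 1) * hω3)
  have hodd : ∀ {S : Finset ι}, Odd S.card → (S.card : F) = 1 := fun {S} hS => by
    obtain ⟨m, hm⟩ := hS
    rw [hm]; push_cast; rw [h2]; ring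
  have hone' : B v w = 1 := by
    have h0 := (self_card h he hone v).symm.trans hv.1
    have e1 : B v w = ∑ x ∈ supp e v, L x := by
      rw [apply_eq he, ← Finset.sum_subset (Finset.subset_univ (supp e v)) (fun x _ hx => by
        rw [not_mem_supp.1 hx, map_zero, zero_mul])]
      refine Finset.sum_congr rfl fun x hx => ?_
      have := hone _ (mem_supp.1 hx)
      rw [nm] at this
      rw [hwr]
      linear_combination L x * this
    have e2 : ∀ x, L x = 1 + (if x ∈ P then ω - 1 else 0) + (if x ∈ Q then ω * ω - 1 else 0) := fun x => by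
      simp only [L]
      split_ifs with h1 h2 <;> first | exact absurd h2 (Finset.disjoint_left.1 hPQ h1) | ring
    rw [e1, Finset.sum_congr rfl fun x _ => e2 x, Finset.sum_add_distrib, Finset.sum_add_distrib, Finset.sum_ite_mem,
      Finset.sum_ite_mem, Finset.inter_eq_right.2 hP, Finset.inter_eq_right.2 hQ, Finset.sum_const,
      Finset.sum_const, Finset.sum_const, nsmul_eq_mul, nsmul_eq_mul, nsmul_eq_mul, h0, hodd hPo, hodd hQo]
    linear_combination hω - 2 * h2
  have hsk : B v (-1 • w : V) + σ (B v (-1 • w : V)) = 0 := by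
    simp only [neg_one_smul, map_neg, hone', map_one]
    linear_combination -h2
  refine ⟨v + (-1 : F) • w, ctr_add h hv (ctr_smul h hw _) (by rw [smul_right, hone']; simp) ?_, ?_⟩
  · rw [smul_right, hone', mul_one, map_neg, map_one]
    linear_combination -h2
  ext x
  rw [mem_supp, map_add, map_smul, Finsupp.add_apply, Finsupp.smul_apply, hwr, smul_eq_mul, Finset.mem_union]
  rw [show e.repr v x + -1 * (L x * e.repr v x) = (1 - L x) * e.repr v x by ring]
  have hω1 : ω ≠ 1 := fun e' => one_ne_zero (α := F) (by rw [e'] at hω; linear_combination hω - h2)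
  have hωω : ω * ω ≠ 1 := fun e' => hω1 (by linear_combination hω3 - ω * e')
  simp only [L]
  by_cases h1 : x ∈ P
  · simp [h1, sub_ne_zero.2 (Ne.symm hω1), mem_supp.1 (hP h1)]
  by_cases h3 : x ∈ Q
  · simp [h1, h3, sub_ne_zero.2 (Ne.symm hωω), mem_supp.1 (hQ h3)]
  simp [h1, h3]

/-- All isotropic vectors are centres. -/
theorem ctr_all_two (hq : Nat.card (fixedSub σ) = 2) (hι : 6 ≤ Fintype.card ι)
    (htwo : ∀ a b : ι, a ≠ b → ∀ w, supp e w ⊆ {a, b} → B w w = 0 → w ∈ Ctr h M)
    {v : V} (hv : v ∈ Ctr h M) (hv4 : 4 ≤ (supp e v).card) (hv' : 7 ≤ Fintype.card ι ∨ (supp e v).card < Fintype.card ι) :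
    ∀ w : V, B w w = 0 → w ∈ Ctr h M := by
  classical
  obtain ⟨h2, hone, ω, hω0, hω, hσω⟩ := four_facts h.invol hq
  have hω3 : ω * ω * ω = 1 := by linear_combination (ω - 1) * hω
  have hzero : ∀ u : V, (supp e u).card < Fintype.card ι → ∃ m, e.repr u m = 0 := fun u hu => by
    obtain ⟨m, -, hm⟩ := Finset.exists_mem_notMem_of_card_lt_card (s := supp e u) (t := Finset.univ)
      (by rw [Finset.card_univ]; exact hu)
    exact ⟨m, not_mem_supp.1 hm⟩
  -- a centre with four coordinates
  obtain ⟨v₄, hv₄, hv₄c⟩ : ∃ u ∈ Ctr h M, (supp e u).card = 4 := by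
    have step : ∀ u ∈ Ctr h M, 4 ≤ (supp e u).card → (supp e u).card < Fintype.card ι →
        ∃ u' ∈ Ctr h M, (supp e u').card = 4 := by
      intro u hu h4 hlt
      obtain ⟨P, hP, hPc⟩ := Finset.exists_subset_card_eq (show 1 ≤ (supp e u).card by omega)
      obtain ⟨Q, hQ, hQc⟩ := Finset.exists_subset_card_eq (show 3 ≤ (supp e u \ P).card by
        rw [Finset.card_sdiff_of_subset hP]; omega)
      obtain ⟨y, hy, hys⟩ := ctr_split h he hH hq hu hP (fun x hx => (Finset.mem_sdiff.1 (hQ hx)).1)
        (Finset.disjoint_left.2 fun x h1 h2 => (Finset.mem_sdiff.1 (hQ h2)).2 h1) (by rw [hPc]; exact odd_one)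
        (by rw [hQc]; decide) (Or.inr (hzero u hlt))
      refine ⟨y, hy, ?_⟩
      rw [hys, Finset.card_union_of_disjoint (Finset.disjoint_left.2 fun x h1 h2 =>
        (Finset.mem_sdiff.1 (hQ h2)).2 h1), hPc, hQc]
    by_cases hlt : (supp e v).card < Fintype.card ι
    · exact step v hv hv4 hlt
    have h7 := hv'.resolve_right hlt
    have hfull : (supp e v).card = Fintype.card ι := le_antisymm (Finset.card_le_univ _) (not_lt.1 hlt)
    obtain ⟨P, hP, hPc⟩ := Finset.exists_subset_card_eq (show 3 ≤ (supp e v).card by omega)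
    obtain ⟨Q, hQ, hQc⟩ := Finset.exists_subset_card_eq (show 3 ≤ (supp e v \ P).card by
      rw [Finset.card_sdiff_of_subset hP]; omega)
    have hd : Disjoint P Q := Finset.disjoint_left.2 fun x h1 h2 => (Finset.mem_sdiff.1 (hQ h2)).2 h1
    obtain ⟨y, hy, hys⟩ := ctr_split h he hH hq hv hP (fun x hx => (Finset.mem_sdiff.1 (hQ hx)).1) hd
      (by rw [hPc]; decide) (by rw [hQc]; decide) (Or.inl ⟨hPc, hQc⟩)
    have hc : (supp e y).card = 6 := by rw [hys, Finset.card_union_of_disjoint hd, hPc, hQc]
    exact step y hy (by omega) (by omega)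
  -- every support of size four
  have hfour : ∀ (d : ℕ) (z : V), (supp e z).card = 4 → (supp e z \ supp e v₄).card ≤ d → ∀ u ∈ Ctr h M,
      supp e u = supp e v₄ → ∃ u' ∈ Ctr h M, supp e u' = supp e z := by
    intro d
    induction d generalizing v₄ with
    | zero =>
      intro z hz hd u hu hus
      refine ⟨u, hu, ?_⟩
      rw [hus]
      exact (Finset.eq_of_subset_of_card_le (Finset.sdiff_eq_empty_iff_subset.1 (Finset.card_eq_zero.1
        (Nat.le_zero.1 hd))) (by omega)).symm
    | succ d ih =>
      intro z hz hd u hu hus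
      by_cases hle : (supp e z \ supp e v₄).card ≤ d
      · exact ih _ hv₄ hv₄c z hz hle u hu hus
      obtain ⟨b, hb⟩ := Finset.card_pos.1 (show 0 < (supp e z \ supp e v₄).card by omega)
      obtain ⟨a, ha⟩ := Finset.card_pos.1 (show 0 < (supp e v₄ \ supp e z).card by
        rw [Finset.card_sdiff_comm (show (supp e v₄).card = (supp e z).card by omega)]; omega)
      obtain ⟨ha1, ha2⟩ := Finset.mem_sdiff.1 ha
      obtain ⟨hb1, hb2⟩ := Finset.mem_sdiff.1 hb
      obtain ⟨u', hu', hu's⟩ := ctr_swap h he hH hq htwo hone hu (a := a) (b := b)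
        (mem_supp.1 (hus ▸ ha1)) (not_mem_supp.1 (hus ▸ hb2))
      rw [hus] at hu's
      refine ih u' hu' ?_ z hz ?_ u' hu' rfl
      · rw [hu's, Finset.card_insert_of_notMem (fun e' => hb2 (Finset.mem_of_mem_erase e')),
          Finset.card_erase_of_mem ha1]
        omega
      · have : supp e z \ supp e u' ⊆ (supp e z \ supp e v₄).erase b := fun x hx => by
          obtain ⟨h1, h2⟩ := Finset.mem_sdiff.1 hx
          rw [hu's, Finset.mem_insert, Finset.mem_erase, not_or] at h2
          refine Finset.mem_erase.2 ⟨h2.1, Finset.mem_sdiff.2 ⟨h1, fun e' => h2.2 ⟨fun e1 => ha2 (e1 ▸ h1), e'⟩⟩⟩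
        have := Finset.card_le_card this
        rw [Finset.card_erase_of_mem hb] at this
        omega
  suffices H : ∀ (s : ℕ) (w : V), (supp e w).card ≤ s → B w w = 0 → w ∈ Ctr h M from
    fun w hw => H _ w le_rfl hw
  intro s
  induction s with
  | zero =>
    intro w hs _
    have : w = 0 := by
      by_contra h0
      have := (supp_nonempty (e := e) h0).card_pos
      omega
    exact this ▸ ctr_zero h
  | succ s ih =>
    intro z hs hzz
    by_cases hlt : (supp e z).card ≤ s
    · exact ih z hlt hzz
    obtain ⟨k, hk⟩ := even_card h he h2 hone hzz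
    rcases (show k = 0 ∨ k = 1 ∨ k = 2 ∨ 3 ≤ k by omega) with hk0 | hk1 | hk2 | hk3
    · omega
    · obtain ⟨a, b, hab, hw⟩ := Finset.card_eq_two.1 (show (supp e z).card = 2 by omega)
      exact htwo a b hab z hw.le hzz
    · have hz4 : (supp e z).card = 4 := by omega
      obtain ⟨u, hu, hus⟩ := hfour _ z hz4 le_rfl v₄ hv₄ rfl
      obtain ⟨u', hu', hur⟩ := ctr_scale h he hH hu
        (l := fun x => if e.repr z x = 0 then 1 else e.repr z x / e.repr u x) (fun x => by
          split_ifs with h0
          · simp [nm]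
          · refine hone _ (div_ne_zero h0 (mem_supp.1 (?_ : x ∈ supp e u)))
            rw [hus]; exact mem_supp.2 h0)
        (Or.inr (hzero u (by rw [hus]; omega)))
      convert hu' using 1
      refine e.repr.injective (Finsupp.ext fun x => ?_)
      rw [hur]
      by_cases h0 : e.repr z x = 0
      · rw [if_pos h0, h0, not_mem_supp.1 (show x ∉ supp e u by rw [hus]; exact not_mem_supp.2 h0), mul_zero]
      · rw [if_neg h0, div_mul_cancel₀ _ (mem_supp.1 (show x ∈ supp e u by rw [hus]; exact mem_supp.2 h0))]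
    obtain ⟨T, hT, hTc⟩ := Finset.exists_subset_card_eq (show 4 ≤ (supp e z).card by omega)
    obtain ⟨i, i', j, j', h01, h02, h03, h12, h13, h23, rfl⟩ : ∃ i i' j j' : ι, i ≠ i' ∧ i ≠ j ∧ i ≠ j' ∧ i' ≠ j ∧
        i' ≠ j' ∧ j ≠ j' ∧ T = {i, i', j, j'} := Finset.card_eq_four.1 hTc
    have hmem : ∀ x ∈ ({i, i', j, j'} : Finset ι), e.repr z x ≠ 0 := fun x hx => mem_supp.1 (hT hx)
    set zi := e.repr z i
    set zi' := e.repr z i'
    set w := (zi * (ω * ω)) • e i + (zi' * ω) • e i' + e.repr z j • e j + e.repr z j' • e j'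
    have hwr : ∀ x, e.repr w x = (if i = x then zi * (ω * ω) else 0) + (if i' = x then zi' * ω else 0) +
        (if j = x then e.repr z j else 0) + (if j' = x then e.repr z j' else 0) := fun x => by
      simp only [w, map_add, map_smul, Finsupp.coe_add, Finsupp.coe_smul, Pi.add_apply, Pi.smul_apply, repr_single,
        smul_eq_mul, mul_ite, mul_one, mul_zero]
    have hi : e.repr z i ≠ 0 := hmem i (by simp)
    have hi' : e.repr z i' ≠ 0 := hmem i' (by simp)
    have hj : e.repr z j ≠ 0 := hmem j (by simp)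
    have hj' : e.repr z j' ≠ 0 := hmem j' (by simp)
    have hsw : supp e w = {i, i', j, j'} := by
      ext x
      rw [mem_supp, hwr]
      simp only [Finset.mem_insert, Finset.mem_singleton]
      by_cases e0 : i = x
      · subst e0; simp [h01.symm, h02.symm, h03.symm, zi, hi, hω0]
      by_cases e1 : i' = x
      · subst e1; simp [h01, h12.symm, h13.symm, zi', hi', hω0]
      by_cases e2 : j = x
      · subst e2; simp [h02, h12, h23.symm, hj]
      by_cases e3 : j' = x
      · subst e3; simp [h03, h13, h23, hj']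
      simp [e0, e1, e2, e3, Ne.symm e0, Ne.symm e1, Ne.symm e2, Ne.symm e3]
    have hsx : supp e (z - w) = (supp e z) \ {j, j'} := by
      ext x
      rw [mem_supp, map_sub, Finsupp.sub_apply, hwr, Finset.mem_sdiff, mem_supp, Finset.mem_insert,
        Finset.mem_singleton]
      by_cases e0 : i = x
      · subst e0
        simp only [h01.symm, h02.symm, h03.symm, if_true, if_false, add_zero, ne_eq, h02, h03, or_self,
          not_false_eq_true, and_true]
        rw [show zi = e.repr z i from rfl, show e.repr z i - e.repr z i * (ω * ω) = e.repr z i * (-ω * ω + 1) by ring,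
          show -ω * ω + 1 = ω by linear_combination (-1 : F) * hω + h2]
        simp [hi, hω0]
      by_cases e1 : i' = x
      · subst e1
        simp only [h01, h12.symm, h13.symm, if_true, if_false, add_zero, zero_add, ne_eq, h12, h13, or_self,
          not_false_eq_true, and_true]
        rw [show zi' = e.repr z i' from rfl, show e.repr z i' - e.repr z i' * ω = e.repr z i' * (1 - ω) by ring,
          show 1 - ω = ω * ω by linear_combination (-1 : F) * hω + h2]
        simp [hi', hω0]
      by_cases e2 : j = x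
      · subst e2; simp [h02, h12, h23.symm]
      by_cases e3 : j' = x
      · subst e3; simp [h03, h13, h23]
      simp [e0, e1, e2, e3, Ne.symm e2, Ne.symm e3]
    have hxc : (supp e (z - w)).card = (supp e z).card - 2 := by
      rw [hsx, Finset.card_sdiff_of_subset (fun x hx => hT (by
        simp only [Finset.mem_insert, Finset.mem_singleton] at hx ⊢; tauto)), Finset.card_pair h23]
    have hwc : (supp e w).card = 4 := by rw [hsw]; simpa using hTc
    have hww : B w w = 0 := by
      rw [self_card h he hone, hwc]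
      push_cast
      linear_combination 2 * h2
    have hxx : B (z - w) (z - w) = 0 := by
      rw [self_card h he hone, hxc, show (supp e z).card - 2 = 2 * (k - 1) by omega]
      push_cast
      rw [h2, zero_mul]
    have hx := ih _ (by omega) hxx
    have hw := ih w (by omega) hww
    have hB : B (z - w) w = 1 := by
      rw [sub_left, hww, sub_zero]
      simp only [w, map_add, smul_right, ← h.symm (e i) z, ← h.symm (e i') z, ← h.symm (e j) z, ← h.symm (e j') z,
        ← repr_eq he]
      have n1 : zi * σ zi = 1 := hone _ hi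
      have n2 : zi' * σ zi' = 1 := hone _ hi'
      have n3 : e.repr z j * σ (e.repr z j) = 1 := hone _ hj
      have n4 : e.repr z j' * σ (e.repr z j') = 1 := hone _ hj'
      linear_combination ω * ω * n1 + ω * n2 + n3 + n4 + hω
    have := ctr_add h hx hw (by rw [hB]; exact one_ne_zero) (by rw [hB, map_one]; linear_combination h2)
    rwa [sub_add_cancel] at this

end CfsgLib.Geo.UnitDecomp
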