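/-
An overgroup of a block stabiliser in the unitary group contains a transvection group across two blocks.
-/
import Cfsg.Agent.Lib.Geo.UnitDecomp.UpTwo

set_option autoImplicit false
set_option linter.unusedSectionVars false
set_option linter.style.haveILetI false
set_option maxHeartbeats 800000

namespace CfsgLib.Geo.UnitDecomp

open CfsgLib.Classical CfsgLib.Classical.Herm CfsgLib.Geo.UnitMax

variable {F : Type*} [Field F] {σ : F →+* F} {V : Type*} [AddCommGroup V] [Module F V]
  {B : V →ₛₗ[σ] V →ₗ[F] F} {ι : Type} [Fintype ι] [DecidableEq ι] {e : Module.Basis ι F V} [DecidableEq F]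
  [FiniteDimensional F V] (h : IsHerm B) {M : Subgroup (HU B)} (he : IsFrame B e)
  {β : Type} {bl : ι → β} (hH : ∀ g ∈ HSU B, Blk e bl g → g ∈ M)
include h he hH

/-- A map sending every frame vector into its own block lies in `M`. -/
theorem mem_of_inside {g : HU B} (hg : g ∈ HSU B)
    (hin : ∀ x y, e.repr ((g : V ≃ₗ[F] V) (e x)) y ≠ 0 → bl y = bl x) : g ∈ M :=
  hH g hg fun x x' hxx y y' hy hy' => by rw [hin x y hy, hin x' y' hy', hxx]

/-- Isotropic vectors inside two coordinates of one block are centres. -/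
theorem block_pair {a b : ι} (hab : bl a = bl b) {w : V} (hw : supp e w ⊆ {a, b}) (hww : B w w = 0) :
    w ∈ Ctr h M := by
  refine ⟨hww, fun hv c hc => mem_of_inside h he hH (h.det_tr hv hc) fun x y hy => ?_⟩
  by_contra hne
  refine hy ?_
  rw [h.tr_apply, map_add, map_smul, Finsupp.add_apply, Finsupp.smul_apply, repr_single,
    if_neg (fun e' : x = y => hne (by rw [e'])), zero_add, smul_eq_mul, ← h.symm, ← repr_eq he]
  have hin : ∀ z, z ∈ supp e w → bl z = bl a := fun z hz => by
    rcases Finset.mem_insert.1 (hw hz) with e' | e'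
    · rw [e']
    · rw [Finset.mem_singleton.1 e', hab]
  by_cases h1 : x ∈ supp e w
  · by_cases h2 : y ∈ supp e w
    · exact absurd ((hin y h2).trans (hin x h1).symm) hne
    · rw [not_mem_supp.1 h2, mul_zero]
  · rw [not_mem_supp.1 h1, map_zero, mul_zero, zero_mul]

/-- Rotating two coordinates of one block. -/
theorem rot {v : V} (hv : v ∈ Ctr h M) {a b : ι} (hab : a ≠ b) (hbl : bl a = bl b) {z z' : F}
    (hz : nm σ z + nm σ z' = 1) :
    ∃ v' ∈ Ctr h M, (∀ x, x ≠ a → x ≠ b → e.repr v' x = e.repr v x) ∧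
      e.repr v' a = σ z * e.repr v a + σ z' * e.repr v b ∧
      nm σ (e.repr v' b) = nm σ (z * e.repr v b - z' * e.repr v a) := by
  have hσ := h.invol
  let f : ι → V := fun x => if x = a then z • e a + z' • e b else if x = b then (-σ z') • e a + σ z • e b else e x
  have hz' : z * σ z + z' * σ z' = 1 := hz
  have hf : ∀ i j, B (f i) (f j) = if i = j then 1 else 0 := by
    intro i j
    simp only [f]
    rcases (show i = a ∨ i = b ∨ (i ≠ a ∧ i ≠ b) by tauto) with hi | hi | ⟨hia, hib⟩ <;>
      rcases (show j = a ∨ j = b ∨ (j ≠ a ∧ j ≠ b) by tauto) with hj | hj | ⟨hja, hjb⟩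
    all_goals try subst hi
    all_goals try subst hj
    all_goals simp only [if_true, if_false, map_add, LinearMap.add_apply, smul_left, smul_right, map_neg,
      LinearMap.neg_apply, hσ.invol, he _ _, *, Ne.symm hab]
    all_goals try simp [*, Ne.symm hab]
    all_goals try (first | linear_combination hz' | ring1)
    all_goals (split_ifs <;> simp_all)
  obtain ⟨g, hg, l, hl, hl1, hgl⟩ := exists_su_of_family h he f hf b
  have hgM : g ∈ M := mem_of_inside h he hH hg fun x y hy => by
    rw [hgl, map_smul, Finsupp.smul_apply] at hy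
    by_contra hne
    refine hy ?_
    simp only [f]
    split_ifs with h1 h2
    · subst h1
      simp [show x ≠ y from fun e' => hne (by rw [e']), show b ≠ y from fun e' => hne (by rw [← e', hbl])]
    · subst h2
      simp [show x ≠ y from fun e' => hne (by rw [e']), show a ≠ y from fun e' => hne (by rw [← e', hbl])]
    · simp [show x ≠ y from fun e' => hne (by rw [e'])]
  refine ⟨_, ctr_conj h hv (M.inv_mem hgM), ?_⟩
  have hrepr : ∀ x, e.repr (((g⁻¹ : HU B) : V ≃ₗ[F] V) v) x = σ (l x) * B (f x) v := fun x => by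
    rw [repr_eq he, ← HU.map_eq g, ← LinearEquiv.mul_apply, ← Subgroup.coe_mul, mul_inv_cancel, hgl,
      OneMemClass.coe_one, LinearEquiv.coe_one, id, smul_left]
  refine ⟨fun x hxa hxb => ?_, ?_, ?_⟩
  · rw [hrepr, hl1 x hxb]; simp [f, hxa, hxb, repr_eq he]
  · rw [hrepr, hl1 a hab]; simp [f, repr_eq he, smul_left]
  · rw [hrepr, nm_mul, nm_conj hσ, hl, one_mul]
    simp only [f, if_neg (Ne.symm hab), if_true, map_add, LinearMap.add_apply, smul_left, map_neg, hσ.invol,
      ← repr_eq he]
    congr 1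
    ring

/-- A non-stabilising element maps an isotropic block vector across two blocks. -/
theorem exists_cross_vec [Finite F] (hfib : ∀ x, ∃ x', x' ≠ x ∧ bl x' = bl x) {g : HU B} (hg : g ∈ M)
    (hnb : ¬ Blk e bl g) : ∃ v ∈ Ctr h M, ∃ a c, bl a ≠ bl c ∧ e.repr v a ≠ 0 ∧ e.repr v c ≠ 0 := by
  classical
  haveI := Fintype.ofFinite F
  have hσ := h.invol
  by_contra! hno
  apply hnb
  obtain ⟨τ₀, hτ₀⟩ := hσ.exists_norm_eq (μ := (-1 : F)) (by rw [map_neg, map_one])
  obtain ⟨ζ, hζ, hζ1, -⟩ := exists_circ_ne hσ (1 : F) 1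
  have hτ0 : τ₀ ≠ 0 := fun e' => by rw [e', zero_mul] at hτ₀; exact one_ne_zero (neg_eq_zero.1 hτ₀.symm)
  have key : ∀ a b, a ≠ b → bl a = bl b → ∀ y y', e.repr ((g : V ≃ₗ[F] V) (e a)) y ≠ 0 →
      (e.repr ((g : V ≃ₗ[F] V) (e a)) y' ≠ 0 ∨ e.repr ((g : V ≃ₗ[F] V) (e b)) y' ≠ 0) → bl y = bl y' := by
    intro a b hab hbl y y' hy hy'
    have hiso : ∀ τ : F, τ * σ τ = -1 → (g : V ≃ₗ[F] V) (e a + τ • e b) ∈ Ctr h M := by
      intro τ hτ
      refine ctr_conj h (block_pair h he hH hbl ?_ ?_) hg
      · intro x hx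
        rw [mem_supp, map_add, map_smul, Finsupp.add_apply, Finsupp.smul_apply, repr_single, repr_single] at hx
        simp only [Finset.mem_insert, Finset.mem_singleton]
        by_contra hc
        simp only [not_or] at hc
        exact hx (by simp [Ne.symm hc.1, Ne.symm hc.2])
      · simp only [map_add, LinearMap.add_apply, smul_left, smul_right, he a a, he b b, he a b, he b a, if_neg hab,
          if_neg hab.symm, if_true]
        linear_combination hτ
    set v := (g : V ≃ₗ[F] V) (e a + τ₀ • e b)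
    set v' := (g : V ≃ₗ[F] V) (e a + (τ₀ * ζ) • e b)
    have hv : v ∈ Ctr h M := hiso τ₀ hτ₀
    have hv' : v' ∈ Ctr h M := hiso _ (by
      rw [map_mul]
      have hζ' : ζ * σ ζ = 1 := hζ
      linear_combination (ζ * σ ζ) * hτ₀ - hζ')
    have hne : B v v' ≠ 0 := by
      simp only [v, v', HU.map_eq, map_add, LinearMap.add_apply, smul_left, smul_right, he a a, he b b, he a b, he b a,
        if_neg hab, if_neg hab.symm, if_true]
      intro e'
      exact hζ1 (by linear_combination -e' + ζ * hτ₀)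
    obtain ⟨x, hx, hx'⟩ : ∃ x, e.repr v x ≠ 0 ∧ e.repr v' x ≠ 0 := by
      by_contra! hc
      refine hne ?_
      rw [apply_eq he]
      refine Finset.sum_eq_zero fun x _ => ?_
      by_cases h0 : e.repr v x = 0
      · rw [h0, map_zero, zero_mul]
      · rw [hc x h0, mul_zero]
    have hone : ∀ z, e.repr v z ≠ 0 ∨ e.repr v' z ≠ 0 → bl z = bl x := by
      rintro z (hz | hz) <;> by_contra hc
      · exact hx (hno v hv z x hc hz)
      · exact hx' (hno v' hv' z x hc hz)
    have hrec : ∀ z, e.repr ((g : V ≃ₗ[F] V) (e a)) z ≠ 0 ∨ e.repr ((g : V ≃ₗ[F] V) (e b)) z ≠ 0 →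
        bl z = bl x := by
      intro z hz
      refine hone z ?_
      by_contra! hc
      obtain ⟨h1, h2⟩ := hc
      simp only [v, v', map_add, map_smul, Finsupp.add_apply, Finsupp.smul_apply, smul_eq_mul] at h1 h2
      have h3 : τ₀ * (ζ - 1) * e.repr ((g : V ≃ₗ[F] V) (e b)) z = 0 := by linear_combination h2 - h1
      have h4 := (mul_eq_zero.1 h3).resolve_left (mul_ne_zero hτ0 (sub_ne_zero.2 hζ1))
      rw [h4, mul_zero, add_zero] at h1
      exact hz.elim (fun h5 => h5 h1) (fun h5 => h5 h4)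
    rw [hrec y (Or.inl hy), hrec y' hy']
  intro x x' hxx y y' hy hy'
  by_cases hne : x = x'
  · subst hne
    obtain ⟨b, hb, hbb⟩ := hfib x
    exact key x b hb.symm hbb.symm y y' hy (Or.inl hy')
  · exact key x x' hne hxx y y' hy (Or.inr hy')

/-- A vector across two blocks gives a two-coordinate centre across two blocks. -/
theorem exists_cross_pair [Finite F] (hfib : ∀ x, ∃ x', x' ≠ x ∧ bl x' = bl x) {v : V} (hv : v ∈ Ctr h M)
    {a c : ι} (hac : bl a ≠ bl c) (ha : e.repr v a ≠ 0) (hc : e.repr v c ≠ 0) :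
    ∃ a c, bl a ≠ bl c ∧ ∃ y ∈ Ctr h M, supp e y = {a, c} := by
  classical
  haveI := Fintype.ofFinite F
  have hσ := h.invol
  obtain ⟨b, hba, hbl⟩ := hfib a
  have hca : c ≠ a := fun e' => hac (by rw [e'])
  have hcb : c ≠ b := fun e' => hac (by rw [e', hbl])
  by_cases hb : e.repr v b = 0
  · exact ⟨a, c, hac, ctr_pair h he hH hv hca.symm ha hc (Or.inr ⟨b, hb⟩)⟩
  set p := e.repr v a
  set p' := e.repr v b
  by_cases hs : nm σ p + nm σ p' = 0
  · obtain ⟨τ, hτ⟩ := hσ.exists_norm_eq (μ := (-1 : F)) (by rw [map_neg, map_one])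
    have hγ : nm σ (e.repr v c * τ) = -nm σ (e.repr v c) := by
      rw [nm_mul, show nm σ τ = -1 from hτ]; ring
    have hγ0 : e.repr v c * τ ≠ 0 := fun e' => hc (nm_eq_zero.1 (neg_eq_zero.1 (by rw [← hγ, e', nm_zero])))
    obtain ⟨z, z', hzz, hnz⟩ := pair_solve hσ (p := p) (p' := p') (γ := σ (e.repr v c * τ)) (ρ := (1 : F)) ha
      ((map_ne_zero σ).2 hγ0) (map_one σ)
    obtain ⟨v', hv', hout, hva, -⟩ := rot h he hH hv hba.symm hbl.symm hnz
    have hva' : e.repr v' a = e.repr v c * τ := by
      rw [hva]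
      have := congrArg σ hzz
      simp only [map_add, map_mul, hσ.invol] at this
      linear_combination this
    exact ⟨a, c, hac, ctr_pair h he hH hv' hca.symm (by rw [hva']; exact hγ0) (by rw [hout c hca hcb]; exact hc)
      (Or.inl (by rw [hva', hout c hca hcb, hγ]; ring))⟩
  · obtain ⟨l, hl⟩ := hσ.exists_norm_eq (μ := nm σ p + nm σ p') (by rw [map_add, nm_fixed hσ, nm_fixed hσ])
    have hl0 : l ≠ 0 := fun e' => hs (by rw [← hl, e', zero_mul])
    have hsl : σ l ≠ 0 := (map_ne_zero σ).2 hl0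
    obtain ⟨v', hv', hout, hva, hvb⟩ := rot h he hH hv hba.symm hbl.symm (z := p / l) (z' := p' / l) (by
      rw [nm_div, nm_div, ← add_div, show nm σ l = l * σ l from rfl, hl, div_self hs])
    have hb0 : e.repr v' b = 0 := nm_eq_zero.1 (by
      rw [hvb, show p / l * p' - p' / l * p = 0 by ring, nm_zero])
    have hva' : e.repr v' a = l := by
      rw [hva, map_div₀, map_div₀]
      field_simp
      simp only [nm] at hl
      linear_combination -hl
    exact ⟨a, c, hac, ctr_pair h he hH hv' hca.symm (by rw [hva']; exact hl0) (by rw [hout c hca hcb]; exact hc)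
      (Or.inr ⟨b, hb0⟩)⟩

/-- All two-coordinate isotropic vectors are centres. -/
theorem block_htwo [Finite F] (hι : 3 ≤ Fintype.card ι) (hfib : ∀ x, ∃ x', x' ≠ x ∧ bl x' = bl x)
    (hperm : ∀ a c a' c', bl a ≠ bl c → bl a' ≠ bl c' →
      ∃ π : Equiv.Perm ι, (∀ x x', bl x = bl x' → bl (π x) = bl (π x')) ∧ π a = a' ∧ π c = c')
    {g : HU B} (hg : g ∈ M) (hnb : ¬ Blk e bl g) :
    ∀ a b : ι, a ≠ b → ∀ w, supp e w ⊆ {a, b} → B w w = 0 → w ∈ Ctr h M := by
  classical
  haveI := Fintype.ofFinite F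
  intro a b _ w hw hww
  by_cases hbl : bl a = bl b
  · exact block_pair h he hH hbl hw hww
  obtain ⟨v, hv, a₁, c₁, hac, ha, hc⟩ := exists_cross_vec h he hH hfib hg hnb
  obtain ⟨a₂, c₂, hac', y, hy, hys⟩ := exists_cross_pair h he hH hfib hv hac ha hc
  obtain ⟨π, hπ, ea, ec⟩ := hperm a₂ c₂ a b hac' hbl
  exact two_perm h he hH hι (fun e' => hac' (by rw [e'])) hy hys π hπ w (by rw [ea, ec]; exact hw) hww

/-- A wide centre over the field with four elements. -/
theorem block_witness [Finite F] (hq : Nat.card (fixedSub σ) = 2)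
    (htwo : ∀ a b : ι, a ≠ b → ∀ w, supp e w ⊆ {a, b} → B w w = 0 → w ∈ Ctr h M)
    {a b b' c : ι} (hab : a ≠ b) (hab' : a ≠ b') (hbb : b ≠ b') (h1 : bl b = bl a) (h2' : bl b' = bl a)
    (hca : bl c ≠ bl a) : ∃ v ∈ Ctr h M, 4 ≤ (supp e v).card ∧ (supp e v).card ≤ 4 := by
  classical
  haveI := Fintype.ofFinite F
  obtain ⟨h2, hone, w, hw0, hw, hσw⟩ := four_facts h.invol hq
  have hcb : c ≠ b := fun e' => hca (by rw [e', h1])
  have hcb' : c ≠ b' := fun e' => hca (by rw [e', h2'])
  have hca' : c ≠ a := fun e' => hca (by rw [e'])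
  let f : ι → V := fun x => if x = a then e a + e b + e b' else if x = b then e a + w • e b + (w * w) • e b'
    else if x = b' then e a + (w * w) • e b + w • e b' else e x
  have hw3 : w * w * w = 1 := by linear_combination (w - 1) * hw
  have hf : ∀ i j, B (f i) (f j) = if i = j then 1 else 0 := by
    intro i j
    simp only [f]
    rcases (show i = a ∨ i = b ∨ i = b' ∨ (i ≠ a ∧ i ≠ b ∧ i ≠ b') by tauto) with hi | hi | hi | ⟨hia, hib, hib'⟩ <;>
      rcases (show j = a ∨ j = b ∨ j = b' ∨ (j ≠ a ∧ j ≠ b ∧ j ≠ b') by tauto) with hj | hj | hj | ⟨hja, hjb, hjb'⟩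
    all_goals try subst hi
    all_goals try subst hj
    all_goals simp only [if_true, if_false, map_add, LinearMap.add_apply, smul_left, smul_right, map_mul, hσw, map_one,
      he _ _, *, Ne.symm hab, Ne.symm hab', Ne.symm hbb]
    all_goals try simp [*, Ne.symm hab, Ne.symm hab', Ne.symm hbb]
    all_goals try (first
      | linear_combination h2 | linear_combination hw | linear_combination (w + 2) * hw3 + h2
      | linear_combination hw + w * hw3 | linear_combination hw + (w + w * w) * hw3 | linear_combination (w * w * w + 2) * hw3 + h2 | ring1)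
    all_goals (split_ifs <;> simp_all)
  obtain ⟨g, hg, l, hl, -, hgl⟩ := exists_su_of_family h he f hf c
  have hgM : g ∈ M := mem_of_inside h he hH hg fun x y hy => by
    rw [hgl, map_smul, Finsupp.smul_apply] at hy
    by_contra hne
    refine hy ?_
    have e1 : ∀ z, bl z = bl x → z ≠ y := fun z hz e' => hne (by rw [← e', hz])
    simp only [f]
    split_ifs with hxa hxb hxb'
    · subst hxa; simp [e1 x rfl, e1 b h1, e1 b' h2']
    · subst hxb; simp [e1 x rfl, e1 a h1.symm, e1 b' (h2'.trans h1.symm)]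
    · subst hxb'; simp [e1 x rfl, e1 a h2'.symm, e1 b (h1.trans h2'.symm)]
    · simp [e1 x rfl]
  have hu : e a + e c ∈ Ctr h M := htwo a c hca'.symm _ (fun x hx => by
      rw [mem_supp, map_add, Finsupp.add_apply, repr_single, repr_single] at hx
      simp only [Finset.mem_insert, Finset.mem_singleton]
      by_contra hcon
      simp only [not_or] at hcon
      exact hx (by simp [Ne.symm hcon.1, Ne.symm hcon.2])) (by
      simp only [map_add, LinearMap.add_apply, he a a, he c c, he a c, he c a, if_neg hca', if_neg hca'.symm, if_true]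
      linear_combination h2)
  refine ⟨_, ctr_conj h hu hgM, ?_⟩
  have hgu : (g : V ≃ₗ[F] V) (e a + e c) = l a • (e a + e b + e b') + l c • e c := by
    rw [map_add, hgl, hgl]
    simp [f, hca', hcb, hcb']
  rw [hgu]
  have h4 : ({a, b, b', c} : Finset ι).card = 4 := by
    rw [Finset.card_insert_of_notMem, Finset.card_insert_of_notMem, Finset.card_pair hcb'.symm] <;>
      simp [hab, hab', hbb, hca'.symm, hcb.symm]
  rw [← h4]
  refine ⟨Finset.card_le_card fun x hx => mem_supp.2 ?_, Finset.card_le_card fun x hx => ?_⟩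
  swap
  · rw [mem_supp, map_add, map_smul, map_smul, map_add, map_add, Finsupp.add_apply, Finsupp.smul_apply,
      Finsupp.smul_apply, Finsupp.add_apply, Finsupp.add_apply, repr_single, repr_single, repr_single, repr_single] at hx
    simp only [Finset.mem_insert, Finset.mem_singleton]
    by_contra hcon
    simp only [not_or] at hcon
    exact hx (by simp [Ne.symm hcon.1, Ne.symm hcon.2.1, Ne.symm hcon.2.2.1, Ne.symm hcon.2.2.2])
  simp only [Finset.mem_insert, Finset.mem_singleton] at hx
  have la := ne_zero_of_norm_one (hl a)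
  have lc := ne_zero_of_norm_one (hl c)
  rcases hx with e' | e' | e' | e' <;> subst e' <;>
    simp [hab, hab', hbb, hca', hcb, hcb', Ne.symm hab, Ne.symm hab', Ne.symm hbb, Ne.symm hca', Ne.symm hcb,
      Ne.symm hcb', la, lc]

end CfsgLib.Geo.UnitDecomp
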