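/-
Two one-parameter families of quasi-reflections in a plane supply a full transvection group.
-/
import Cfsg.Agent.Lib.Geo.UnitDecomp.Frame

set_option autoImplicit false
set_option linter.unusedSectionVars false
set_option linter.style.haveILetI false
set_option maxHeartbeats 800000

namespace CfsgLib.Geo.UnitDecomp

open CfsgLib.Classical CfsgLib.Classical.Herm CfsgLib.Geo.UnitMax

variable {F : Type*} [Field F] {σ : F →+* F} {V : Type*} [AddCommGroup V] [Module F V]
  {B : V →ₛₗ[σ] V →ₗ[F] F} {ι : Type} [Fintype ι] [DecidableEq ι] {e : Module.Basis ι F V} [DecidableEq F]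
  [FiniteDimensional F V]

/-- A frame vector of an element which stabilises a coordinate line. -/
def Col (e : Module.Basis ι F V) (M : Subgroup (HU B)) (m : ι) (u : V) : Prop :=
  ∃ g ∈ M, ∃ x l : ι, x ≠ l ∧ (g : V ≃ₗ[F] V) (e x) = u ∧ ∃ c : F, (g : V ≃ₗ[F] V) (e l) = c • e m

variable (h : IsHerm B) {M : Subgroup (HU B)} (he : IsFrame B e) {β : Type} {bl : ι → β}
  (hH : ∀ g ∈ HSU B, Blk e bl g → g ∈ M)
include h he

theorem col_facts {m : ι} {u : V} (hu : Col e M m u) : B u u = 1 ∧ B (e m) u = 0 := by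
  obtain ⟨g, -, x, l, hxl, rfl, c, hc⟩ := hu
  refine ⟨by rw [HU.map_eq, he x x, if_pos rfl], ?_⟩
  have hc0 : σ c ≠ 0 := (map_ne_zero σ).2 fun e' => by
    rw [e', zero_smul] at hc
    exact e.ne_zero l ((g : V ≃ₗ[F] V).injective (by rw [hc, map_zero]))
  have : σ c * B (e m) ((g : V ≃ₗ[F] V) (e x)) = 0 := by
    rw [← smul_left, ← hc, HU.map_eq, he l x, if_neg hxl.symm]
  exact (mul_eq_zero.1 this).resolve_left hc0

theorem col_single {m b : ι} (hb : b ≠ m) : Col e M m (e b) :=
  ⟨1, M.one_mem, b, m, hb, rfl, 1, (one_smul F (e m)).symm⟩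

include hH in
/-- The quasi-reflection family of a frame vector, balanced on the stabilised line. -/
theorem col_family {m : ι} {u : V} (hu : Col e M m u) {α : F} (hα : nm σ α = 1) :
    ∃ y ∈ M, ∀ z, (y : V ≃ₗ[F] V) z = z + ((α - 1) * B u z) • u + ((σ α - 1) * B (e m) z) • e m := by
  obtain ⟨g, hg, x, l, hxl, rfl, c, hc⟩ := hu
  have hσ := h.invol
  let L : ι → F := fun i => if i = x then α else if i = l then σ α else 1
  obtain ⟨d, hd, hdv⟩ := exists_dia_mem h he hH (l := L) (fun i => by
      simp only [L]; split_ifs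
      · exact hα
      · rw [nm_conj hσ, hα]
      · simp [nm]) (by
      rw [Finset.prod_eq_mul x l hxl (fun i _ hi => by simp [L, hi.1, hi.2]) (by simp) (by simp)]
      simp only [L, hxl.symm, if_true, if_false]
      exact hα)
  refine ⟨g * d * g⁻¹, M.mul_mem (M.mul_mem hg hd) (M.inv_mem hg), fun z => ?_⟩
  obtain ⟨w, rfl⟩ := (g : V ≃ₗ[F] V).surjective z
  have hdw : (d : V ≃ₗ[F] V) w = w + ((α - 1) * e.repr w x) • e x + ((σ α - 1) * e.repr w l) • e l := by
    refine e.repr.injective (Finsupp.ext fun i => ?_)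
    rw [dia_repr h he hdv]
    simp only [map_add, map_smul, Finsupp.coe_add, Finsupp.coe_smul, Pi.add_apply, Pi.smul_apply, repr_single,
      smul_eq_mul, L]
    by_cases h1 : i = x
    · subst h1; simp [hxl, hxl.symm]; ring
    by_cases h2 : i = l
    · subst h2; simp [h1, Ne.symm h1]; ring
    simp [h1, h2, Ne.symm h1, Ne.symm h2]
  have hcN : c * σ c = 1 := by
    have h1 := HU.map_eq g (e l) (e l)
    rw [hc, smul_left, smul_right, he m m, he l l, if_pos rfl, if_pos rfl, mul_one, mul_comm] at h1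
    exact h1
  have hgm : B (e m) ((g : V ≃ₗ[F] V) w) = c * e.repr w l := by
    have h1 : σ c * B (e m) ((g : V ≃ₗ[F] V) w) = e.repr w l := by
      rw [← smul_left, ← hc, HU.map_eq, repr_eq he]
    linear_combination c * h1 - B (e m) ((g : V ≃ₗ[F] V) w) * hcN
  rw [HU.map_eq, ← repr_eq he, hgm]
  have hi : ((g⁻¹ : HU B) : V ≃ₗ[F] V) ((g : V ≃ₗ[F] V) w) = w := by
    rw [← LinearEquiv.mul_apply, ← Subgroup.coe_mul, inv_mul_cancel]; rfl
  rw [Subgroup.coe_mul, Subgroup.coe_mul, LinearEquiv.mul_apply, LinearEquiv.mul_apply, hi, hdw, map_add, map_add,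
    map_smul, map_smul, hc, smul_smul]
  congr 2
  ring

include hH in
/-- A non-coordinate frame vector gives one with a coordinate of norm neither zero nor one. -/
theorem col_adjust [Finite F] (hq : 3 ≤ Nat.card (fixedSub σ)) {m : ι} {u : V} (hu : Col e M m u)
    (hs : 2 ≤ (supp e u).card) :
    ∃ u' b, Col e M m u' ∧ b ≠ m ∧ nm σ (e.repr u' b) ≠ 0 ∧ nm σ (e.repr u' b) ≠ 1 := by
  classical
  haveI := Fintype.ofFinite F
  have hσ := h.invol
  obtain ⟨hu1, hum⟩ := col_facts h he hu
  have hne : ∀ b, b ∈ supp e u → b ≠ m := fun b hb e' => by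
    subst e'
    exact mem_supp.1 hb (by rw [repr_eq he]; exact hum)
  by_cases hb : ∃ b ∈ supp e u, nm σ (e.repr u b) ≠ 1
  · obtain ⟨b, hb, hb1⟩ := hb
    exact ⟨u, b, hu, hne b hb, fun e' => mem_supp.1 hb (nm_eq_zero.1 e'), hb1⟩
  push Not at hb
  obtain ⟨a, b, ha, hb', hab⟩ := Finset.one_lt_card_iff.1 hs
  obtain ⟨z, hz, hz1⟩ := Finset.exists_mem_notMem_of_card_lt_card (s := ({1} : Finset F)) (t := zset σ) (by
    have := card_zset hσ
    rw [Finset.card_singleton]; omega)
  obtain ⟨l, hl, hl1, rfl⟩ := mem_zset.1 hz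
  obtain ⟨y, hy, hyz⟩ := col_family h he hH hu hl
  have hym : (y : V ≃ₗ[F] V) (e m) = σ l • e m := by
    rw [hyz, h.eq_zero_symm hum, he m m, if_pos rfl]
    module
  have hua : (y : V ≃ₗ[F] V) (e a) = e a + ((l - 1) * σ (e.repr u a)) • u := by
    rw [hyz, repr_eq he u a, h.symm, he m a, if_neg (hne a ha).symm]
    simp
  refine ⟨_, b, ⟨y, hy, a, m, hne a ha, rfl, σ l, hym⟩, hne b hb', ?_⟩
  have hv : nm σ (e.repr ((y : V ≃ₗ[F] V) (e a)) b) = nm σ (l - 1) := by
    rw [hua, map_add, map_smul, Finsupp.add_apply, Finsupp.smul_apply, repr_single, if_neg hab, zero_add,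
      smul_eq_mul, nm_mul, nm_mul, nm_conj hσ, hb a ha, hb b hb', mul_one, mul_one]
  rw [hv]
  exact ⟨fun e' => hl1 (sub_eq_zero.1 (nm_eq_zero.1 e')), by simpa using hz1⟩

include hH in
/-- A frame vector with such a coordinate gives a transvection centre. -/
theorem ctr_of_col [Finite F] (hq : 3 ≤ Nat.card (fixedSub σ)) {m : ι} {u : V} (hu : Col e M m u)
    {b : ι} (hbm : b ≠ m) (hb0 : nm σ (e.repr u b) ≠ 0) (hb1 : nm σ (e.repr u b) ≠ 1) :
    ∃ v ∈ Ctr h M, v ≠ 0 ∧ e.repr v m = 0 := by
  classical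
  haveI := Fintype.ofFinite F
  have hσ := h.invol
  obtain ⟨hu1, hum⟩ := col_facts h he hu
  set s := e.repr u b
  set φ := nm σ s
  have hbs : B (e b) u = s := (repr_eq he u b).symm
  have hub : B u (e b) = σ s := by rw [← h.symm, hbs]
  have hum' : B u (e m) = 0 := h.eq_zero_symm hum
  have heb : B (e b) (e b) = 1 := by rw [he b b, if_pos rfl]
  have hembm : B (e m) (e b) = 0 := by rw [he m b, if_neg hbm.symm]
  have hebm : B (e b) (e m) = 0 := by rw [he b m, if_neg hbm]
  have hφ1 : (1 : F) - φ ≠ 0 := sub_ne_zero.2 (Ne.symm hb1)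
  obtain ⟨x, μ, hx, hx1, hμ, hμ1, hxm⟩ := exists_ratio hσ (r := -φ / (1 - φ))
    (by rw [map_div₀, map_neg, map_sub, map_one, nm_fixed hσ]) (div_ne_zero (neg_ne_zero.2 hb0) hφ1)
  set α := μ * x with hαdef
  set β := μ * σ x with hβdef
  have hα : nm σ α = 1 := by rw [nm_mul, hμ, hx, mul_one]
  have hβ : nm σ β = 1 := by rw [nm_mul, hμ, nm_conj hσ, hx, mul_one]
  obtain ⟨ya, hya, hyaz⟩ := col_family h he hH (col_single (M := M) h he hbm) hα
  obtain ⟨yu, hyu, hyuz⟩ := col_family h he hH hu hβ
  set y := yu * ya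
  have hy : y ∈ M := M.mul_mem hyu hya
  have hy_apply : ∀ z, (y : V ≃ₗ[F] V) z = (yu : V ≃ₗ[F] V) ((ya : V ≃ₗ[F] V) z) := fun z => rfl
  have hyeb : (y : V ≃ₗ[F] V) (e b) = α • e b + (α * (β - 1) * σ s) • u := by
    rw [hy_apply, hyaz, heb, hembm]
    simp only [mul_zero, zero_smul, add_zero, mul_one]
    rw [show e b + (α - 1) • e b = α • e b by module, map_smul, hyuz, hub, hembm]
    module
  have hyu' : (y : V ≃ₗ[F] V) u = (β + (α - 1) * (β - 1) * φ) • u + ((α - 1) * s) • e b := by
    rw [hy_apply, hyaz, hbs, hum]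
    simp only [mul_zero, zero_smul, add_zero]
    rw [map_add, map_smul, hyuz, hyuz, hu1, hum, hub, hembm]
    simp only [φ, nm]
    module
  have hx' : x * σ x = 1 := hx
  have hμ' : μ * σ μ = 1 := hμ
  have htrace : α + β + (α - 1) * (β - 1) * φ = 2 * μ := by
    have h1 : nm σ (x - 1) * (1 - φ) = -φ * nm σ (μ - 1) := by rw [hxm]; field_simp
    simp only [hαdef, hβdef, nm, map_sub, map_one] at h1 ⊢
    linear_combination (-μ) * h1 + (μ - μ * φ + μ ^ 2 * φ) * hx' + (φ * μ) * hμ' - φ * hμ'
  have hdet : (α - μ) ^ 2 + α * (α - 1) * (β - 1) * φ = 0 := by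
    have h2 : α * β = μ * μ := by rw [hαdef, hβdef]; linear_combination μ * μ * hx'
    linear_combination α * htrace - h2
  set v := (α - μ) • e b + (α * (β - 1) * σ s) • u with hv
  have hyv : (y : V ≃ₗ[F] V) v = μ • v := by
    rw [hv, map_add, map_smul, map_smul, hyeb, hyu']
    match_scalars
    · simp only [φ, nm] at hdet ⊢
      linear_combination hdet
    · linear_combination (α * (β - 1) * σ s) * htrace
  have hyeb' : (y : V ≃ₗ[F] V) (e b) = μ • e b + v := by rw [hyeb, hv]; module
  have hvm : B (e m) v = 0 := by rw [hv, map_add, smul_right, smul_right, hembm, hum, mul_zero, mul_zero, add_zero]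
  have hvv : B v v = 0 := by
    have h1 := HU.map_eq y (e b) v
    rw [hyeb', hyv, map_add, LinearMap.add_apply, smul_left, smul_right, smul_right] at h1
    have h2 : μ * B v v = 0 := by linear_combination h1 - B (e b) v * hμ'
    exact (mul_eq_zero.1 h2).resolve_left (ne_zero_of_norm_one hμ)
  have hz_ne : nm σ (x - 1) ≠ 0 := fun e' => hx1 (sub_eq_zero.1 (nm_eq_zero.1 e'))
  have hβ1 : β ≠ 1 := fun e' => by
    have hxm' : x = μ := by linear_combination μ * hx' - x * e'
    rw [hxm'] at hxm hz_ne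
    rw [div_mul_eq_mul_div, eq_div_iff hφ1] at hxm
    exact hz_ne (by linear_combination hxm)
  set c' := α * (β - 1) * σ s
  have hc'0 : c' ≠ 0 := mul_ne_zero (mul_ne_zero (ne_zero_of_norm_one hα) (sub_ne_zero.2 hβ1))
    ((map_ne_zero σ).2 fun e' => hb0 (by simp [φ, e', nm_zero]))
  have hbv : B (e b) v = (α - μ) + c' * s := by rw [hv, map_add, smul_right, smul_right, heb, hbs, mul_one]
  have hbv0 : B (e b) v ≠ 0 := by
    intro e0
    have h2 : B v v = nm σ c' * (1 - φ) := by
      have ev : v = c' • u + (-(c' * s)) • e b := by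
        rw [hv]; rw [show α - μ = -(c' * s) by linear_combination e0 - hbv]; module
      rw [ev, h.apply_smul_add, hu1, heb, hub]
      simp only [φ, nm, map_mul, map_neg, hσ.invol]
      ring
    rw [hvv] at h2
    exact hc'0 (nm_eq_zero.1 ((mul_eq_zero.1 h2.symm).resolve_right hφ1))
  have hvb0 : B v (e b) ≠ 0 := fun e' => hbv0 (h.eq_zero_symm e')
  have hv0 : v ≠ 0 := fun e' => hbv0 (by rw [e', map_zero])
  -- the power which is a transvection
  set q := Nat.card (fixedSub σ) with hqdef
  have hqF : (q : F) = 0 := by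
    haveI : Fintype (fixedSub σ) := Fintype.ofFinite _
    have h0 : (q : fixedSub σ) = 0 := by rw [hqdef, Nat.card_eq_fintype_card, FiniteField.cast_card_eq_zero]
    simpa using congrArg (fixedSub σ).subtype h0
  have hpowv : ∀ j : ℕ, ((y ^ j : HU B) : V ≃ₗ[F] V) v = μ ^ j • v := by
    intro j
    induction j with
    | zero => simp
    | succ j ih => rw [pow_succ, Subgroup.coe_mul, LinearEquiv.mul_apply, hyv, map_smul, ih, smul_smul, pow_succ']
  have hpowb : ∀ j : ℕ, ((y ^ (j + 1) : HU B) : V ≃ₗ[F] V) (e b) =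
      μ ^ (j + 1) • e b + ((j + 1 : F) * μ ^ j) • v := by
    intro j
    induction j with
    | zero => simp [hyeb']
    | succ j ih =>
      rw [pow_succ', Subgroup.coe_mul, LinearEquiv.mul_apply, ih, map_add, map_smul, map_smul, hyeb', hyv]
      push_cast
      match_scalars <;> ring
  have hyem : (y : V ≃ₗ[F] V) (e m) = (σ β * σ α) • e m := by
    rw [hy_apply, hyaz, hebm, he m m, if_pos rfl]
    simp only [mul_zero, zero_smul, add_zero, mul_one]
    rw [show e m + (σ α - 1) • e m = σ α • e m by module, map_smul, hyuz, hum', he m m, if_pos rfl]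
    module
  set T := y ^ (q + 1)
  have hT : T ∈ M := M.pow_mem hy _
  have hpow1 : ∀ a : F, nm σ a = 1 → a ^ (q + 1) = 1 := fun a ha => by
    rw [← ha, nm, hσ.apply_eq_pow, ← pow_succ']
  have hTb : (T : V ≃ₗ[F] V) (e b) = e b + σ μ • v := by
    rw [hpowb, hpow1 μ hμ, hqF, zero_add, one_mul, one_smul, hσ.apply_eq_pow]
  have hTv : (T : V ≃ₗ[F] V) v = v := by rw [hpowv, hpow1 μ hμ, one_smul]
  have hTm : (T : V ≃ₗ[F] V) (e m) = e m := by
    have : ∀ j : ℕ, ((y ^ j : HU B) : V ≃ₗ[F] V) (e m) = (σ β * σ α) ^ j • e m := by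
      intro j
      induction j with
      | zero => simp
      | succ j ih => rw [pow_succ, Subgroup.coe_mul, LinearEquiv.mul_apply, hyem, map_smul, ih, smul_smul, pow_succ']
    rw [this, hpow1 _ (by rw [nm_mul, nm_conj hσ, nm_conj hσ, hα, hβ, mul_one]), one_smul]
  have hTfix : ∀ z, B u z = 0 → B (e b) z = 0 → B (e m) z = 0 → (T : V ≃ₗ[F] V) z = z := by
    intro z h1 h2 h3
    have hy1 : (y : V ≃ₗ[F] V) z = z := by
      rw [hy_apply, hyaz, h2, h3]
      simp only [mul_zero, zero_smul, add_zero]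
      rw [hyuz, h1, h3]
      simp
    have : ∀ j : ℕ, ((y ^ j : HU B) : V ≃ₗ[F] V) z = z := by
      intro j
      induction j with
      | zero => simp
      | succ j ih => rw [pow_succ, Subgroup.coe_mul, LinearEquiv.mul_apply, hy1, ih]
    exact this _
  set c := σ μ / B v (e b)
  have hskew : σ μ * B (e b) v + μ * B v (e b) = 0 := by
    have h1 := HU.map_eq T (e b) (e b)
    rw [hTb] at h1
    simp only [map_add, LinearMap.add_apply, smul_left, smul_right, heb, hvv, hσ.invol] at h1
    linear_combination h1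
  have hc : c + σ c = 0 := by
    rw [map_div₀, hσ.invol, h.symm, div_add_div _ _ hvb0 hbv0, div_eq_zero_iff]
    left
    linear_combination hskew
  have hvm' : B v (e m) = 0 := h.eq_zero_symm hvm
  have hTtr : T = h.tr hvv hc := by
    ext z
    rw [h.tr_apply]
    set a' := B v z / B v (e b)
    set b' := (B (e b) z - a') / B (e b) v
    set g' := B (e m) z
    set z' := z - a' • e b - b' • v - g' • e m
    have e1 : B v z' = 0 := by
      simp only [z', map_sub, smul_right, hvv, hvm', a']
      field_simp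
      ring
    have e2 : B (e b) z' = 0 := by
      simp only [z', map_sub, smul_right, heb, hebm, b']
      field_simp
      ring
    have e3 : B (e m) z' = 0 := by
      simp only [z', map_sub, smul_right, hembm, hvm, he m m, if_true, g']
      ring
    have e4 : B u z' = 0 := by
      have : σ c' * B u z' = 0 := by
        rw [hv, map_add, LinearMap.add_apply, smul_left, smul_left, e2, mul_zero, zero_add] at e1
        exact e1
      exact (mul_eq_zero.1 this).resolve_left ((map_ne_zero σ).2 hc'0)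
    have hz : z = z' + a' • e b + b' • v + g' • e m := by simp only [z']; module
    have hcb : c * B v (e b) = σ μ := div_mul_cancel₀ _ hvb0
    conv_lhs => rw [hz, map_add, map_add, map_add, map_smul, map_smul, map_smul, hTfix z' e4 e2 e3, hTb, hTv, hTm]
    rw [show B v z = a' * B v (e b) from (div_mul_cancel₀ _ hvb0).symm, show c * (a' * B v (e b)) = a' * σ μ by
      linear_combination a' * hcb]
    conv_rhs => rw [hz]
    module
  -- all transvections on the centre
  let Cs : F → Prop := fun d => ∀ hd : d + σ d = 0, h.tr hvv hd ∈ M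
  have hc1 : Cs c := fun hd => hTtr ▸ hT
  let R : AddSubgroup F :=
    { carrier := {r | σ r = r ∧ ∀ d, d + σ d = 0 → Cs d → Cs (r * d)}
      zero_mem' := ⟨map_zero σ, fun d _ _ hd => by
        have : h.tr hvv hd = 1 := by ext z; rw [h.tr_apply]; simp
        rw [this]; exact M.one_mem⟩
      add_mem' := fun {r r'} hr hr' => ⟨by rw [map_add, hr.1, hr'.1], fun d hd hdC hd' => by
        have h1 : r * d + σ (r * d) = 0 := by rw [map_mul, hr.1, ← mul_add, hd, mul_zero]
        have h2 : r' * d + σ (r' * d) = 0 := by rw [map_mul, hr'.1, ← mul_add, hd, mul_zero]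
        have : h.tr hvv hd' = h.tr hvv h1 * h.tr hvv h2 := by
          ext z
          simp only [Subgroup.coe_mul, LinearEquiv.mul_apply, h.tr_apply, map_add, smul_right, hvv]
          module
        rw [this]
        exact M.mul_mem (hr.2 d hd hdC h1) (hr'.2 d hd hdC h2)⟩
      neg_mem' := fun {r} hr => ⟨by rw [map_neg, hr.1], fun d hd hdC hd' => by
        have h1 : r * d + σ (r * d) = 0 := by rw [map_mul, hr.1, ← mul_add, hd, mul_zero]
        have : h.tr hvv hd' = (h.tr hvv h1)⁻¹ := by
          rw [eq_inv_iff_mul_eq_one]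
          ext z
          simp only [Subgroup.coe_mul, LinearEquiv.mul_apply, h.tr_apply, map_add, smul_right, hvv]
          simp
        rw [this]
        exact M.inv_mem (hr.2 d hd hdC h1)⟩ }
  set a0 := α - μ
  have ha0 : a0 ≠ 0 := by
    intro e'
    exact hx1 (mul_left_cancel₀ (ne_zero_of_norm_one hμ) (by rw [mul_one]; exact sub_eq_zero.1 e'))
  set f' := e b - σ s • u
  have hf' : B u f' = 0 := by simp only [f', map_sub, smul_right, hub, hu1]; ring
  have hff : B f' f' = 1 - φ := by
    simp only [f', map_sub, sub_left, LinearMap.sub_apply, smul_left, smul_right, heb, hbs, hub, hu1, hσ.invol,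
      φ, nm]
    ring
  have hdec : ∀ p q' : F, B (p • u + q' • f') (p • u + q' • f') = nm σ p + nm σ q' * (1 - φ) := fun p q' => by
    rw [h.apply_smul_add, hu1, hff, hf', nm, nm]
    simp
  set P0 := B u v
  have hvdec : v = P0 • u + a0 • f' := by
    simp only [P0, f', hv, map_add, smul_right, hub, hu1]
    module
  have hΛ : ∀ a : F, nm σ a = 1 → nm σ ((a0 - B (e b) v) + a * B (e b) v) / nm σ a0 ∈ R := by
    intro a ha
    obtain ⟨yb, hyb, hybz⟩ := col_family h he hH (col_single (M := M) h he hbm) ha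
    set Q := (a0 - B (e b) v) + a * B (e b) v with hQ
    set p := (yb : V ≃ₗ[F] V) v
    set P := B u p
    have hp : p = v + ((a - 1) * B (e b) v) • e b := by
      simp only [p, hybz, hvm, mul_zero, zero_smul, add_zero]
    have hpdec : p = P • u + Q • f' := by
      simp only [P]
      rw [hp, hQ]
      simp only [f', hv, map_add, smul_right, hub, hu1]
      module
    have hiso : nm σ P + nm σ Q * (1 - φ) = 0 := by
      rw [← hdec, ← hpdec]
      exact (HU.map_eq yb v v).trans hvv
    have hiso0 : nm σ P0 + nm σ a0 * (1 - φ) = 0 := by rw [← hdec, ← hvdec]; exact hvv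
    have hP : P ≠ 0 := by
      intro e'
      rw [e', nm_zero, zero_add] at hiso
      have hQ0 := nm_eq_zero.1 ((mul_eq_zero.1 hiso).resolve_right hφ1)
      apply hv0
      refine (yb : V ≃ₗ[F] V).injective ?_
      show p = _
      rw [hpdec, e', hQ0, map_zero]
      simp
    set β' := P0 / a0 * (Q / P)
    have hβ' : nm σ β' = 1 := by
      have h1 : nm σ P ≠ 0 := fun e' => hP (nm_eq_zero.1 e')
      have h2 : nm σ a0 ≠ 0 := fun e' => ha0 (nm_eq_zero.1 e')
      simp only [β', nm_mul, nm_div]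
      field_simp
      linear_combination nm σ Q * hiso0 - nm σ a0 * hiso
    obtain ⟨yu', hyu', hyu'z⟩ := col_family h he hH hu hβ'
    set g := yu' * yb
    have hg : g ∈ M := M.mul_mem hyu' hyb
    set κ := Q / a0
    have hgv : (g : V ≃ₗ[F] V) v = κ • v := by
      show (yu' : V ≃ₗ[F] V) p = _
      have hmp : B (e m) p = 0 := by rw [hp, map_add, smul_right, hvm, hembm]; ring
      rw [hyu'z, hmp, show B u p = P from rfl]
      simp only [mul_zero, zero_smul, add_zero]
      conv_lhs => rw [hpdec]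
      conv_rhs => rw [hvdec]
      match_scalars
      · simp only [β', κ]
        field_simp
        ring
      · simp only [κ]
        field_simp
    refine ⟨by rw [map_div₀, nm_fixed hσ, nm_fixed hσ], fun d hd hdC hd' => ?_⟩
    have hconj := h.conj_tr hvv hd g
    have : h.tr hvv hd' = g * h.tr hvv hd * g⁻¹ := by
      rw [hconj]
      ext z
      rw [h.tr_apply, h.tr_apply, hgv, smul_left, smul_smul]
      congr 2
      simp only [κ, nm, map_div₀]
      field_simp
    rw [this]
    exact M.mul_mem (M.mul_mem hg (hdC hd)) (M.inv_mem hg)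
  have hRtop : R = (fixedSub σ).toAddSubgroup := by
    have hle : R ≤ (fixedSub σ).toAddSubgroup := fun r hr => mem_fixedSub.2 hr.1
    refine AddSubgroup.eq_of_le_of_card_ge hle ?_
    obtain ⟨k, hk⟩ := AddSubgroup.card_dvd_of_le hle
    have hK : Nat.card (fixedSub σ).toAddSubgroup = q := rfl
    have hne : a0 - B (e b) v ≠ 0 := by
      rw [hbv, sub_add_cancel_left, neg_ne_zero]
      exact mul_ne_zero hc'0 fun e' => hb0 (by simp [φ, e', nm_zero])
    have h1 := circle_fibre hσ hne hbv0 (circ σ) subset_rfl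
    rw [card_circ hσ] at h1
    set S := ((circ σ).image fun a => nm σ ((a0 - B (e b) v) + a * B (e b) v))
    have h2 : S.card ≤ Nat.card R := by
      rw [← Nat.card_eq_finsetCard]
      refine Nat.card_le_card_of_injective (fun z => ⟨(z : F) / nm σ a0, ?_⟩) fun z z' ez => Subtype.ext ?_
      · obtain ⟨a, ha, e'⟩ := Finset.mem_image.1 z.2
        rw [← e']
        exact hΛ a (mem_circ.1 ha)
      · have := congrArg Subtype.val ez
        exact (div_left_inj' fun e' => ha0 (nm_eq_zero.1 e')).1 this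
    rcases (show k = 0 ∨ k = 1 ∨ 2 ≤ k by omega) with rfl | rfl | hk2
    · omega
    · omega
    · have := Nat.mul_le_mul_left (Nat.card R) hk2
      omega
  have hc0 : c ≠ 0 := div_ne_zero ((map_ne_zero σ).2 (ne_zero_of_norm_one hμ)) hvb0
  refine ⟨v, ⟨hvv, fun hvv' d hd => ?_⟩, hv0, by rw [repr_eq he]; exact hvm⟩
  have hdc : d / c ∈ R := by
    rw [hRtop]
    refine mem_fixedSub.2 ?_
    rw [map_div₀, eq_neg_of_add_eq_zero_right hd, eq_neg_of_add_eq_zero_right hc, neg_div_neg_eq]
  have := hdc.2 c hc hc1 (by rwa [div_mul_cancel₀ _ hc0])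
  simpa [div_mul_cancel₀ _ hc0] using this

end CfsgLib.Geo.UnitDecomp
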