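/-
Torus elements with a prescribed vanishing weighted sum.
-/
import Cfsg.Agent.Lib.Geo.UnitDecomp.Field

set_option autoImplicit false
set_option linter.unusedSectionVars false
set_option linter.style.haveILetI false
set_option maxHeartbeats 800000

namespace CfsgLib.Geo.UnitDecomp

open CfsgLib.Classical CfsgLib.Classical.Herm

variable {F : Type*} [Field F] [Fintype F] [DecidableEq F] {σ : F →+* F} (hσ : IsInvol σ)
include hσ

theorem norm_one_prod {κ : Type*} (s : Finset κ) (f : κ → F) (hf : ∀ i ∈ s, nm σ (f i) = 1) :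
    nm σ (∏ i ∈ s, f i) = 1 :=
  Finset.prod_induction f (fun y => nm σ y = 1) (fun a b ha hb => by rw [nm_mul, ha, hb, one_mul])
    (by simp [nm]) hf

theorem norm_one_pow {x : F} (hx : nm σ x = 1) (k : ℕ) : nm σ (x ^ k) = 1 := by
  induction k with
  | zero => simp [nm]
  | succ k ih => rw [pow_succ, nm_mul, ih, hx, one_mul]

theorem pow_card_circ {x : F} (hx : nm σ x = 1) : x ^ (Nat.card (fixedSub σ) + 1) = 1 := by
  rw [← hx, nm, hσ.apply_eq_pow, ← pow_succ']

/-- Many torus elements of product one kill a weighted sum with non-zero weights. -/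
theorem many_tori {ι : Type} [Fintype ι] [DecidableEq ι] (hq : 3 ≤ Nat.card (fixedSub σ))
    (hn : 13 ≤ Fintype.card ι) {W : ι → F} (hW : ∀ x, W x ≠ 0) :
    ∃ S : Finset (ι → F), (∀ T ∈ S, (∀ x, nm σ (T x) = 1) ∧ ∏ x, T x = 1 ∧ ∑ x, T x * W x = 0) ∧
      (Fintype.card ι - 1) * ((circ σ).filter fun k => k ^ Fintype.card ι = 1).card < S.card := by
  classical
  set q := Nat.card (fixedSub σ)
  set n := Fintype.card ι
  obtain ⟨a⟩ : Nonempty (((Fin 4 ⊕ (Fin 4 ⊕ Fin 1)) ⊕ Fin 4) ↪ ι) := Function.Embedding.nonempty_of_card_le (by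
    simp only [Fintype.card_sum, Fintype.card_fin]; omega)
  set R : Finset ι := Finset.univ \ Finset.univ.map a
  let iA : Fin 4 → ι := fun i => a (Sum.inl (Sum.inl i))
  let iB : Fin 4 ⊕ Fin 1 → ι := fun i => a (Sum.inl (Sum.inr i))
  let iC : Fin 4 → ι := fun i => a (Sum.inr i)
  obtain ⟨ZA, hZA, hZA1, -⟩ := four_cover hσ (w := fun i => W (iA i)) (fun i => hW _) 0
  obtain ⟨ZB, hZB, hZB1, -⟩ := four_cover hσ (w := fun i => W (iB (Sum.inl i))) (fun i => hW _) (-W (iB (Sum.inr 0)))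
  obtain ⟨A₀, hA₀⟩ := Finset.card_pos.1 (show 0 < ZA.card by omega)
  obtain ⟨B₁, hB₁⟩ := Finset.card_pos.1 (show 0 < ZB.card by omega)
  let B₀ : Fin 4 ⊕ Fin 1 → F := Sum.elim B₁ fun _ => 1
  have hA₀n : ∀ i, nm σ (A₀ i) = 1 := (hZA A₀ hA₀).1
  have hB₀n : ∀ i, nm σ (B₀ i) = 1 := by
    rintro (i | i)
    · exact (hZB B₁ hB₁).1 i
    · simp [B₀, nm]
  have hB₀s : ∑ i, W (iB i) * B₀ i = 0 := by
    rw [Fintype.sum_sum_type, Fin.sum_univ_one]
    have := (hZB B₁ hB₁).2
    simp only [B₀, Sum.elim_inl, Sum.elim_inr] at this ⊢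
    linear_combination this
  have hC : ∀ f : ↥R → F, (∀ z, nm σ (f z) = 1) →
      ∃ Z : Finset (Fin 4 → F), (∀ T ∈ Z, (∀ i, nm σ (T i) = 1) ∧ ∑ i, W (iC i) * T i = -∑ z : ↥R, W z * f z) ∧
        q ≤ Z.card ∧ (R = ∅ → q + 1 ≤ Z.card) := by
    intro f _
    obtain ⟨Z, h1, h2, h3⟩ := four_cover hσ (w := fun i => W (iC i)) (fun i => hW _) (-∑ z : ↥R, W z * f z)
    refine ⟨Z, h1, h2, fun hR => h3 ?_⟩
    haveI : IsEmpty ↥R := ⟨fun z => by simpa [hR] using z.2⟩
    simp
  choose Z hZ hZq hZq' using hC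
  set Fs : Finset (↥R → F) := Fintype.piFinset fun _ => circ σ
  have hFs : ∀ f ∈ Fs, ∀ z, nm σ (f z) = 1 := fun f hf z => mem_circ.1 (Fintype.mem_piFinset.1 hf z)
  set Par : Finset (Σ f : {f // f ∈ Fs}, (Fin 4 → F) × F) :=
    Finset.univ.sigma fun f => Z f.1 (hFs _ f.2) ×ˢ circ σ
  let P : (↥R → F) → (Fin 4 → F) → F := fun f C => (∏ i, A₀ i) * (∏ i, B₀ i) * (∏ i, C i) * ∏ z, f z
  let vals : (↥R → F) → (Fin 4 → F) → F → (Fin 4 ⊕ (Fin 4 ⊕ Fin 1)) ⊕ Fin 4 → F := fun f C s =>
    Sum.elim (Sum.elim (fun i => s ^ 5 * P f C * A₀ i) fun i => (s ^ 4 * P f C)⁻¹ * B₀ i) C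
  let T : (Σ f : {f // f ∈ Fs}, (Fin 4 → F) × F) → ι → F := fun p =>
    Function.extend a (vals p.1.1 p.2.1 p.2.2) fun y => if hy : y ∈ R then p.1.1 ⟨y, hy⟩ else 1
  have hTa : ∀ p k, T p (a k) = vals p.1.1 p.2.1 p.2.2 k := fun p k => a.injective.extend_apply _ _ k
  have hTR : ∀ p (z : ↥R), T p z = p.1.1 z := fun p z => by
    show Function.extend a _ _ (z : ι) = _
    rw [Function.extend_apply' _ _ _ fun ⟨k, hk⟩ => (Finset.mem_sdiff.1 z.2).2
      (Finset.mem_map.2 ⟨k, Finset.mem_univ _, hk⟩), dif_pos z.2]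
  have hpar : ∀ p ∈ Par, (∀ z, nm σ (p.1.1 z) = 1) ∧ (∀ i, nm σ (p.2.1 i) = 1) ∧ nm σ p.2.2 = 1 ∧
      ∑ i, W (iC i) * p.2.1 i = -∑ z : ↥R, W z * p.1.1 z := fun p hp => by
    obtain ⟨h1, h2⟩ := Finset.mem_product.1 (Finset.mem_sigma.1 hp).2
    obtain ⟨h3, h4⟩ := hZ _ (hFs _ p.1.2) _ h1
    exact ⟨hFs _ p.1.2, h3, mem_circ.1 h2, h4⟩
  have hPn : ∀ p ∈ Par, nm σ (P p.1.1 p.2.1) = 1 := fun p hp => by
    obtain ⟨h1, h2, -, -⟩ := hpar p hp
    simp only [P, nm_mul, norm_one_prod hσ _ _ (fun i _ => hA₀n i), norm_one_prod hσ _ _ (fun i _ => hB₀n i),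
      norm_one_prod hσ _ _ (fun i _ => h2 i), norm_one_prod hσ _ _ (fun i _ => h1 i), mul_one]
  have hsplit : ∀ u : ι → F, (∏ y, u y = (∏ k, u (a k)) * ∏ z : ↥R, u z) ∧
      (∑ y, u y = (∑ k, u (a k)) + ∑ z : ↥R, u z) := fun u => by
    constructor
    · rw [← Finset.prod_sdiff (Finset.subset_univ (Finset.univ.map a)), mul_comm, Finset.prod_map,
        Finset.prod_coe_sort R u]
    · rw [← Finset.sum_sdiff (Finset.subset_univ (Finset.univ.map a)), add_comm, Finset.sum_map,
        Finset.sum_coe_sort R u]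
  refine ⟨Par.image T, fun S hS => ?_, ?_⟩
  · obtain ⟨p, hp, rfl⟩ := Finset.mem_image.1 hS
    obtain ⟨h1, h2, h3, h4⟩ := hpar p hp
    refine ⟨fun x => ?_, ?_, ?_⟩
    · by_cases hx : x ∈ R
      · rw [hTR p ⟨x, hx⟩]; exact h1 _
      · obtain ⟨k, -, rfl⟩ := Finset.mem_map.1 (show x ∈ Finset.univ.map a by
          by_contra hc; exact hx (Finset.mem_sdiff.2 ⟨Finset.mem_univ _, hc⟩))
        rw [hTa]
        rcases k with (i | i) | i <;>
          simp [vals, nm_mul, nm_inv, norm_one_pow hσ h3, hPn p hp, hA₀n, hB₀n, h2]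
    · rw [(hsplit _).1]
      simp only [hTa, hTR]
      rw [Fintype.prod_sum_type, Fintype.prod_sum_type]
      simp only [vals, Sum.elim_inl, Sum.elim_inr, Finset.prod_mul_distrib, Finset.prod_const, Finset.card_univ,
        Fintype.card_sum, Fintype.card_fin]
      have hs : p.2.2 ≠ 0 := ne_zero_of_norm_one h3
      have hP0 : P p.1.1 p.2.1 ≠ 0 := ne_zero_of_norm_one (hPn p hp)
      have hPd : P p.1.1 p.2.1 = (∏ i, A₀ i) * (∏ i, B₀ i) * (∏ i, p.2.1 i) * ∏ z, p.1.1 z := rfl
      have key : (p.2.2 ^ 5 * P p.1.1 p.2.1) ^ 4 * ((p.2.2 ^ 4 * P p.1.1 p.2.1)⁻¹) ^ 5 * P p.1.1 p.2.1 = 1 := by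
        field_simp
      linear_combination key - (p.2.2 ^ 5 * P p.1.1 p.2.1) ^ 4 * ((p.2.2 ^ 4 * P p.1.1 p.2.1)⁻¹) ^ 5 * hPd
    · rw [(hsplit _).2]
      simp only [hTa, hTR]
      rw [Fintype.sum_sum_type, Fintype.sum_sum_type]
      simp only [vals, Sum.elim_inl, Sum.elim_inr]
      have eA := (hZA A₀ hA₀).2
      have e1 : ∑ x : Fin 4, p.2.2 ^ 5 * P p.1.1 p.2.1 * A₀ x * W (a (Sum.inl (Sum.inl x))) =
          p.2.2 ^ 5 * P p.1.1 p.2.1 * ∑ i, W (iA i) * A₀ i := by
        rw [Finset.mul_sum]; exact Finset.sum_congr rfl fun i _ => by simp only [iA]; ring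
      have e2 : ∑ x : Fin 4 ⊕ Fin 1, (p.2.2 ^ 4 * P p.1.1 p.2.1)⁻¹ * B₀ x * W (a (Sum.inl (Sum.inr x))) =
          (p.2.2 ^ 4 * P p.1.1 p.2.1)⁻¹ * ∑ i, W (iB i) * B₀ i := by
        rw [Finset.mul_sum]; exact Finset.sum_congr rfl fun i _ => by simp only [iB]; ring
      have e3 : ∑ x : Fin 4, p.2.1 x * W (a (Sum.inr x)) = ∑ i, W (iC i) * p.2.1 i :=
        Finset.sum_congr rfl fun i _ => mul_comm _ _
      have e4 : ∑ z : ↥R, p.1.1 z * W z = ∑ z : ↥R, W z * p.1.1 z := Finset.sum_congr rfl fun i _ => mul_comm _ _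
      rw [e1, e2, e3, e4, eA, hB₀s, h4]
      ring
  · rw [Finset.card_image_of_injOn]
    · have hRc : R.card = n - 13 := by
        rw [Finset.card_univ_sdiff, Finset.card_map, Finset.card_univ]
        simp only [Fintype.card_sum, Fintype.card_fin]
        rfl
      have hcirc : (circ σ).card = q + 1 := card_circ hσ
      have hG : ((circ σ).filter fun k => k ^ n = 1).card ≤ q + 1 := hcirc ▸ Finset.card_filter_le _ _
      have hPar : Par.card = ∑ f : {f // f ∈ Fs}, (Z f.1 (hFs _ f.2)).card * (q + 1) := by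
        rw [Finset.card_sigma]
        exact Finset.sum_congr rfl fun f _ => by rw [Finset.card_product, hcirc]
      have hFc : Fintype.card {f // f ∈ Fs} = (q + 1) ^ (n - 13) := by
        rw [Fintype.card_coe, Fintype.card_piFinset]
        simp [hcirc, hRc]
      rcases (show n = 13 ∨ 14 ≤ n by omega) with hn13 | hn14
      · have hR0 : R = ∅ := Finset.card_eq_zero.1 (by omega)
        have h1 : (q + 1) * (q + 1) ≤ Par.card := by
          rw [hPar]
          have := Finset.card_nsmul_le_sum (Finset.univ : Finset {f // f ∈ Fs}) _ ((q + 1) * (q + 1))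
            fun f _ => Nat.mul_le_mul_right (q + 1) (hZq' f.1 (hFs _ f.2) hR0)
          rw [Finset.card_univ, hFc, hn13] at this
          simpa using this
        by_cases hbig : 12 < q + 1
        · calc (n - 1) * _ ≤ 12 * (q + 1) := Nat.mul_le_mul (by omega) hG
            _ < (q + 1) * (q + 1) := Nat.mul_lt_mul_of_pos_right hbig (by omega)
            _ ≤ _ := h1
        · have hG1 : ((circ σ).filter fun k => k ^ n = 1).card ≤ 1 := by
            refine Finset.card_le_one.2 fun x hx y hy => ?_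
            have key : ∀ x ∈ (circ σ).filter fun k => k ^ n = 1, x = 1 := fun x hx => by
              obtain ⟨h1, h2⟩ := Finset.mem_filter.1 hx
              have h3 := pow_gcd_eq_one.2 ⟨h2, pow_card_circ hσ (mem_circ.1 h1)⟩
              have hcop : Nat.Coprime 13 (q + 1) := (Nat.Prime.coprime_iff_not_dvd (by norm_num)).2 fun hd => by
                have := Nat.le_of_dvd (by omega) hd
                omega
              rw [hn13, hcop.gcd_eq_one, pow_one] at h3
              exact h3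
            rw [key x hx, key y hy]
          have h16 : 16 ≤ (q + 1) * (q + 1) := Nat.mul_le_mul (show 4 ≤ q + 1 by omega) (show 4 ≤ q + 1 by omega)
          calc (n - 1) * _ ≤ 12 * 1 := Nat.mul_le_mul (by omega) hG1
            _ < _ := by omega
      · have h1 : (q + 1) ^ (n - 13) * (q * (q + 1)) ≤ Par.card := by
          rw [hPar]
          have := Finset.card_nsmul_le_sum (Finset.univ : Finset {f // f ∈ Fs}) _ (q * (q + 1))
            fun f _ => Nat.mul_le_mul_right (q + 1) (hZq f.1 (hFs _ f.2))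
          rw [Finset.card_univ, hFc, smul_eq_mul] at this
          exact this
        refine lt_of_lt_of_le ?_ h1
        by_cases hsmall : n = 14 ∧ q = 3
        · obtain ⟨hn, hq3⟩ := hsmall
          have hG2 : ((circ σ).filter fun k => k ^ n = 1).card ≤ 2 := by
            refine (Finset.card_le_card (t := ({1, -1} : Finset F)) fun x hx => ?_).trans Finset.card_le_two
            obtain ⟨h2, h3⟩ := Finset.mem_filter.1 hx
            have h4 := pow_gcd_eq_one.2 ⟨h3, pow_card_circ hσ (mem_circ.1 h2)⟩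
            have e2 : Nat.gcd n (Nat.card (fixedSub σ) + 1) = 2 := by
              show Nat.gcd n (q + 1) = 2
              rw [hn, hq3]
              decide
            rw [e2] at h4
            rcases sq_eq_one_iff.1 h4 with e' | e' <;> simp [e']
          calc (n - 1) * _ ≤ 13 * 2 := Nat.mul_le_mul (by omega) hG2
            _ < _ := by rw [hn, hq3]; norm_num
        refine lt_of_le_of_lt (Nat.mul_le_mul_left _ hG) ?_
        have h2 : n - 1 < (q + 1) ^ (n - 13) * q := by
          rcases (show n = 14 ∨ 15 ≤ n by omega) with e | h15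
          · rw [e, show (14 : ℕ) - 13 = 1 from rfl, pow_one]
            have h4 : 4 ≤ q := by omega
            exact lt_of_lt_of_le (by norm_num) (Nat.mul_le_mul (show 5 ≤ q + 1 by omega) h4)
          · have key : ∀ k, 15 ≤ k → k - 1 < 4 ^ (k - 13) * 3 := by
              intro k hk
              induction k, hk using Nat.le_induction with
              | base => norm_num
              | succ k hk ih => rw [show k + 1 - 13 = k - 13 + 1 by omega, pow_succ]; omega
            exact (key n h15).trans_le (Nat.mul_le_mul (Nat.pow_le_pow_left (by omega) _) hq)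
        calc (n - 1) * (q + 1) < ((q + 1) ^ (n - 13) * q) * (q + 1) := Nat.mul_lt_mul_of_pos_right h2 (by omega)
          _ = _ := by ring
    · intro p hp p' hp' e
      have hp := Finset.mem_coe.1 hp
      have hp' := Finset.mem_coe.1 hp'
      obtain ⟨⟨f, hf⟩, C, s⟩ := p
      obtain ⟨⟨f', hf'⟩, C', s'⟩ := p'
      have ef : f = f' := funext fun z => by
        have := congrFun e (z : ι)
        rwa [hTR, hTR] at this
      subst ef
      have eC : C = C' := funext fun i => by
        have := congrFun e (iC i)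
        simpa [iC, hTa, vals] using this
      subst eC
      have hP0 : P f C ≠ 0 := ne_zero_of_norm_one (hPn _ hp)
      have h5 : s ^ 5 = s' ^ 5 := by
        have := congrFun e (iA 0)
        simp only [iA, hTa, vals, Sum.elim_inl] at this
        exact mul_right_cancel₀ hP0 (mul_right_cancel₀ (ne_zero_of_norm_one (hA₀n 0)) this)
      have h4 : s ^ 4 = s' ^ 4 := by
        have := congrFun e (iB (Sum.inr 0))
        simp only [iB, hTa, vals, Sum.elim_inl, Sum.elim_inr, B₀, mul_one] at this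
        exact mul_right_cancel₀ hP0 (inv_injective this)
      have hs : s ^ 4 ≠ 0 := pow_ne_zero _ (ne_zero_of_norm_one (mem_circ.1 (Finset.mem_product.1 (Finset.mem_sigma.1 hp).2).2))
      have : s = s' := by
        refine mul_left_cancel₀ hs ?_
        rw [← pow_succ, h5, h4, ← pow_succ]
      subst this
      rfl

end CfsgLib.Geo.UnitDecomp
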