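/-
Overgroups of the monomial unitary group: first steps.
-/
import Cfsg.Agent.Lib.Geo.UnitDecomp.Plane
import Cfsg.Agent.Lib.Geo.UnitDecomp.Torus

set_option autoImplicit false
set_option linter.unusedSectionVars false
set_option linter.style.haveILetI false
set_option maxHeartbeats 800000

namespace CfsgLib.Geo.UnitDecomp

open CfsgLib.Classical CfsgLib.Classical.Herm CfsgLib.Geo.UnitMax

variable {F : Type*} [Field F] {σ : F →+* F} {V : Type*} [AddCommGroup V] [Module F V]
  {B : V →ₛₗ[σ] V →ₗ[F] F} {ι : Type} [Fintype ι] [DecidableEq ι] {e : Module.Basis ι F V} [DecidableEq F]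
  [FiniteDimensional F V]

/-- Monomial isometries. -/
abbrev Mon (e : Module.Basis ι F V) (g : HU B) : Prop := Blk e (id : ι → ι) g

/-- A non-monomial element stabilising a coordinate line. -/
def FixLine (e : Module.Basis ι F V) (M : Subgroup (HU B)) : Prop :=
  ∃ g ∈ M, ¬ Mon e g ∧ ∃ l m : ι, ∃ c : F, (g : V ≃ₗ[F] V) (e l) = c • e m

theorem not_mon_of_supp {g : HU B} {x : ι} (hx : 2 ≤ (supp e ((g : V ≃ₗ[F] V) (e x))).card) : ¬ Mon e g := by
  intro hg
  obtain ⟨a, b, ha, hb, hab⟩ := Finset.one_lt_card_iff.1 hx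
  exact hab (hg x x rfl a b (mem_supp.1 ha) (mem_supp.1 hb))

theorem supp_single_iff {v : V} (hv : v ≠ 0) (hs : (supp e v).card ≤ 1) : ∃ m : ι, v = e.repr v m • e m := by
  obtain ⟨m, hm⟩ := supp_nonempty (e := e) hv
  refine ⟨m, e.repr.injective (Finsupp.ext fun x => ?_)⟩
  rw [map_smul, Finsupp.smul_apply, repr_single, smul_eq_mul]
  by_cases hx : m = x
  · subst hx; simp
  · rw [if_neg hx, mul_zero]
    exact not_mem_supp.1 fun h' => hx (Finset.card_le_one.1 hs _ hm _ h')

theorem exists_col_of_not_mon {g : HU B} (hg : ¬ Mon e g) :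
    ∃ x, 2 ≤ (supp e ((g : V ≃ₗ[F] V) (e x))).card := by
  by_contra! hc
  refine hg fun x x' hxx y y' hy hy' => ?_
  rw [id, id] at hxx ⊢
  subst hxx
  exact Finset.card_le_one.1 (Nat.le_of_lt_succ (hc x)) y (mem_supp.2 hy) y' (mem_supp.2 hy')

theorem inv_not_mon {g : HU B} (hg : ¬ Mon e g) : ¬ Mon e g⁻¹ := by
  intro hi
  apply hg
  choose m hm using fun x => supp_single_iff (e := e) (v := ((g⁻¹ : HU B) : V ≃ₗ[F] V) (e x))
    (fun h0 => e.ne_zero x (((g⁻¹ : HU B) : V ≃ₗ[F] V).injective (by rw [h0, map_zero])))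
    (Finset.card_le_one.2 fun a ha b hb => hi x x rfl a b (mem_supp.1 ha) (mem_supp.1 hb))
  have hinv : ∀ w, (g : V ≃ₗ[F] V) (((g⁻¹ : HU B) : V ≃ₗ[F] V) w) = w := fun w => by
    rw [← LinearEquiv.mul_apply, ← Subgroup.coe_mul, mul_inv_cancel]; rfl
  have hc : ∀ x, e.repr (((g⁻¹ : HU B) : V ≃ₗ[F] V) (e x)) (m x) ≠ 0 := fun x h0 => by
    have := hinv (e x)
    rw [hm x, h0, zero_smul, map_zero] at this
    exact e.ne_zero x this.symm
  have hg' : ∀ x, (g : V ≃ₗ[F] V) (e (m x)) = (e.repr (((g⁻¹ : HU B) : V ≃ₗ[F] V) (e x)) (m x))⁻¹ • e x := fun x => by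
    have := hinv (e x)
    rw [hm x, map_smul] at this
    rw [eq_inv_smul_iff₀ (hc x)]
    exact this
  have hsurj : Function.Surjective m := by
    have hinj : Function.Injective m := fun x x' e' => by
      by_contra hne
      have h1 := hg' x
      rw [e', hg' x'] at h1
      have := congrArg (fun v => e.repr v x) h1
      simp only [map_smul, Finsupp.smul_apply, repr_single, if_neg (Ne.symm hne), if_true, smul_eq_mul, mul_zero,
        mul_one] at this
      have hc' := hc x
      rw [e'] at hc'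
      exact inv_ne_zero hc' this.symm
    exact Finite.injective_iff_surjective.1 hinj
  intro x x' hxx y y' hy hy'
  rw [id, id] at hxx ⊢
  subst hxx
  obtain ⟨z, rfl⟩ := hsurj x
  rw [hg', map_smul, Finsupp.smul_apply, repr_single] at hy hy'
  simp only [smul_eq_mul, mul_ite, mul_one, mul_zero, ne_eq, ite_eq_right_iff, not_forall] at hy hy'
  rw [← hy.1, ← hy'.1]

variable (h : IsHerm B) {M : Subgroup (HU B)} (he : IsFrame B e) (hH : ∀ g ∈ HSU B, Mon e g → g ∈ M)
include h he

theorem col_card (g : HU B) (S : Finset ι) (P : Finset ι)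
    (hS : ∀ x ∈ S, supp e ((g : V ≃ₗ[F] V) (e x)) ⊆ P) : S.card ≤ P.card := by
  classical
  have hli : LinearIndependent F (fun x : S => (g : V ≃ₗ[F] V) (e x)) :=
    (e.linearIndependent.map' _ (g : V ≃ₗ[F] V).ker).comp _ Subtype.val_injective
  have h1 := finrank_span_eq_card hli
  have h2 : Submodule.span F (Set.range fun x : S => (g : V ≃ₗ[F] V) (e x)) ≤
      Submodule.span F ((P.image e : Finset V) : Set V) := by
    rw [Submodule.span_le]
    rintro _ ⟨x, rfl⟩
    show (g : V ≃ₗ[F] V) (e x) ∈ _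
    rw [← e.sum_repr ((g : V ≃ₗ[F] V) (e x))]
    refine Submodule.sum_mem _ fun z _ => ?_
    by_cases hz : e.repr ((g : V ≃ₗ[F] V) (e x)) z = 0
    · rw [hz, zero_smul]; exact Submodule.zero_mem _
    · exact Submodule.smul_mem _ _ (Submodule.subset_span (Finset.mem_image_of_mem _ (hS x x.2 (mem_supp.2 hz))))
  have := (Submodule.finrank_mono h2).trans ((finrank_span_finset_le_card _).trans Finset.card_image_le)
  rw [h1, Fintype.card_coe] at this
  exact this

include hH in
/-- Conjugates of a pair element. -/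
theorem pair_family {g : HU B} (hg : g ∈ M) {x l : ι} (hxl : x ≠ l) {α : F} (hα : nm σ α = 1) :
    ∃ y ∈ M, ∀ z, (y : V ≃ₗ[F] V) z = z + ((α - 1) * B ((g : V ≃ₗ[F] V) (e x)) z) • (g : V ≃ₗ[F] V) (e x) +
      ((σ α - 1) * B ((g : V ≃ₗ[F] V) (e l)) z) • (g : V ≃ₗ[F] V) (e l) := by
  obtain ⟨d, hd, hdz⟩ := col_family h he hH (col_single (M := M) h he hxl) hα
  refine ⟨g * d * g⁻¹, M.mul_mem (M.mul_mem hg hd) (M.inv_mem hg), fun z => ?_⟩
  obtain ⟨w, rfl⟩ := (g : V ≃ₗ[F] V).surjective z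
  have hi : ((g⁻¹ : HU B) : V ≃ₗ[F] V) ((g : V ≃ₗ[F] V) w) = w := by
    rw [← LinearEquiv.mul_apply, ← Subgroup.coe_mul, inv_mul_cancel]; rfl
  rw [Subgroup.coe_mul, Subgroup.coe_mul, LinearEquiv.mul_apply, LinearEquiv.mul_apply, hi, hdz, map_add, map_add,
    map_smul, map_smul, HU.map_eq, HU.map_eq]

/-- A monomial element with a balanced pair of eigenvalues lives on two coordinates. -/
theorem pair_mon {α : F} (hα : nm σ α = 1) (hα2 : α * α ≠ 1) (hα3 : α * α * α ≠ 1) {u f : V}
    (huu : B u u = 1) (hff : B f f = 1) (huf : B u f = 0) {y : HU B} (hy : Mon e y)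
    (hyz : ∀ z, (y : V ≃ₗ[F] V) z = z + ((α - 1) * B u z) • u + ((σ α - 1) * B f z) • f) :
    ∃ Q : Finset ι, Q.card ≤ 2 ∧ supp e u ⊆ Q ∧ supp e f ⊆ Q := by
  classical
  have hfu : B f u = 0 := h.eq_zero_symm huf
  have hαa : α * σ α = 1 := hα
  have hyu : (y : V ≃ₗ[F] V) u = α • u := by rw [hyz, huu, hfu]; module
  have hyf : (y : V ≃ₗ[F] V) f = σ α • f := by rw [hyz, hff, huf]; module
  have h2 : ∀ z, (y : V ≃ₗ[F] V) ((y : V ≃ₗ[F] V) z) = z + ((α * α - 1) * B u z) • u + ((σ α * σ α - 1) * B f z) • f := by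
    intro z
    rw [hyz z, map_add, map_add, map_smul, map_smul, hyu, hyf, hyz z]
    match_scalars <;> ring
  have h3 : ∀ z, (y : V ≃ₗ[F] V) ((y : V ≃ₗ[F] V) ((y : V ≃ₗ[F] V) z)) =
      z + ((α * α * α - 1) * B u z) • u + ((σ α * σ α * σ α - 1) * B f z) • f := by
    intro z
    rw [h2 z, map_add, map_add, map_smul, map_smul, hyu, hyf, hyz z]
    match_scalars <;> ring
  choose π hπ using fun x => supp_single_iff (e := e) (v := (y : V ≃ₗ[F] V) (e x))
    (fun h0 => e.ne_zero x ((y : V ≃ₗ[F] V).injective (by rw [h0, map_zero])))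
    (Finset.card_le_one.2 fun a ha b hb => hy x x rfl a b (mem_supp.1 ha) (mem_supp.1 hb))
  set a : ι → F := fun x => e.repr ((y : V ≃ₗ[F] V) (e x)) (π x)
  have ha : ∀ x, a x ≠ 0 := fun x h0 => e.ne_zero x ((y : V ≃ₗ[F] V).injective (by
    rw [hπ x, show e.repr ((y : V ≃ₗ[F] V) (e x)) (π x) = 0 from h0, zero_smul, map_zero]))
  have hy' : ∀ x, (y : V ≃ₗ[F] V) (e x) = a x • e (π x) := hπ
  set c := 1 + α + σ α
  have hc : c ≠ 0 := fun h0 => hα3 (by
    have : α * α + α + 1 = 0 := by linear_combination α * h0 - hαa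
    linear_combination (α - 1) * this)
  have hππ : ∀ x, π (π x) = x := by
    intro x
    by_contra hx
    have hinj : Function.Injective π := fun p p' e' => by
      by_contra hne
      have h4 := HU.map_eq y (e p) (e p')
      rw [hy', hy', e', smul_left, smul_right, he p p', if_neg hne, he (π p') (π p'), if_pos rfl, mul_one] at h4
      exact mul_ne_zero ((map_ne_zero σ).2 (ha p)) (ha p') h4
    have hx1 : π x ≠ x := fun e' => hx (by rw [e', e'])
    have key : (y : V ≃ₗ[F] V) ((y : V ≃ₗ[F] V) ((y : V ≃ₗ[F] V) (e x))) + (-c) • (y : V ≃ₗ[F] V) ((y : V ≃ₗ[F] V) (e x)) +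
        c • (y : V ≃ₗ[F] V) (e x) = e x := by
      rw [h3, h2, hyz]
      match_scalars
      · ring
      · linear_combination (B u (e x) * (α - 1)) * ((1 : F) - α) * hαa * 0 + B u (e x) * (1 - α) * hαa
      · linear_combination B f (e x) * (1 - σ α) * hαa
    simp only [hy', map_smul, smul_smul] at key
    have := congrArg (fun v => e.repr v (π x)) key
    simp only [map_add, map_smul, Finsupp.add_apply, Finsupp.smul_apply, repr_single, smul_eq_mul,
      if_neg (fun e' : π (π x) = π x => hx1 (hinj e')), if_true, if_neg hx1.symm,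
      if_neg (fun e' : π (π (π x)) = π x => hx (hinj e')), mul_zero, add_zero, zero_add, mul_one] at this
    exact mul_ne_zero hc (ha x) (by linear_combination this)
  set D : ι → F := fun x => a x * a (π x)
  have hD : ∀ x, (y : V ≃ₗ[F] V) ((y : V ≃ₗ[F] V) (e x)) = D x • e x := fun x => by
    rw [hy', map_smul, hy', hππ, smul_smul]
  refine ⟨Finset.univ.filter fun x => D x ≠ 1, ?_, ?_, ?_⟩
  · set Q := Finset.univ.filter fun x => D x ≠ 1
    have hli : LinearIndependent F (fun x : Q => e x) := e.linearIndependent.comp _ Subtype.val_injective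
    have hle : Submodule.span F (Set.range fun x : Q => e x) ≤ Submodule.span F (({u, f} : Finset V) : Set V) := by
      rw [Submodule.span_le]
      rintro _ ⟨x, rfl⟩
      have hx : D x - 1 ≠ 0 := sub_ne_zero.2 (Finset.mem_filter.1 x.2).2
      have h4 : (D x - 1) • e x = ((α * α - 1) * B u (e x)) • u + ((σ α * σ α - 1) * B f (e x)) • f := by
        rw [sub_smul, one_smul, ← hD, h2]; module
      show e (x : ι) ∈ _
      rw [← inv_smul_smul₀ hx (e (x : ι)), h4]
      refine Submodule.smul_mem _ _ (Submodule.add_mem _ (Submodule.smul_mem _ _ (Submodule.subset_span ?_))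
        (Submodule.smul_mem _ _ (Submodule.subset_span ?_))) <;> simp
    have := (Submodule.finrank_mono hle).trans ((finrank_span_finset_le_card _).trans Finset.card_le_two)
    rw [finrank_span_eq_card hli, Fintype.card_coe] at this
    exact this
  all_goals
    intro x hx
    refine Finset.mem_filter.2 ⟨Finset.mem_univ _, fun hD1 => mem_supp.1 hx ?_⟩
    have h4 := h2 (e x)
    rw [hD, hD1, one_smul] at h4
  · have h5 := congrArg (B u) h4
    rw [map_add, map_add, smul_right, smul_right, huu, huf] at h5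
    have h6 : (α * α - 1) * B u (e x) = 0 := by linear_combination -h5
    rw [repr_eq he, ← h.symm, (mul_eq_zero.1 h6).resolve_left (sub_ne_zero.2 hα2), map_zero]
  · have h5 := congrArg (B f) h4
    rw [map_add, map_add, smul_right, smul_right, hff, hfu] at h5
    have h6 : (σ α * σ α - 1) * B f (e x) = 0 := by linear_combination -h5
    have h7 : σ α * σ α - 1 ≠ 0 := sub_ne_zero.2 fun e' => hα2 (by
      linear_combination -(α * α) * e' + (α * σ α + 1) * hαa)
    rw [repr_eq he, ← h.symm, (mul_eq_zero.1 h6).resolve_left h7, map_zero]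

omit h he in
theorem exists_order [Finite F] (hσ : IsInvol σ) (hq : 3 ≤ Nat.card (fixedSub σ)) :
    ∃ α : F, nm σ α = 1 ∧ α * α ≠ 1 ∧ α * α * α ≠ 1 := by
  classical
  haveI := Fintype.ofFinite F
  by_contra! hc
  have key : ∀ x ∈ circ σ, x = 1 ∨ x = -1 ∨ x * x * x = 1 := fun x hx => by
    by_cases h2 : x * x = 1
    · rcases mul_self_eq_one_iff.1 h2 with e' | e'
      · exact Or.inl e'
      · exact Or.inr (Or.inl e')
    · exact Or.inr (Or.inr (hc x (mem_circ.1 hx) h2))
  have hcard := card_circ hσ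
  by_cases h3 : ∃ x ∈ circ σ, x * x * x = 1 ∧ x ≠ 1
  · obtain ⟨w, hw, hw3, hw1⟩ := h3
    by_cases hm : (-1 : F) = 1
    · have hsub : circ σ ⊆ {1, w, w * w} := fun x hx => by
        simp only [Finset.mem_insert, Finset.mem_singleton]
        rcases key x hx with e' | e' | e'
        · exact Or.inl e'
        · exact Or.inl (e'.trans hm)
        · have h0 : w * w + w + 1 = 0 := (mul_eq_zero.1 (show (w - 1) * (w * w + w + 1) = 0 by linear_combination hw3)).resolve_left (sub_ne_zero.2 hw1)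
          have : (x - 1) * ((x - w) * (x - w * w)) = 0 := by linear_combination e' - hw3 + (w * x - x * x + (1 - w) * 0) * h0 * 1 + 0 * h0
          rcases mul_eq_zero.1 this with e1 | e1
          · exact Or.inl (sub_eq_zero.1 e1)
          · rcases mul_eq_zero.1 e1 with e2 | e2
            · exact Or.inr (Or.inl (sub_eq_zero.1 e2))
            · exact Or.inr (Or.inr (sub_eq_zero.1 e2))
      have := (Finset.card_le_card hsub).trans Finset.card_le_three
      omega
    · -- a product of elements of orders two and three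
      have hn : nm σ (-w) = 1 := by
        rw [nm, map_neg, neg_mul_neg]; exact mem_circ.1 hw
      rcases key (-w) (mem_circ.2 hn) with e' | e' | e'
      · exact hm (by linear_combination (1 - w + w * w) * e' + (1 : F) * hw3 + 0 * hw3)
      · exact hw1 (neg_injective e')
      · exact hm (by linear_combination e' + hw3)
  · push Not at h3
    have hsub : circ σ ⊆ {1, -1} := fun x hx => by
      simp only [Finset.mem_insert, Finset.mem_singleton]
      rcases key x hx with e' | e' | e'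
      · exact Or.inl e'
      · exact Or.inr e'
      · exact Or.inl (h3 x hx e')
    have := (Finset.card_le_card hsub).trans Finset.card_le_two
    omega

include hH in
/-- A column with two zeros gives an element stabilising a coordinate line. -/
theorem fix_of_two_zeros [Finite F] (hq : 3 ≤ Nat.card (fixedSub σ)) (hn : 6 ≤ Fintype.card ι) {g : HU B}
    (hg : g ∈ M) (hnm : ¬ Mon e g) {k i j : ι} (hij : i ≠ j) (hi : e.repr ((g : V ≃ₗ[F] V) (e k)) i = 0)
    (hj : e.repr ((g : V ≃ₗ[F] V) (e k)) j = 0) : FixLine e M := by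
  classical
  set u := (g : V ≃ₗ[F] V) (e k) with hu
  have hu0 : u ≠ 0 := fun h0 => e.ne_zero k ((g : V ≃ₗ[F] V).injective (by rw [← hu, h0, map_zero]))
  by_cases hs : (supp e u).card ≤ 1
  · obtain ⟨m, hm⟩ := supp_single_iff hu0 hs
    exact ⟨g, hg, hnm, k, m, _, hm⟩
  by_contra hfix
  obtain ⟨α, hα, hα2, hα3⟩ := exists_order h.invol hq
  have hframe : ∀ (g : HU B) (p p' : ι), B ((g : V ≃ₗ[F] V) (e p)) ((g : V ≃ₗ[F] V) (e p')) = if p = p' then 1 else 0 :=
    fun g p p' => by rw [HU.map_eq, he]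
  have hmon : ∀ (g : HU B) (y : HU B) (x l c : ι), y ∈ M → x ≠ l →
      (∀ z, (y : V ≃ₗ[F] V) z = z + ((α - 1) * B ((g : V ≃ₗ[F] V) (e x)) z) • (g : V ≃ₗ[F] V) (e x) +
        ((σ α - 1) * B ((g : V ≃ₗ[F] V) (e l)) z) • (g : V ≃ₗ[F] V) (e l)) →
      B ((g : V ≃ₗ[F] V) (e x)) (e c) = 0 → B ((g : V ≃ₗ[F] V) (e l)) (e c) = 0 →
      ∃ Q : Finset ι, Q.card ≤ 2 ∧ supp e ((g : V ≃ₗ[F] V) (e x)) ⊆ Q ∧ supp e ((g : V ≃ₗ[F] V) (e l)) ⊆ Q := by
    intro g y x l c hy hxl hyz h1 h2
    refine pair_mon h he hα hα2 hα3 (by rw [hframe, if_pos rfl]) (by rw [hframe, if_pos rfl])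
      (by rw [hframe, if_neg hxl]) ?_ hyz
    by_contra hc
    exact hfix ⟨y, hy, hc, c, c, 1, by rw [hyz, h1, h2]; simp⟩
  -- the two rows live on two columns
  obtain ⟨y₁, hy₁, hy₁z⟩ := pair_family h he hH (M.inv_mem hg) hij hα
  have hgi : ∀ c, B (((g⁻¹ : HU B) : V ≃ₗ[F] V) (e c)) (e k) = B (e c) u := fun c => by
    rw [← HU.map_eq g, ← LinearEquiv.mul_apply, ← Subgroup.coe_mul, mul_inv_cancel]; rfl
  obtain ⟨P, hP, hPi, hPj⟩ := hmon g⁻¹ y₁ i j k hy₁ hij hy₁z (by rw [hgi, ← repr_eq he, hi])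
    (by rw [hgi, ← repr_eq he, hj])
  have hzero : ∀ l, l ∉ P → B ((g : V ≃ₗ[F] V) (e l)) (e i) = 0 := fun l hl => by
    have h1 : e.repr (((g⁻¹ : HU B) : V ≃ₗ[F] V) (e i)) l = 0 := not_mem_supp.1 fun hm => hl (hPi hm)
    rw [repr_eq he, ← HU.map_eq g, ← LinearEquiv.mul_apply, ← Subgroup.coe_mul, mul_inv_cancel] at h1
    exact h1
  have hui : B u (e i) = 0 := h.eq_zero_symm (by rw [← repr_eq he]; exact hi)
  have hall : ∀ l ∈ (Finset.univ \ P).erase k, supp e ((g : V ≃ₗ[F] V) (e l)) ⊆ supp e u := by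
    intro l hl
    obtain ⟨hlk, hlP⟩ := Finset.mem_erase.1 hl
    obtain ⟨y, hy, hyz⟩ := pair_family h he hH hg (Ne.symm hlk) hα
    obtain ⟨Q, hQ, h1, h2⟩ := hmon g y k l i hy (Ne.symm hlk) hyz hui (hzero l (Finset.mem_sdiff.1 hlP).2)
    change supp e u ⊆ Q at h1
    rw [Finset.eq_of_subset_of_card_le h1 (by omega)]
    exact h2
  have h1 := col_card h he g _ _ hall
  obtain ⟨l, hl⟩ : ((Finset.univ \ P).erase k).Nonempty := Finset.card_pos.1 (by
    have h2 := Finset.card_le_card_sdiff_add_card (s := Finset.univ) (t := P)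
    have h3 := Finset.pred_card_le_card_erase (s := Finset.univ \ P) (a := k)
    rw [Finset.card_univ] at h2
    omega)
  obtain ⟨hlk, hlP⟩ := Finset.mem_erase.1 hl
  obtain ⟨y, hy, hyz⟩ := pair_family h he hH hg (Ne.symm hlk) hα
  obtain ⟨Q, hQ, h2, -⟩ := hmon g y k l i hy (Ne.symm hlk) hyz hui (hzero l (Finset.mem_sdiff.1 hlP).2)
  change supp e u ⊆ Q at h2
  have h3 := Finset.card_le_card h2
  have h4 := Finset.card_le_card_sdiff_add_card (s := Finset.univ) (t := P)
  have h5 := Finset.pred_card_le_card_erase (s := Finset.univ \ P) (a := k)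
  rw [Finset.card_univ] at h4
  omega

include hH in
/-- A line stabiliser gives a two-coordinate centre. -/
theorem pair_of_fix [Finite F] (hq : 3 ≤ Nat.card (fixedSub σ)) (hfix : FixLine e M) :
    ∃ a b : ι, a ≠ b ∧ ∃ y ∈ Ctr h M, supp e y = {a, b} := by
  obtain ⟨g, hg, hnm, l, m, c, hgl⟩ := hfix
  obtain ⟨x, hx⟩ := exists_col_of_not_mon hnm
  have hxl : x ≠ l := by
    rintro rfl
    rw [hgl] at hx
    have : supp e (c • e m) ⊆ {m} := fun z hz => by
      rw [mem_supp, map_smul, Finsupp.smul_apply, repr_single] at hz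
      by_contra hne
      rw [Finset.mem_singleton] at hne
      simp [Ne.symm hne] at hz
    have := Finset.card_le_card this
    rw [Finset.card_singleton] at this
    omega
  obtain ⟨u, b, hu, hbm, hb0, hb1⟩ := col_adjust h he hH hq (m := m) ⟨g, hg, x, l, hxl, rfl, c, hgl⟩ hx
  obtain ⟨v, hv, hv0, hvm⟩ := ctr_of_col h he hH hq hu hbm hb0 hb1
  obtain ⟨p, hp⟩ := supp_nonempty (e := e) hv0
  obtain ⟨p', hp', hne⟩ : ∃ p' ∈ supp e v, p' ≠ p := by
    by_contra! hc
    obtain ⟨m', hm'⟩ := supp_single_iff hv0 (Finset.card_le_one.2 fun a ha b hb => (hc a ha).trans (hc b hb).symm)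
    have h1 := hv.1
    rw [hm', IsHerm.smul_self, he m' m', if_pos rfl, mul_one] at h1
    exact mem_supp.1 hp (by rw [hm', map_smul, Finsupp.smul_apply, nm_eq_zero.1 h1, zero_smul])
  exact ⟨p, p', hne.symm, ctr_pair h he hH hv hne.symm (mem_supp.1 hp) (mem_supp.1 hp') (Or.inr ⟨m, hvm⟩)⟩

end CfsgLib.Geo.UnitDecomp
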