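/-
An overgroup of the monomial unitary group with a further element has a column with a zero: a conjugate of a
double transposition with suitable phases kills a diagonal entry.
-/
import Cfsg.Agent.Lib.Geo.UnitDecomp.OneStart

set_option autoImplicit false
set_option linter.unusedSectionVars false
set_option linter.style.haveILetI false
set_option maxHeartbeats 800000

namespace CfsgLib.Geo.UnitDecomp

open CfsgLib.Classical CfsgLib.Classical.Herm CfsgLib.Geo.UnitMax

section Sum

variable {F : Type*} [Field F] [Fintype F] [DecidableEq F] {σ : F →+* F} (hσ : IsInvol σ)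
include hσ

/-- A circle whose norm product is a square has a tangent point, so more than half as many values. -/
theorem circle_values {x y w : F} (hx : x ≠ 0) (hy : y ≠ 0) (hw : σ w = w) (hsq : w * w = nm σ x * nm σ y) :
    Nat.card (fixedSub σ) + 2 ≤ 2 * ((circ σ).image fun τ => nm σ (x + τ * y)).card := by
  set a := σ x * y with ha_def
  have hsx : σ x ≠ 0 := (map_ne_zero σ).2 hx
  have ha : a ≠ 0 := mul_ne_zero hsx hy
  have hσa : σ a = x * σ y := by rw [ha_def, map_mul, hσ.invol]
  have hw0 : w ≠ 0 := fun e' => mul_ne_zero (fun h0 => hx (nm_eq_zero.1 h0)) (fun h0 => hy (nm_eq_zero.1 h0))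
    (by rw [← hsq, e', mul_zero])
  set τ₀ := w / a
  have hτ₀ : nm σ τ₀ = 1 := by
    rw [nm_div, nm, nm, hσa, hw, ha_def, hsq, nm, nm]
    field_simp
    exact div_self ((map_ne_zero σ).2 hy)
  have hval : nm σ (x + τ₀ * y) = nm σ x + nm σ y + 2 * w := by
    have e1 : τ₀ * a = w := div_mul_cancel₀ _ ha
    have e2 := congrArg σ e1
    rw [map_mul, hσa, hw] at e2
    have e3 : τ₀ * σ τ₀ = 1 := hτ₀
    simp only [nm, map_add, map_mul]
    linear_combination e1 + e2 + y * σ y * e3
  have huniq : ∀ τ, nm σ τ = 1 → nm σ (x + τ * y) = nm σ x + nm σ y + 2 * w → τ = τ₀ := by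
    intro τ hτ hv
    have e3 : τ * σ τ = 1 := hτ
    simp only [nm, map_add, map_mul] at hv hsq
    have e4 : (τ * a - w) * (τ * a - w) = 0 := by
      linear_combination (τ * a) * hv - (y * σ y * τ * a + a * x * σ y) * e3 + hsq
    have e5 := sub_eq_zero.1 (mul_self_eq_zero.1 e4)
    exact (eq_div_iff ha).2 e5
  have h1 := circle_fibre hσ hx hy ((circ σ).erase τ₀) (Finset.erase_subset _ _)
  have h2 : ((circ σ).erase τ₀).image (fun τ => nm σ (x + τ * y)) ⊆
      ((circ σ).image fun τ => nm σ (x + τ * y)).erase (nm σ (x + τ₀ * y)) := by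
    intro z hz
    obtain ⟨τ, hτ, rfl⟩ := Finset.mem_image.1 hz
    obtain ⟨hne, hτc⟩ := Finset.mem_erase.1 hτ
    exact Finset.mem_erase.2 ⟨fun e' => hne (huniq τ (mem_circ.1 hτc) (e'.trans hval)),
      Finset.mem_image.2 ⟨τ, hτc, rfl⟩⟩
  have h3 := Finset.card_le_card h2
  rw [Finset.card_erase_of_mem (Finset.mem_image.2 ⟨τ₀, mem_circ.2 hτ₀, rfl⟩)] at h3
  rw [Finset.card_erase_of_mem (mem_circ.2 hτ₀), card_circ hσ] at h1
  have h4 : 0 < ((circ σ).image fun τ => nm σ (x + τ * y)).card :=
    Finset.card_pos.2 ⟨_, Finset.mem_image.2 ⟨τ₀, mem_circ.2 hτ₀, rfl⟩⟩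
  omega

/-- Two values of norms on two circles with prescribed sum, in three ways. -/
theorem norm_circles_sum {x y x' y' w s : F} (hx : x ≠ 0) (hy : y ≠ 0) (hx' : x' ≠ 0) (hy' : y' ≠ 0) (hw : σ w = w)
    (hsq : w * w = nm σ x' * nm σ y') (hs : σ s = s) :
    ∃ L : Finset F, 3 ≤ L.card ∧ ∀ l ∈ L, nm σ l = 1 ∧
      ∃ m, nm σ m = 1 ∧ nm σ (x + l * y) + nm σ (x' + m * y') = s := by
  set S := (circ σ).image fun τ => nm σ (x' + τ * y')
  set L := (circ σ).filter fun τ => s - nm σ (x + τ * y) ∈ S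
  set N := (circ σ).filter fun τ => ¬ s - nm σ (x + τ * y) ∈ S
  set fx := Finset.univ.filter fun z : F => σ z = z
  have hS : S ⊆ fx := fun z hz => by
    obtain ⟨τ, -, rfl⟩ := Finset.mem_image.1 hz
    simp [fx, nm_fixed hσ]
  have h1 := circle_values hσ hx' hy' hw hsq
  have hN : N.card ≤ 2 * (fx \ S).card := by
    refine (circle_fibre hσ hx hy N (Finset.filter_subset _ _)).trans (Nat.mul_le_mul_left 2 ?_)
    rw [← Finset.card_image_of_injective (f := fun z : F => s - z) _ sub_right_injective]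
    refine Finset.card_le_card fun z hz => ?_
    obtain ⟨u, hu, rfl⟩ := Finset.mem_image.1 hz
    obtain ⟨τ, hτ, rfl⟩ := Finset.mem_image.1 hu
    refine Finset.mem_sdiff.2 ⟨?_, (Finset.mem_filter.1 hτ).2⟩
    simp [fx, hs, nm_fixed hσ]
  rw [Finset.card_sdiff_of_subset hS] at hN
  have hc := card_circ hσ
  have hf : fx.card = Nat.card (fixedSub σ) := card_fixed
  have hsum : L.card + N.card = (circ σ).card :=
    Finset.card_filter_add_card_filter_not (s := circ σ) (fun τ => s - nm σ (x + τ * y) ∈ S)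
  have hSle := Finset.card_le_card hS
  change Nat.card (fixedSub σ) + 2 ≤ 2 * S.card at h1
  refine ⟨L, by omega, fun l hl => ?_⟩
  obtain ⟨h2, h3⟩ := Finset.mem_filter.1 hl
  obtain ⟨m, hm, hm1⟩ := Finset.mem_image.1 h3
  exact ⟨mem_circ.1 h2, m, mem_circ.1 hm, by linear_combination hm1⟩

/-- Among three fixed elements two have a square product. -/
theorem exists_sq_pair {u : Fin 3 → F} (hu : ∀ k, σ (u k) = u k) (hu0 : ∀ k, u k ≠ 0) :
    ∃ k k' : Fin 3, k ≠ k' ∧ ∃ w, σ w = w ∧ w * w = u k * u k' := by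
  classical
  haveI : Fintype (fixedSub σ) := Fintype.ofFinite _
  let v : Fin 3 → fixedSub σ := fun k => ⟨u k, mem_fixedSub.2 (hu k)⟩
  obtain ⟨k, k', hne, he'⟩ := Fintype.exists_ne_map_eq_of_card_lt (fun k => decide (IsSquare (v k))) (by simp)
  have hsq : IsSquare (v k * v k') := by
    by_cases h1 : IsSquare (v k)
    · exact h1.mul (by simpa [h1] using he'.symm)
    · have h1' : ¬ IsSquare (v k') := by simpa [h1] using he'.symm
      by_cases h2 : ringChar (fixedSub σ) = 2
      · exact absurd (FiniteField.isSquare_of_char_two h2 _) h1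
      · have hv : ∀ k, v k ≠ 0 := fun k h0 => hu0 k (congrArg Subtype.val h0)
        have e1 := quadraticChar_neg_one_iff_not_isSquare.2 h1
        have e2 := quadraticChar_neg_one_iff_not_isSquare.2 h1'
        rw [← quadraticChar_one_iff_isSquare (mul_ne_zero (hv k) (hv k')), map_mul, e1, e2]
        norm_num
  obtain ⟨r, hr⟩ := hsq
  exact ⟨k, k', hne, r, mem_fixedSub.1 r.2, by simpa [v] using (congrArg Subtype.val hr).symm⟩

end Sum

variable {F : Type*} [Field F] {σ : F →+* F} {V : Type*} [AddCommGroup V] [Module F V]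
  {B : V →ₛₗ[σ] V →ₗ[F] F} {ι : Type} [Fintype ι] [DecidableEq ι] {e : Module.Basis ι F V} [DecidableEq F]
  [FiniteDimensional F V] (h : IsHerm B) {M : Subgroup (HU B)} (he : IsFrame B e)
  (hH : ∀ g ∈ HSU B, Mon e g → g ∈ M)
include h he hH

/-- The product of two disjoint phased transpositions. -/
theorem double_swap_mem {a b c d : ι} (hab : a ≠ b) (hcd : c ≠ d) (hac : a ≠ c) (had : a ≠ d) (hbc : b ≠ c)
    (hbd : b ≠ d) {l m : F} (hl : nm σ l = 1) (hm : nm σ m = 1) :
    ∃ y ∈ M, ∀ z, (y : V ≃ₗ[F] V) z =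
      z + (-1 * B (e a + l • e b) z) • (e a + l • e b) + (-1 * B (e c + m • e d) z) • (e c + m • e d) := by
  have hl' : l * σ l = 1 := hl
  have hm' : m * σ m = 1 := hm
  set R := e a + l • e b with hR
  set S := e c + m • e d with hS
  have hRe : ∀ x, B R (e x) = (if a = x then 1 else 0) + σ l * (if b = x then 1 else 0) := fun x => by
    simp only [hR, map_add, LinearMap.add_apply, smul_left, he a x, he b x]
  have hSe : ∀ x, B S (e x) = (if c = x then 1 else 0) + σ m * (if d = x then 1 else 0) := fun x => by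
    simp only [hS, map_add, LinearMap.add_apply, smul_left, he c x, he d x]
  have hRR : B R R = 2 := by
    conv_lhs => arg 2; rw [hR]
    simp only [map_add, map_smul, hRe, smul_eq_mul, if_true, if_neg hab, if_neg hab.symm]
    linear_combination hl'
  have hSS : B S S = 2 := by
    conv_lhs => arg 2; rw [hS]
    simp only [map_add, map_smul, hSe, smul_eq_mul, if_true, if_neg hcd, if_neg hcd.symm]
    linear_combination hm'
  have hRS : B R S = 0 := by
    conv_lhs => arg 2; rw [hS]
    simp [map_add, map_smul, hRe, hac, had, hbc, hbd]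
  have hSR : B S R = 0 := h.eq_zero_symm hRS
  let L : V →ₗ[F] V := LinearMap.transvection (-(B R)) R ∘ₗ LinearMap.transvection (-(B S)) S
  have hL : ∀ z, L z = z + (-1 * B R z) • R + (-1 * B S z) • S := fun z => by
    simp only [L, LinearMap.comp_apply, LinearMap.transvection.apply, LinearMap.neg_apply, map_add,
      map_smul, hRS]
    match_scalars <;> ring
  have hpres : ∀ z z', B (L z) (L z') = B z z' := fun z z' => by
    simp only [hL, map_add, LinearMap.add_apply, smul_left, smul_right, hRR, hSS, hRS, hSR, map_mul, map_neg,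
      map_one, h.symm]
    ring
  refine ⟨h.ofPreserves L hpres, hH _ ?_ ?_, fun z => hL z⟩
  · rw [MonoidHom.mem_ker, Units.ext_iff, Units.val_one]
    show ((LinearEquiv.det (h.ofPreserves L hpres : V ≃ₗ[F] V) : Fˣ) : F) = 1
    rw [LinearEquiv.coe_det, IsHerm.coe_ofPreserves, LinearMap.det_comp, LinearMap.transvection.det,
      LinearMap.transvection.det, LinearMap.neg_apply, LinearMap.neg_apply, hRR, hSS]
    ring
  · intro x x' hxx y y' hy hy'
    rw [id, id] at hxx ⊢
    subst hxx
    rw [IsHerm.ofPreserves_apply, hL] at hy hy'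
    -- every image is a multiple of a basis vector
    obtain ⟨p, k, hp⟩ : ∃ (p : ι) (k : F), e x + (-1 * B R (e x)) • R + (-1 * B S (e x)) • S = k • e p := by
      rw [hRe, hSe]
      simp only [hR, hS]
      by_cases h1 : a = x
      · subst h1
        exact ⟨b, -l, by simp [hab.symm, hac.symm, had.symm]⟩
      by_cases h2 : b = x
      · subst h2
        exact ⟨a, -σ l, by
          simp [hab, hbc.symm, hbd.symm, smul_smul, mul_comm (σ l) l, hl']⟩
      by_cases h3 : c = x
      · subst h3
        exact ⟨d, -m, by simp [h1, h2, hcd.symm]⟩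
      by_cases h4 : d = x
      · subst h4
        exact ⟨c, -σ m, by simp [h1, h2, hcd, smul_smul, mul_comm (σ m) m, hm']⟩
      exact ⟨x, 1, by simp [h1, h2, h3, h4]⟩
    rw [hp, map_smul, Finsupp.smul_apply, repr_single, smul_eq_mul] at hy hy'
    have e1 : p = y := by_contra fun hne => hy (by rw [if_neg hne, mul_zero])
    have e2 : p = y' := by_contra fun hne => hy' (by rw [if_neg hne, mul_zero])
    rw [← e1, ← e2]

/-- If no column has a zero, a double reflection conjugate of product type moves at most four coordinates. -/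
theorem mon_zeros {y : HU B} (hy : Mon e y) {R S : V} (hind : ∀ p q : F, p • R + q • S = 0 → p = 0 ∧ q = 0)
    (hyz : ∀ z, (y : V ≃ₗ[F] V) z = z + (-1 * B R z) • R + (-1 * B S z) • S) :
    ∃ Z : Finset ι, Fintype.card ι ≤ Z.card + 4 ∧ (∀ x ∈ Z, e.repr R x = 0) ∧ ∀ x ∈ Z, e.repr S x = 0 := by
  classical
  set Q := Finset.univ.filter fun x => (y : V ≃ₗ[F] V) (e x) ≠ e x
  have hQ : Q.card ≤ 4 := by
    by_contra hQ5
    set w : ι → V := fun x => (y : V ≃ₗ[F] V) (e x) - e x
    have hS1 : ∀ x, (supp e ((y : V ≃ₗ[F] V) (e x))).card ≤ 1 := fun x =>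
      Finset.card_le_one.2 fun a ha b hb => hy x x rfl a b (mem_supp.1 ha) (mem_supp.1 hb)
    have hw : ∀ x ∈ Q, e.repr (w x) x ≠ 0 := by
      intro x hx h0
      refine (Finset.mem_filter.1 hx).2 ?_
      rw [map_sub, Finsupp.sub_apply, repr_single, if_pos rfl, sub_eq_zero] at h0
      obtain ⟨p, hp⟩ := supp_single_iff (e := e) (v := (y : V ≃ₗ[F] V) (e x))
        (fun h1 => e.ne_zero x ((y : V ≃ₗ[F] V).injective (by rw [h1, map_zero]))) (hS1 x)
      have h1 : e.repr ((y : V ≃ₗ[F] V) (e x)) x ≠ 0 := by rw [h0]; exact one_ne_zero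
      have h2 : p = x := by
        by_contra hpx
        apply h1
        rw [hp, map_smul, Finsupp.smul_apply, repr_single, if_neg hpx, smul_zero]
      rw [hp, h2, h0, one_smul]
    have hsupp : ∀ x x', x' ∉ supp e ((y : V ≃ₗ[F] V) (e x)) → x' ≠ x → e.repr (w x) x' = 0 := fun x x' h1 h2 => by
      rw [map_sub, Finsupp.sub_apply, not_mem_supp.1 h1, repr_single, if_neg h2.symm, sub_zero]
    let N : ι → Finset ι := fun x => insert x (supp e ((y : V ≃ₗ[F] V) (e x)))
    have hN : ∀ x, (N x).card ≤ 2 := fun x => (Finset.card_insert_le _ _).trans (by have := hS1 x; omega)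
    obtain ⟨x₁, hx₁⟩ := Finset.card_pos.1 (show 0 < Q.card by omega)
    obtain ⟨x₂, hx₂, hx₂n⟩ := Finset.exists_mem_notMem_of_card_lt_card (s := N x₁) (t := Q) (by have := hN x₁; omega)
    obtain ⟨x₃, hx₃, hx₃n⟩ := Finset.exists_mem_notMem_of_card_lt_card (s := N x₁ ∪ N x₂) (t := Q) (by
      have := Finset.card_union_le (N x₁) (N x₂); have := hN x₁; have := hN x₂; omega)
    simp only [N, Finset.mem_union, Finset.mem_insert, not_or] at hx₂n hx₃n
    have hli : LinearIndependent F ![w x₁, w x₂, w x₃] := by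
      rw [Fintype.linearIndependent_iff]
      intro c hc
      rw [Fin.sum_univ_three] at hc
      simp only [Matrix.cons_val_zero, Matrix.cons_val_one, Matrix.cons_val] at hc
      have c3 : c 2 = 0 := by
        have := congrArg (fun v => e.repr v x₃) hc
        simp only [map_add, map_smul, map_zero, Finsupp.add_apply, Finsupp.smul_apply, Finsupp.zero_apply,
          hsupp x₁ x₃ hx₃n.1.2 hx₃n.1.1, hsupp x₂ x₃ hx₃n.2.2 hx₃n.2.1, smul_eq_mul, mul_zero, zero_add] at this
        exact (mul_eq_zero.1 this).resolve_right (hw x₃ hx₃)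
      rw [c3, zero_smul, add_zero] at hc
      have c2 : c 1 = 0 := by
        have := congrArg (fun v => e.repr v x₂) hc
        simp only [map_add, map_smul, map_zero, Finsupp.add_apply, Finsupp.smul_apply, Finsupp.zero_apply,
          hsupp x₁ x₂ hx₂n.2 hx₂n.1, smul_eq_mul, mul_zero, zero_add] at this
        exact (mul_eq_zero.1 this).resolve_right (hw x₂ hx₂)
      rw [c2, zero_smul, add_zero] at hc
      have c1 : c 0 = 0 := by
        have := congrArg (fun v => e.repr v x₁) hc
        simp only [map_smul, map_zero, Finsupp.smul_apply, Finsupp.zero_apply, smul_eq_mul] at this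
        exact (mul_eq_zero.1 this).resolve_right (hw x₁ hx₁)
      intro i; fin_cases i <;> assumption
    have hsub : Submodule.span F (Set.range ![w x₁, w x₂, w x₃]) ≤
        Submodule.span F (({R, S} : Finset V) : Set V) := by
      rw [Submodule.span_le]
      have hwm : ∀ x, w x ∈ Submodule.span F (({R, S} : Finset V) : Set V) := fun x => by
        simp only [w, hyz]
        rw [show ∀ p q : V, e x + p + q - e x = p + q from fun p q => by abel]
        refine Submodule.add_mem _ (Submodule.smul_mem _ _ (Submodule.subset_span ?_))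
          (Submodule.smul_mem _ _ (Submodule.subset_span ?_)) <;> simp
      rintro _ ⟨i, rfl⟩
      fin_cases i <;> exact hwm _
    have := (Submodule.finrank_mono hsub).trans ((finrank_span_finset_le_card _).trans Finset.card_le_two)
    rw [finrank_span_eq_card hli, Fintype.card_fin] at this
    omega
  have hfix : ∀ x ∈ Finset.univ \ Q, B R (e x) = 0 ∧ B S (e x) = 0 := fun x hx => by
    have h0 : (y : V ≃ₗ[F] V) (e x) = e x := by
      by_contra hne
      exact (Finset.mem_sdiff.1 hx).2 (Finset.mem_filter.2 ⟨Finset.mem_univ _, hne⟩)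
    rw [hyz, add_assoc, add_eq_left] at h0
    simpa using hind _ _ h0
  refine ⟨Finset.univ \ Q, by rw [Finset.card_univ_sdiff]; omega, fun x hx => ?_, fun x hx => ?_⟩
  · rw [repr_eq he, h.eq_zero_symm (hfix x hx).1]
  · rw [repr_eq he, h.eq_zero_symm (hfix x hx).2]

/-- A zero in a column of an element of the overgroup. -/
theorem exists_zero [Finite F] (hn : 6 ≤ Fintype.card ι) {g : HU B} (hg : g ∈ M) (hnm : ¬ Mon e g) :
    ∃ g' ∈ M, ∃ k i, e.repr ((g' : V ≃ₗ[F] V) (e k)) i = 0 ∧ 2 ≤ (supp e ((g' : V ≃ₗ[F] V) (e k))).card := by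
  classical
  haveI := Fintype.ofFinite F
  have hσ := h.invol
  by_contra! hc
  have hinv : ∀ (g : HU B) (w : V), (g : V ≃ₗ[F] V) (((g⁻¹ : HU B) : V ≃ₗ[F] V) w) = w := fun g w => by
    rw [← LinearEquiv.mul_apply, ← Subgroup.coe_mul, mul_inv_cancel]; rfl
  -- every entry of a non-monomial element is non-zero
  have hfull : ∀ g ∈ M, ¬ Mon e g → ∀ k i, e.repr ((g : V ≃ₗ[F] V) (e k)) i ≠ 0 := by
    intro g hg hnm
    obtain ⟨k₀, hk₀⟩ := exists_col_of_not_mon hnm
    have hk0 : ∀ i, e.repr ((g : V ≃ₗ[F] V) (e k₀)) i ≠ 0 := fun i h0 =>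
      absurd (hc g hg k₀ i h0) (not_lt.2 hk₀)
    intro k i h0
    have hk : (supp e ((g : V ≃ₗ[F] V) (e k))).card ≤ 1 := Nat.le_of_lt_succ (hc g hg k i h0)
    have hkk : k ≠ k₀ := fun e' => absurd (e' ▸ hk) (not_le.2 hk₀)
    obtain ⟨p, hp⟩ := supp_single_iff (e := e)
      (fun h1 => e.ne_zero k ((g : V ≃ₗ[F] V).injective (by rw [h1, map_zero]))) hk
    have h1 := HU.map_eq g (e k) (e k₀)
    rw [he k k₀, if_neg hkk, hp, smul_left, ← repr_eq he] at h1
    refine (mul_eq_zero.1 h1).elim (fun h2 => ?_) (hk0 p)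
    rw [map_eq_zero] at h2
    rw [h2, zero_smul] at hp
    exact e.ne_zero k ((g : V ≃ₗ[F] V).injective (by rw [hp, map_zero]))
  set gl := (g : V ≃ₗ[F] V)
  have hG := hfull g hg hnm
  obtain ⟨f⟩ : Nonempty (Fin 4 ↪ ι) := Function.Embedding.nonempty_of_card_le (by rw [Fintype.card_fin]; omega)
  set i := f 0
  obtain ⟨k, k', hkk, w, hw, hsq⟩ := exists_sq_pair hσ (u := fun k : Fin 3 => nm σ (e.repr (gl (e (f k.castSucc))) i))
    (fun k => nm_fixed hσ _) (fun k h0 => hG _ _ (nm_eq_zero.1 h0))
  obtain ⟨π, hπ2, hπ3⟩ : ∃ π : Equiv.Perm (Fin 4), π 2 = k.castSucc ∧ π 3 = k'.castSucc := by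
    clear hsq; revert k k'; decide
  set a := f (π 0)
  set b := f (π 1)
  set c := f (π 2) with hc_def
  set d := f (π 3) with hd_def
  have hne : ∀ {x y : Fin 4}, x ≠ y → f (π x) ≠ f (π y) := fun hxy => f.injective.ne (π.injective.ne hxy)
  have hab : a ≠ b := hne (by decide)
  have hcd : c ≠ d := hne (by decide)
  have hac : a ≠ c := hne (by decide)
  have had : a ≠ d := hne (by decide)
  have hbc : b ≠ c := hne (by decide)
  have hbd : b ≠ d := hne (by decide)
  rw [← hπ2, ← hπ3, ← hc_def, ← hd_def] at hsq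
  obtain ⟨L, hL3, hL⟩ := norm_circles_sum hσ (s := (1 : F)) (hG a i) (hG b i) (hG c i) (hG d i) hw hsq (map_one σ)
  have step : ∀ l m : F, nm σ l = 1 → nm σ m = 1 →
      nm σ (e.repr (gl (e a)) i + l * e.repr (gl (e b)) i) + nm σ (e.repr (gl (e c)) i + m * e.repr (gl (e d)) i) = 1 →
      ∃ Z : Finset ι, Fintype.card ι ≤ Z.card + 4 ∧
        (∀ x ∈ Z, e.repr (gl (e a)) x + l * e.repr (gl (e b)) x = 0) ∧ i ∉ Z := by
    intro l m hl hm hsum
    obtain ⟨y, hy, hyz⟩ := double_swap_mem h he hH hab hcd hac had hbc hbd hl hm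
    set r := e a + l • e b with hr
    set s := e c + m • e d with hs
    set y' := g * y * g⁻¹
    have hy' : y' ∈ M := M.mul_mem (M.mul_mem hg hy) (M.inv_mem hg)
    have hy'z : ∀ z, (y' : V ≃ₗ[F] V) z = z + (-1 * B (gl r) z) • gl r + (-1 * B (gl s) z) • gl s := by
      intro z
      obtain ⟨w, rfl⟩ := gl.surjective z
      rw [Subgroup.coe_mul, Subgroup.coe_mul, LinearEquiv.mul_apply, LinearEquiv.mul_apply,
        show ((g⁻¹ : HU B) : V ≃ₗ[F] V) (gl w) = w by
          show ((g⁻¹ * g : HU B) : V ≃ₗ[F] V) w = w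
          rw [inv_mul_cancel]; rfl]
      show gl ((y : V ≃ₗ[F] V) w) = _
      rw [hyz, map_add, map_add, map_smul, map_smul, HU.map_eq, HU.map_eq]
    have hrep : ∀ x, e.repr (gl r) x = e.repr (gl (e a)) x + l * e.repr (gl (e b)) x := fun x => by
      simp [hr]
    have hsrep : ∀ x, e.repr (gl s) x = e.repr (gl (e c)) x + m * e.repr (gl (e d)) x := fun x => by
      simp [hs]
    have hzero : e.repr ((y' : V ≃ₗ[F] V) (e i)) i = 0 := by
      have hB : ∀ v, B v (e i) = σ (e.repr v i) := fun v => by rw [repr_eq he, h.symm]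
      simp only [hy'z, map_add, map_smul, Finsupp.add_apply, Finsupp.smul_apply, repr_single, if_true, smul_eq_mul,
        hB, hrep, hsrep]
      simp only [nm, map_add, map_mul] at hsum
      simp only [map_mul]
      linear_combination -hsum
    have hmon : Mon e y' := by
      by_contra hno
      exact hfull y' hy' hno i i hzero
    obtain ⟨Z, hZ, hZR, hZS⟩ := mon_zeros h he hH hmon (R := gl r) (S := gl s) (fun p q hpq => by
      have h1 : gl (p • r + q • s) = 0 := by rw [map_add, map_smul, map_smul]; exact hpq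
      have h2 := congrArg (fun v => e.repr v a) (gl.map_eq_zero_iff.1 h1)
      have h3 := congrArg (fun v => e.repr v c) (gl.map_eq_zero_iff.1 h1)
      exact ⟨by simpa [hr, hs, repr_single, hab.symm, hac.symm, had.symm] using h2,
        by simpa [hr, hs, repr_single, hac, hbc, hcd.symm] using h3⟩) hy'z
    refine ⟨Z, hZ, fun x hx => by rw [← hrep]; exact hZR x hx, fun hi => one_ne_zero (α := F) ?_⟩
    have e1 := hZR i hi
    have e2 := hZS i hi
    rw [hrep] at e1
    rw [hsrep] at e2
    rw [← hsum, e1, e2, nm_zero, add_zero]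
  have hZex : ∀ l : ↥L, ∃ Z : Finset ι, Fintype.card ι ≤ Z.card + 4 ∧
      (∀ x ∈ Z, e.repr (gl (e a)) x + (l : F) * e.repr (gl (e b)) x = 0) ∧ i ∉ Z := fun l => by
    obtain ⟨hl, m, hm, hs⟩ := hL l l.2
    exact step l m hl hm hs
  choose Z hZ hZ0 hZi using hZex
  have hdis : ((Finset.univ : Finset ↥L) : Set ↥L).PairwiseDisjoint Z := fun l _ l' _ hll => by
    refine Finset.disjoint_left.2 fun x hx hx' => ?_
    have h1 : ((l : F) - l') * e.repr (gl (e b)) x = 0 := by linear_combination hZ0 l x hx - hZ0 l' x hx'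
    exact hG b x ((mul_eq_zero.1 h1).resolve_left (sub_ne_zero.2 fun e' => hll (Subtype.ext e')))
  have h1 := Finset.card_biUnion hdis
  have h2 : (Finset.univ.biUnion Z).card ≤ (Finset.univ.erase i).card := Finset.card_le_card fun x hx => by
    obtain ⟨l, -, hxl⟩ := Finset.mem_biUnion.1 hx
    exact Finset.mem_erase.2 ⟨fun e' => hZi l (e' ▸ hxl), Finset.mem_univ _⟩
  rw [Finset.card_erase_of_mem (Finset.mem_univ _), Finset.card_univ] at h2
  have h3 := Finset.card_nsmul_le_sum (Finset.univ : Finset ↥L) (fun l => (Z l).card) (Fintype.card ι - 4)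
    fun l _ => by have := hZ l; omega
  rw [Finset.card_univ, Fintype.card_coe, smul_eq_mul] at h3
  have h4 := Nat.mul_le_mul_right (Fintype.card ι - 4) hL3
  omega

end CfsgLib.Geo.UnitDecomp
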