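/-
An overgroup of the monomial unitary group contains a transvection group on two coordinates.
-/
import Cfsg.Agent.Lib.Geo.UnitDecomp.OneZero
import Cfsg.Agent.Lib.Geo.UnitDecomp.UpTwo

set_option autoImplicit false
set_option linter.unusedSectionVars false
set_option linter.style.haveILetI false
set_option maxHeartbeats 800000

namespace CfsgLib.Geo.UnitDecomp

open CfsgLib.Classical CfsgLib.Classical.Herm CfsgLib.Geo.UnitMax

variable {F : Type*} [Field F] {σ : F →+* F} {V : Type*} [AddCommGroup V] [Module F V]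
  {B : V →ₛₗ[σ] V →ₗ[F] F} {ι : Type} [Fintype ι] [DecidableEq ι] {e : Module.Basis ι F V} [DecidableEq F]
  [FiniteDimensional F V] (h : IsHerm B) {M : Subgroup (HU B)} (he : IsFrame B e)
  (hH : ∀ g ∈ HSU B, Mon e g → g ∈ M)
include h he hH

/-- Two coordinates of equal norms and the compensating sign. -/
theorem exists_swap (h2 : (2 : F) ≠ 0) {m a b : ι} (hab : a ≠ b) (ham : a ≠ m) (hbm : b ≠ m) {u : V}
    (hum : e.repr u m = 0) (hua : e.repr u a ≠ 0) (hn : nm σ (e.repr u a) = nm σ (e.repr u b)) :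
    ∃ y ∈ M, ∃ r : V, (y : V ≃ₗ[F] V) u = u ∧ B r (e m) = 0 ∧
      ∀ z, (y : V ≃ₗ[F] V) z = z + (-1 * B r z) • r + (-2 * B (e m) z) • e m := by
  have hσ := h.invol
  have hub : e.repr u b ≠ 0 := fun e' => hua (nm_eq_zero.1 (by rw [hn, e', nm_zero]))
  set τ := e.repr u b / e.repr u a
  have hτ : nm σ τ = 1 := by rw [nm_div, hn, div_self fun e' => hub (nm_eq_zero.1 e')]
  have hτ' : τ * σ τ = 1 := hτ
  set r := e a - τ • e b
  have hrr : B r r = 2 := by
    simp only [r, map_sub, sub_left, LinearMap.sub_apply, smul_left, smul_right, he a a, he b b, he a b, he b a,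
      if_neg hab, if_neg hab.symm, if_true]
    linear_combination hτ'
  have hrm : B r (e m) = 0 := by
    simp [r, he a m, he b m, ham, hbm, smul_left]
  have hmr : B (e m) r = 0 := h.eq_zero_symm hrm
  have hmm : B (e m) (e m) = 1 := by rw [he m m, if_pos rfl]
  let L : V →ₗ[F] V := LinearMap.transvection (-(B r)) r ∘ₗ LinearMap.transvection ((-2 : F) • B (e m)) (e m)
  have hL : ∀ z, L z = z + (-1 * B r z) • r + (-2 * B (e m) z) • e m := fun z => by
    simp only [L, LinearMap.comp_apply, LinearMap.transvection.apply, LinearMap.neg_apply, LinearMap.smul_apply,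
      smul_eq_mul, map_add, map_smul, hrm]
    match_scalars <;> ring
  have hpres : ∀ z z', B (L z) (L z') = B z z' := fun z z' => by
    simp only [hL, map_add, LinearMap.add_apply, smul_left, smul_right, hrr, hrm, hmr, hmm, map_mul, map_neg, map_one,
      map_ofNat, h.symm]
    ring
  refine ⟨h.ofPreserves L hpres, hH _ ?_ ?_, r, ?_, hrm, fun z => hL z⟩
  · rw [MonoidHom.mem_ker, Units.ext_iff, Units.val_one]
    show ((LinearEquiv.det (h.ofPreserves L hpres : V ≃ₗ[F] V) : Fˣ) : F) = 1
    rw [LinearEquiv.coe_det, IsHerm.coe_ofPreserves, LinearMap.det_comp, LinearMap.transvection.det,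
      LinearMap.transvection.det, LinearMap.neg_apply, LinearMap.smul_apply, hrr, hmm, smul_eq_mul]
    ring
  · intro x x' hxx y y' hy hy'
    rw [id, id] at hxx ⊢
    subst hxx
    rw [IsHerm.ofPreserves_apply, hL] at hy hy'
    have hrx : B r (e x) = (if a = x then 1 else 0) - σ τ * (if b = x then 1 else 0) := by
      simp only [r, sub_left, smul_left, he a x, he b x]
    simp only [map_add, map_smul, hrx, he m x] at hy hy'
    simp only [r, map_sub, map_smul, Finsupp.add_apply, Finsupp.sub_apply, Finsupp.smul_apply, repr_single,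
      smul_eq_mul] at hy hy'
    by_cases hxa : a = x
    · subst hxa
      have : ∀ y, y ≠ b → (if a = y then (1 : F) else 0) + -1 * ((if a = a then 1 else 0) - σ τ * if b = a then 1 else 0) *
          ((if a = y then 1 else 0) - τ * if b = y then 1 else 0) + -2 * (if m = a then 1 else 0) * (if m = y then 1 else 0) = 0 := by
        intro y hy
        simp [hab.symm, Ne.symm ham, Ne.symm hy]
        split_ifs <;> simp
      rw [by_contra fun hne => hy (this y hne), by_contra fun hne => hy' (this y' hne)]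
    by_cases hxb : b = x
    · subst hxb
      have : ∀ y, y ≠ a → (if b = y then (1 : F) else 0) + -1 * ((if a = b then 1 else 0) - σ τ * if b = b then 1 else 0) *
          ((if a = y then 1 else 0) - τ * if b = y then 1 else 0) + -2 * (if m = b then 1 else 0) * (if m = y then 1 else 0) = 0 := by
        intro y hy
        by_cases hby : b = y
        · subst hby
          simp [hab, Ne.symm hbm]
          linear_combination -hτ'
        · simp [hab, Ne.symm hbm, Ne.symm hy, hby]
      rw [by_contra fun hne => hy (this y hne), by_contra fun hne => hy' (this y' hne)]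
    have : ∀ y, y ≠ x → (if x = y then (1 : F) else 0) + -1 * ((if a = x then 1 else 0) - σ τ * if b = x then 1 else 0) *
        ((if a = y then 1 else 0) - τ * if b = y then 1 else 0) + -2 * (if m = x then 1 else 0) * (if m = y then 1 else 0) = 0 := by
      intro y hy
      by_cases hm : m = x
      · subst hm; simp [hxa, hxb, Ne.symm hy]
      · simp [hxa, hxb, hm, Ne.symm hy]
    rw [by_contra fun hne => hy (this y hne), by_contra fun hne => hy' (this y' hne)]
  · rw [IsHerm.ofPreserves_apply, hL, ← repr_eq he, hum, mul_zero, zero_smul, add_zero]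
    have : B r u = 0 := by
      simp only [r, sub_left, smul_left, ← repr_eq he]
      have h1 : τ * e.repr u a = e.repr u b := div_mul_cancel₀ _ hua
      linear_combination σ τ * h1 - e.repr u a * hτ'
    rw [this, mul_zero, zero_smul, add_zero]

/-- A column with exactly one zero gives a line stabiliser if some scalar has non-trivial determinant. -/
theorem fix_scal [Finite F] (hn : 6 ≤ Fintype.card ι) {g : HU B} (hg : g ∈ M) {k m : ι}
    (hm : e.repr ((g : V ≃ₗ[F] V) (e k)) m = 0) (hs : 2 ≤ (supp e ((g : V ≃ₗ[F] V) (e k))).card)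
    (htwo : ∀ m', m' ≠ m → e.repr ((g : V ≃ₗ[F] V) (e k)) m' ≠ 0) {μ : F} (hμ' : nm σ μ = 1)
    (hμn : μ ^ Fintype.card ι ≠ 1) : FixLine e M := by
  classical
  haveI := Fintype.ofFinite F
  have hσ := h.invol
  set u := (g : V ≃ₗ[F] V) (e k) with hu
  have hum : B u (e m) = 0 := h.eq_zero_symm (by rw [← repr_eq he]; exact hm)
  have hμ0 := ne_zero_of_norm_one hμ'
  set α := (μ ^ (Fintype.card ι - 1))⁻¹
  have hα : nm σ α = 1 := by rw [nm_inv, norm_one_pow hσ hμ', inv_one]
  have hαμ : α ≠ μ := fun e' => hμn (by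
    rw [show Fintype.card ι = Fintype.card ι - 1 + 1 by omega, pow_succ]
    nth_rw 2 [← e']
    exact mul_inv_cancel₀ (pow_ne_zero _ hμ0))
  obtain ⟨d, hd, hdv⟩ := exists_dia_mem h he hH (l := Function.update (fun _ => μ) k α) (fun x => by
    rw [Function.update_apply]; split_ifs <;> assumption) (by
    rw [Finset.prod_update_of_mem (Finset.mem_univ _), Finset.prod_const, Finset.card_sdiff_of_subset
      (Finset.subset_univ _), Finset.card_univ, Finset.card_singleton]
    exact inv_mul_cancel₀ (pow_ne_zero _ hμ0))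
  have hyz : ∀ z, ((g * d * g⁻¹ : HU B) : V ≃ₗ[F] V) z = μ • z + ((α - μ) * B u z) • u := by
    intro z
    obtain ⟨w, rfl⟩ := (g : V ≃ₗ[F] V).surjective z
    rw [Subgroup.coe_mul, Subgroup.coe_mul, LinearEquiv.mul_apply, LinearEquiv.mul_apply,
      show ((g⁻¹ : HU B) : V ≃ₗ[F] V) ((g : V ≃ₗ[F] V) w) = w by
        show ((g⁻¹ * g : HU B) : V ≃ₗ[F] V) w = w
        rw [inv_mul_cancel]; rfl, hu, HU.map_eq, ← repr_eq he]
    have hdw : (d : V ≃ₗ[F] V) w = μ • w + ((α - μ) * e.repr w k) • e k := by
      refine e.repr.injective (Finsupp.ext fun x => ?_)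
      rw [dia_repr h he hdv]
      simp only [map_add, map_smul, Finsupp.coe_add, Finsupp.coe_smul, Pi.add_apply, Pi.smul_apply, repr_single,
        smul_eq_mul, Function.update_apply]
      by_cases hx : x = k
      · subst hx; simp; ring
      · simp [hx, Ne.symm hx]
    rw [hdw, map_add, map_smul, map_smul]
  refine ⟨g * d * g⁻¹, M.mul_mem (M.mul_mem hg hd) (M.inv_mem hg), ?_, m, m, μ, by
    rw [hyz, hum, mul_zero, zero_smul, add_zero]⟩
  obtain ⟨a, ha⟩ := Finset.card_pos.1 (show 0 < (supp e u).card by omega)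
  have hua : B u (e a) ≠ 0 := fun e' => mem_supp.1 ha (by rw [repr_eq he, ← h.symm, e', map_zero])
  have hsub : (supp e u).erase a ⊆ supp e (((g * d * g⁻¹ : HU B) : V ≃ₗ[F] V) (e a)) := by
    intro x hx
    obtain ⟨hxa, hxu⟩ := Finset.mem_erase.1 hx
    rw [mem_supp, hyz, map_add, map_smul, map_smul, Finsupp.add_apply, Finsupp.smul_apply, Finsupp.smul_apply,
      repr_single, if_neg hxa.symm, smul_zero, zero_add, smul_eq_mul]
    exact mul_ne_zero (mul_ne_zero (sub_ne_zero.2 hαμ) hua) (mem_supp.1 hxu)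
  have hbig : Fintype.card ι - 1 ≤ (supp e u).card := by
    rw [← Finset.card_univ, ← Finset.card_erase_of_mem (Finset.mem_univ m)]
    exact Finset.card_le_card fun x hx => mem_supp.2 (htwo x (Finset.mem_erase.1 hx).1)
  refine not_mon_of_supp (x := a) ?_
  have := Finset.card_le_card hsub
  rw [Finset.card_erase_of_mem ha] at this
  omega

/-- A zero in a column gives a line stabiliser, in odd characteristic. -/
theorem fix_of_zero [Finite F] (h2 : (2 : F) ≠ 0) (hq : 3 ≤ Nat.card (fixedSub σ)) (hn : 6 ≤ Fintype.card ι)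
    {g : HU B} (hg : g ∈ M) {k m : ι} (hm : e.repr ((g : V ≃ₗ[F] V) (e k)) m = 0)
    (hs : 2 ≤ (supp e ((g : V ≃ₗ[F] V) (e k))).card) : FixLine e M := by
  classical
  haveI := Fintype.ofFinite F
  have hσ := h.invol
  set u := (g : V ≃ₗ[F] V) (e k) with hu
  have hnm : ¬ Mon e g := not_mon_of_supp hs
  by_cases htwo : ∃ m', m' ≠ m ∧ e.repr u m' = 0
  · obtain ⟨m', hne, h0⟩ := htwo
    exact fix_of_two_zeros h he hH hq (by omega) hg hnm hne h0 hm
  push Not at htwo
  have hum : B u (e m) = 0 := h.eq_zero_symm (by rw [← repr_eq he]; exact hm)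
  have hinv : ∀ (g : HU B) (w : V), (g : V ≃ₗ[F] V) (((g⁻¹ : HU B) : V ≃ₗ[F] V) w) = w := fun g w => by
    rw [← LinearEquiv.mul_apply, ← Subgroup.coe_mul, mul_inv_cancel]; rfl
  by_cases hscal : ∃ μ ∈ circ σ, μ ^ Fintype.card ι ≠ 1
  · obtain ⟨μ, hμ, hμn⟩ := hscal
    exact fix_scal h he hH hn hg hm hs htwo (mem_circ.1 hμ) hμn
  push Not at hscal
  have hqn : Nat.card (fixedSub σ) + 1 ≤ Fintype.card ι := by
    rw [← card_circ hσ]
    refine (Finset.card_le_card (t := (Polynomial.nthRoots (Fintype.card ι) (1 : F)).toFinset) fun x hx => ?_).trans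
      ((Multiset.toFinset_card_le _).trans (Polynomial.card_nthRoots _ _))
    rw [Multiset.mem_toFinset, Polynomial.mem_nthRoots (by omega)]
    exact hscal x hx
  obtain ⟨a, ha, b, hb, hab, hnab⟩ := Finset.exists_ne_map_eq_of_card_lt_of_maps_to (s := Finset.univ.erase m)
    (t := fixStar σ) (f := fun x => nm σ (e.repr u x)) (by
      rw [Finset.card_erase_of_mem (Finset.mem_univ _), Finset.card_univ]
      have := card_fixStar (σ := σ)
      omega) (fun x hx => mem_fixStar.2 ⟨nm_fixed hσ _, fun e' => htwo x (Finset.mem_erase.1 hx).1 (nm_eq_zero.1 e')⟩)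
  obtain ⟨ham, -⟩ := Finset.mem_erase.1 ha
  obtain ⟨hbm, -⟩ := Finset.mem_erase.1 hb
  obtain ⟨y, hy, r, hyu, hrm, hyz⟩ := exists_swap h he hH h2 hab ham hbm hm (htwo a ham) hnab
  set gi := ((g⁻¹ : HU B) : V ≃ₗ[F] V)
  set y' := g⁻¹ * y * g
  have hy'z : ∀ w, (y' : V ≃ₗ[F] V) w = w + (-1 * B (gi r) w) • gi r + (-2 * B (gi (e m)) w) • gi (e m) := by
    intro w
    show gi ((y : V ≃ₗ[F] V) ((g : V ≃ₗ[F] V) w)) = _
    rw [hyz, map_add, map_add, map_smul, map_smul, show gi ((g : V ≃ₗ[F] V) w) = w by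
      show ((g⁻¹ * g : HU B) : V ≃ₗ[F] V) w = w
      rw [inv_mul_cancel]; rfl]
    congr 3
    · rw [← HU.map_eq g (gi r) w, hinv]
    · rw [← HU.map_eq g (gi (e m)) w, hinv]
  have hy' : y' ∈ M := M.mul_mem (M.mul_mem (M.inv_mem hg) hy) hg
  have hy'k : (y' : V ≃ₗ[F] V) (e k) = e k := by
    show gi ((y : V ≃ₗ[F] V) u) = e k
    rw [hyu]
    show ((g⁻¹ * g : HU B) : V ≃ₗ[F] V) (e k) = e k
    rw [inv_mul_cancel]; rfl
  by_cases hmon : Mon e y'
  swap
  · exact ⟨y', hy', hmon, k, k, 1, by rw [hy'k, one_smul]⟩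
  -- few coordinates are moved
  set z₀ := gi (e m)
  have hz₀ : (y' : V ≃ₗ[F] V) z₀ = -z₀ := by
    rw [hy'z, HU.map_eq g⁻¹, HU.map_eq g⁻¹, hrm, he m m, if_pos rfl]
    module
  set Q := Finset.univ.filter fun x => (y' : V ≃ₗ[F] V) (e x) ≠ e x
  have hQ : Q.card ≤ 4 := by
    by_contra hQ5
    set w : ι → V := fun x => (y' : V ≃ₗ[F] V) (e x) - e x
    have hw : ∀ x ∈ Q, e.repr (w x) x ≠ 0 := by
      intro x hx h0
      refine (Finset.mem_filter.1 hx).2 ?_
      rw [map_sub, Finsupp.sub_apply, repr_single, if_pos rfl, sub_eq_zero] at h0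
      obtain ⟨p, hp⟩ := supp_single_iff (e := e) (v := (y' : V ≃ₗ[F] V) (e x))
        (fun h1 => e.ne_zero x ((y' : V ≃ₗ[F] V).injective (by rw [h1, map_zero])))
        (Finset.card_le_one.2 fun a ha b hb => hmon x x rfl a b (mem_supp.1 ha) (mem_supp.1 hb))
      have h1 : e.repr ((y' : V ≃ₗ[F] V) (e x)) x ≠ 0 := by rw [h0]; exact one_ne_zero
      have h2 : p = x := by
        by_contra hpx
        apply h1
        rw [hp, map_smul, Finsupp.smul_apply, repr_single, if_neg hpx, smul_zero]
      rw [hp, h2, h0, one_smul]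
    have hsupp : ∀ x x', x' ∉ supp e ((y' : V ≃ₗ[F] V) (e x)) → x' ≠ x → e.repr (w x) x' = 0 := fun x x' h1 h2 => by
      rw [map_sub, Finsupp.sub_apply, not_mem_supp.1 h1, repr_single, if_neg h2.symm, sub_zero]
    have hS1 : ∀ x, (supp e ((y' : V ≃ₗ[F] V) (e x))).card ≤ 1 := fun x =>
      Finset.card_le_one.2 fun a ha b hb => hmon x x rfl a b (mem_supp.1 ha) (mem_supp.1 hb)
    let N : ι → Finset ι := fun x => insert x (supp e ((y' : V ≃ₗ[F] V) (e x)))
    have hN : ∀ x, (N x).card ≤ 2 := fun x => (Finset.card_insert_le _ _).trans (by have := hS1 x; omega)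
    obtain ⟨x₁, hx₁⟩ := Finset.card_pos.1 (show 0 < Q.card by omega)
    obtain ⟨x₂, hx₂, hx₂n⟩ := Finset.exists_mem_notMem_of_card_lt_card (s := N x₁) (t := Q) (by have := hN x₁; omega)
    obtain ⟨x₃, hx₃, hx₃n⟩ := Finset.exists_mem_notMem_of_card_lt_card (s := N x₁ ∪ N x₂) (t := Q) (by
      have := Finset.card_union_le (N x₁) (N x₂); have := hN x₁; have := hN x₂; omega)
    simp only [N, Finset.mem_union, Finset.mem_insert, not_or] at hx₂n hx₃n
    have hli : LinearIndependent F ![w x₁, w x₂, w x₃] := by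
      rw [Fintype.linearIndependent_iff]
      intro c hc
      rw [Fin.sum_univ_three] at hc
      simp only [Matrix.cons_val_zero, Matrix.cons_val_one, Matrix.cons_val] at hc
      have c3 : c 2 = 0 := by
        have := congrArg (fun v => e.repr v x₃) hc
        simp only [map_add, map_smul, map_zero, Finsupp.add_apply, Finsupp.smul_apply, Finsupp.zero_apply,
          hsupp x₁ x₃ hx₃n.1.2 hx₃n.1.1, hsupp x₂ x₃ hx₃n.2.2 hx₃n.2.1, smul_eq_mul, mul_zero, zero_add] at this
        exact (mul_eq_zero.1 this).resolve_right (hw x₃ hx₃)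
      rw [c3, zero_smul, add_zero] at hc
      have c2 : c 1 = 0 := by
        have := congrArg (fun v => e.repr v x₂) hc
        simp only [map_add, map_smul, map_zero, Finsupp.add_apply, Finsupp.smul_apply, Finsupp.zero_apply,
          hsupp x₁ x₂ hx₂n.2 hx₂n.1, smul_eq_mul, mul_zero, zero_add] at this
        exact (mul_eq_zero.1 this).resolve_right (hw x₂ hx₂)
      rw [c2, zero_smul, add_zero] at hc
      have c1 : c 0 = 0 := by
        have := congrArg (fun v => e.repr v x₁) hc
        simp only [map_smul, map_zero, Finsupp.smul_apply, Finsupp.zero_apply, smul_eq_mul] at this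
        exact (mul_eq_zero.1 this).resolve_right (hw x₁ hx₁)
      intro i; fin_cases i <;> assumption
    have hsub : Submodule.span F (Set.range ![w x₁, w x₂, w x₃]) ≤
        Submodule.span F (({gi r, z₀} : Finset V) : Set V) := by
      rw [Submodule.span_le]
      have hwm : ∀ x, w x ∈ Submodule.span F (({gi r, z₀} : Finset V) : Set V) := fun x => by
        simp only [w, hy'z]
        rw [show ∀ p q : V, e x + p + q - e x = p + q from fun p q => by abel]
        refine Submodule.add_mem _ (Submodule.smul_mem _ _ (Submodule.subset_span ?_))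
          (Submodule.smul_mem _ _ (Submodule.subset_span ?_)) <;> simp
      rintro _ ⟨i, rfl⟩
      fin_cases i <;> exact hwm _
    have := (Submodule.finrank_mono hsub).trans ((finrank_span_finset_le_card _).trans Finset.card_le_two)
    rw [finrank_span_eq_card hli, Fintype.card_fin] at this
    omega
  have hzQ : supp e z₀ ⊆ Q := by
    intro x hx
    refine Finset.mem_filter.2 ⟨Finset.mem_univ _, fun hfix => mem_supp.1 hx ?_⟩
    have h1 := HU.map_eq y' (e x) z₀
    rw [hfix, hz₀, map_neg] at h1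
    rw [repr_eq he]
    exact (mul_eq_zero.1 (show (2 : F) * B (e x) z₀ = 0 by linear_combination -h1)).resolve_left h2
  obtain ⟨p, hp, p', hp', hpp⟩ := Finset.one_lt_card.1 (show 1 < (Finset.univ \ supp e z₀).card by
    rw [Finset.card_univ_sdiff]
    have := Finset.card_le_card hzQ
    omega)
  exact fix_of_two_zeros h he hH hq (by omega) (M.inv_mem hg) (inv_not_mon hnm) (k := m) hpp
    (not_mem_supp.1 (Finset.mem_sdiff.1 hp).2) (not_mem_supp.1 (Finset.mem_sdiff.1 hp').2)

/-- The transvection at two coordinates of opposite norms is monomial in characteristic two. -/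
theorem swap_tr_mem (h2 : (2 : F) = 0) {p p' : ι} (hpp : p ≠ p') {τ : F} (hτ : nm σ τ = 1) :
    ∃ (hw : B (e p + τ • e p') (e p + τ • e p') = 0) (hc : (1 : F) + σ 1 = 0), h.tr hw hc ∈ M := by
  have hτ' : τ * σ τ = 1 := hτ
  have hw : B (e p + τ • e p') (e p + τ • e p') = 0 := by
    simp only [map_add, LinearMap.add_apply, smul_left, smul_right, he p p, he p' p', he p p', he p' p,
      if_neg hpp, if_neg hpp.symm, if_true]
    linear_combination hτ' + h2
  have hc : (1 : F) + σ 1 = 0 := by rw [map_one]; linear_combination h2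
  refine ⟨hw, hc, hH _ (h.det_tr hw hc) ?_⟩
  intro x x' hxx y y' hy hy'
  rw [id, id] at hxx ⊢
  subst hxx
  simp only [h.tr_apply, map_add, LinearMap.add_apply, smul_left, he p x, he p' x, one_mul, map_smul,
    Finsupp.add_apply, Finsupp.smul_apply, repr_single, smul_eq_mul] at hy hy'
  by_cases hxp : p = x
  · subst hxp
    have : ∀ y, y ≠ p' → (if p = y then (1 : F) else 0) + ((if p = p then 1 else 0) + σ τ * if p' = p then 1 else 0) *
        ((if p = y then 1 else 0) + τ * if p' = y then 1 else 0) = 0 := by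
      intro y hy
      by_cases hpy : p = y
      · simp [hpp.symm, Ne.symm hy, hpy]
        linear_combination h2
      · simp [hpp.symm, Ne.symm hy, hpy]
    rw [by_contra fun hne => hy (this y hne), by_contra fun hne => hy' (this y' hne)]
  by_cases hxq : p' = x
  · subst hxq
    have : ∀ y, y ≠ p → (if p' = y then (1 : F) else 0) + ((if p = p' then 1 else 0) + σ τ * if p' = p' then 1 else 0) *
        ((if p = y then 1 else 0) + τ * if p' = y then 1 else 0) = 0 := by
      intro y hy
      by_cases hpy : p' = y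
      · simp [hpp, Ne.symm hy, hpy]
        linear_combination hτ' + h2
      · simp [hpp, Ne.symm hy, hpy]
    rw [by_contra fun hne => hy (this y hne), by_contra fun hne => hy' (this y' hne)]
  have : ∀ y, y ≠ x → (if x = y then (1 : F) else 0) + ((if p = x then 1 else 0) + σ τ * if p' = x then 1 else 0) *
      ((if p = y then 1 else 0) + τ * if p' = y then 1 else 0) = 0 := by
    intro y hy
    simp [hxp, hxq, Ne.symm hy]
  rw [by_contra fun hne => hy (this y hne), by_contra fun hne => hy' (this y' hne)]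

/-- A zero in a column gives a line stabiliser, in characteristic two. -/
theorem fix_of_zero_two [Finite F] (h2 : (2 : F) = 0) (hq : 3 ≤ Nat.card (fixedSub σ)) (hn : 6 ≤ Fintype.card ι)
    {g : HU B} (hg : g ∈ M) {k m : ι} (hm : e.repr ((g : V ≃ₗ[F] V) (e k)) m = 0)
    (hs : 2 ≤ (supp e ((g : V ≃ₗ[F] V) (e k))).card) : FixLine e M := by
  classical
  haveI := Fintype.ofFinite F
  have hσ := h.invol
  have hnm : ¬ Mon e g := not_mon_of_supp hs
  by_cases htwo : ∃ m', m' ≠ m ∧ e.repr ((g : V ≃ₗ[F] V) (e k)) m' = 0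
  · obtain ⟨m', hne, h0⟩ := htwo
    exact fix_of_two_zeros h he hH hq (by omega) hg hnm hne h0 hm
  push Not at htwo
  by_cases hscal : ∃ μ ∈ circ σ, μ ^ Fintype.card ι ≠ 1
  · obtain ⟨μ, hμ, hμn⟩ := hscal
    exact fix_scal h he hH hn hg hm hs htwo (mem_circ.1 hμ) hμn
  push Not at hscal
  have hqn : Nat.card (fixedSub σ) + 1 ≤ Fintype.card ι := by
    rw [← card_circ hσ]
    refine (Finset.card_le_card (t := (Polynomial.nthRoots (Fintype.card ι) (1 : F)).toFinset) fun x hx => ?_).trans
      ((Multiset.toFinset_card_le _).trans (Polynomial.card_nthRoots _ _))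
    rw [Multiset.mem_toFinset, Polynomial.mem_nthRoots (by omega)]
    exact hscal x hx
  set gi := ((g⁻¹ : HU B) : V ≃ₗ[F] V)
  have hinv : ∀ w, (g : V ≃ₗ[F] V) (gi w) = w := fun w => by
    rw [← LinearEquiv.mul_apply, ← Subgroup.coe_mul, mul_inv_cancel]; rfl
  let r : ι → F := fun x => e.repr ((g : V ≃ₗ[F] V) (e x)) m
  have hrow : ∀ x, e.repr (gi (e m)) x = σ (r x) := fun x => by
    simp only [r]
    rw [repr_eq he, repr_eq he, h.symm, ← HU.map_eq g, hinv]
  by_cases hr : ∃ p, p ≠ k ∧ r p = 0
  · obtain ⟨p, hpk, hp⟩ := hr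
    exact fix_of_two_zeros h he hH hq (by omega) (M.inv_mem hg) (inv_not_mon hnm) (k := m) hpk.symm
      (show e.repr (gi (e m)) k = 0 by rw [hrow, show r k = 0 from hm, map_zero])
      (show e.repr (gi (e m)) p = 0 by rw [hrow, hp, map_zero])
  push Not at hr
  obtain ⟨p, hp, p', hp', hpp, hnp⟩ := Finset.exists_ne_map_eq_of_card_lt_of_maps_to (s := Finset.univ.erase k)
    (t := fixStar σ) (f := fun x => nm σ (r x)) (by
      rw [Finset.card_erase_of_mem (Finset.mem_univ _), Finset.card_univ]
      have := card_fixStar (σ := σ)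
      omega) (fun x hx => mem_fixStar.2 ⟨nm_fixed hσ _, fun e' => hr x (Finset.mem_erase.1 hx).1 (nm_eq_zero.1 e')⟩)
  obtain ⟨hpk, -⟩ := Finset.mem_erase.1 hp
  obtain ⟨hpk', -⟩ := Finset.mem_erase.1 hp'
  have hrp := hr p hpk
  have hrp' := hr p' hpk'
  set τ := r p / r p'
  have hτ : nm σ τ = 1 := by rw [nm_div, hnp, div_self fun e' => hrp' (nm_eq_zero.1 e')]
  obtain ⟨hw, hc, ht⟩ := swap_tr_mem h he hH h2 hpp hτ
  set w := e p + τ • e p' with hwdef
  set v := (g : V ≃ₗ[F] V) w with hvdef
  have ht' := M.mul_mem (M.mul_mem hg ht) (M.inv_mem hg)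
  rw [h.conj_tr hw hc g] at ht'
  have hvm : e.repr v m = 0 := by
    simp only [hvdef, hwdef, map_add, map_smul, Finsupp.add_apply, Finsupp.smul_apply, smul_eq_mul]
    show r p + τ * r p' = 0
    rw [div_mul_cancel₀ _ hrp']
    linear_combination r p * h2
  have hBv : ∀ x, B v (e x) = σ (e.repr v x) := fun x => by rw [repr_eq he, h.symm]
  have hv0 : v ≠ 0 := fun h0 => by
    have h1 := congrArg (fun z => e.repr z p) ((g : V ≃ₗ[F] V).map_eq_zero_iff.1 h0)
    simp only [hwdef, map_add, map_smul, map_zero, Finsupp.add_apply, Finsupp.smul_apply, Finsupp.zero_apply,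
      repr_single, if_neg hpp.symm, if_true, smul_zero, add_zero] at h1
    exact one_ne_zero h1
  by_cases hbig : 3 ≤ (supp e v).card
  · obtain ⟨x, hx⟩ := supp_nonempty (e := e) hv0
    refine ⟨_, ht', not_mon_of_supp (x := x) ?_, m, m, 1, ?_⟩
    · have hsub : (supp e v).erase x ⊆ supp e ((h.tr ((HU.map_eq g w w).trans hw) hc : V ≃ₗ[F] V) (e x)) := by
        intro z hz
        obtain ⟨hzx, hzv⟩ := Finset.mem_erase.1 hz
        rw [mem_supp, h.tr_apply, hBv, map_add, map_smul, Finsupp.add_apply, Finsupp.smul_apply, repr_single,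
          if_neg hzx.symm, zero_add, smul_eq_mul, one_mul]
        exact mul_ne_zero ((map_ne_zero σ).2 (mem_supp.1 hx)) (mem_supp.1 hzv)
      have := Finset.card_le_card hsub
      rw [Finset.card_erase_of_mem hx] at this
      omega
    · rw [h.tr_fix _ _ (by rw [hBv, hvm, map_zero]), one_smul]
  obtain ⟨α, hα, hα1, -⟩ := exists_circ_ne hσ 1 1
  let L : ι → F := fun x => if x = p then α else if x = p' then α else if x = k then (α * α)⁻¹ else 1
  obtain ⟨d, hd, hdv⟩ := exists_dia_mem h he hH (l := L) (fun x => by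
      simp only [L]; split_ifs <;> first | exact hα | simp [nm_inv, nm_mul, hα] | simp [nm]) (by
      have hα0 : α ≠ 0 := ne_zero_of_norm_one hα
      rw [← Finset.mul_prod_erase _ _ (Finset.mem_univ p), ← Finset.mul_prod_erase _ _
        (Finset.mem_erase.2 ⟨hpp.symm, Finset.mem_univ p'⟩), ← Finset.mul_prod_erase _ _
        (Finset.mem_erase.2 ⟨Ne.symm hpk', Finset.mem_erase.2 ⟨Ne.symm hpk, Finset.mem_univ k⟩⟩),
        Finset.prod_eq_one fun x hx => by
          simp only [Finset.mem_erase] at hx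
          simp [L, hx.1, hx.2.1, hx.2.2.1]]
      simp only [L, if_true, hpp.symm, if_false, Ne.symm hpk, Ne.symm hpk']
      field_simp)
  set c := (α - 1) * σ (r p)
  have hc0 : c ≠ 0 := mul_ne_zero (sub_ne_zero.2 hα1) ((map_ne_zero σ).2 hrp)
  have hy : ((g * d * g⁻¹ : HU B) : V ≃ₗ[F] V) (e m) = e m + c • v := by
    have hdg : (d : V ≃ₗ[F] V) (gi (e m)) = gi (e m) + c • w := by
      refine e.repr.injective (Finsupp.ext fun x => ?_)
      rw [dia_repr h he hdv]
      simp only [hwdef, map_add, map_smul, Finsupp.add_apply, Finsupp.smul_apply, repr_single, smul_eq_mul, hrow, L, c]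
      by_cases h1 : x = p
      · subst h1; simp [hpp.symm]; ring
      by_cases h3 : x = p'
      · subst h3
        simp [h1, Ne.symm h1]
        have e1 : τ * r x = r p := div_mul_cancel₀ _ hrp'
        have e2 : τ * σ τ = 1 := hτ
        have e3 := congrArg σ e1
        rw [map_mul] at e3
        linear_combination (α - 1) * τ * e3 - (α - 1) * σ (r x) * e2
      by_cases h4 : x = k
      · subst h4
        simp [h1, h3, Ne.symm h1, Ne.symm h3, show r x = 0 from hm]
      simp [h1, h3, h4, Ne.symm h1, Ne.symm h3]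
    rw [Subgroup.coe_mul, Subgroup.coe_mul, LinearEquiv.mul_apply, LinearEquiv.mul_apply, hdg, map_add, map_smul, hinv]
  obtain ⟨z, hz⟩ := supp_nonempty (e := e) hv0
  have hsub : supp e (((g * d * g⁻¹ : HU B) : V ≃ₗ[F] V) (e m)) ⊆ insert m (supp e v) := fun x hx => by
    rw [Finset.mem_insert]
    by_contra hcon
    rw [not_or, not_mem_supp] at hcon
    refine mem_supp.1 hx ?_
    rw [hy, map_add, map_smul, Finsupp.add_apply, Finsupp.smul_apply, repr_single, if_neg (Ne.symm hcon.1), hcon.2,
      smul_zero, add_zero]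
  obtain ⟨i, hi, j, hj, hij⟩ := Finset.one_lt_card.1 (show 1 < (Finset.univ \ insert m (supp e v)).card by
    rw [Finset.card_univ_sdiff]
    have := Finset.card_insert_le m (supp e v)
    omega)
  refine fix_of_two_zeros h he hH hq (by omega) (M.mul_mem (M.mul_mem hg hd) (M.inv_mem hg))
    (not_mon_of_supp (x := m) ?_) (k := m) hij
    (not_mem_supp.1 fun hc' => (Finset.mem_sdiff.1 hi).2 (hsub hc'))
    (not_mem_supp.1 fun hc' => (Finset.mem_sdiff.1 hj).2 (hsub hc'))
  have hzm : z ≠ m := fun e' => mem_supp.1 hz (e' ▸ hvm)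
  rw [← Finset.card_pair hzm]
  refine Finset.card_le_card fun x hx => mem_supp.2 ?_
  rw [hy, map_add, map_smul, Finsupp.add_apply, Finsupp.smul_apply, repr_single, smul_eq_mul]
  rcases Finset.mem_insert.1 hx with e' | hx'
  · subst e'
    rw [if_neg hzm.symm, zero_add]
    exact mul_ne_zero hc0 (mem_supp.1 hz)
  · rw [Finset.mem_singleton.1 hx', if_pos rfl, hvm, mul_zero, add_zero]
    exact one_ne_zero

/-- A non-monomial element yields a two-coordinate centre. -/
theorem one_pair [Finite F] (hq : 3 ≤ Nat.card (fixedSub σ)) (hn : 6 ≤ Fintype.card ι) {g : HU B} (hg : g ∈ M)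
    (hnm : ¬ Mon e g) : ∃ a b : ι, a ≠ b ∧ ∃ y ∈ Ctr h M, supp e y = {a, b} := by
  obtain ⟨g', hg', k, i, hi, hs⟩ := exists_zero h he hH hn hg hnm
  refine pair_of_fix h he hH hq ?_
  by_cases h2 : (2 : F) = 0
  · exact fix_of_zero_two h he hH h2 hq hn hg' hi hs
  · exact fix_of_zero h he hH h2 hq hn hg' hi hs

omit hH in
/-- Some pair of columns combines to a vector with at least three non-zero coordinates. -/
theorem exists_wide [Finite F] (hn : 6 ≤ Fintype.card ι) {g : HU B} (hnm : ¬ Mon e g) :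
    ∃ a b : ι, a ≠ b ∧ ∃ τ : F, nm σ τ = 1 ∧ 3 ≤ (supp e ((g : V ≃ₗ[F] V) (e a + τ • e b))).card := by
  classical
  haveI := Fintype.ofFinite F
  have hσ := h.invol
  obtain ⟨a, ha⟩ := exists_col_of_not_mon hnm
  set u := (g : V ≃ₗ[F] V) (e a)
  obtain ⟨b, hba, hext⟩ : ∃ b, b ≠ a ∧ (supp e ((g : V ≃ₗ[F] V) (e b)) ⊆ supp e u → 6 ≤ (supp e u).card) := by
    by_cases hex : ∃ b, b ≠ a ∧ ¬ supp e ((g : V ≃ₗ[F] V) (e b)) ⊆ supp e u
    · obtain ⟨b, h1, h2⟩ := hex
      exact ⟨b, h1, fun h3 => absurd h3 h2⟩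
    push Not at hex
    obtain ⟨b, hb⟩ := Fintype.exists_ne_of_one_lt_card (by omega) a
    refine ⟨b, hb, fun _ => hn.trans ?_⟩
    rw [← Finset.card_univ]
    refine col_card h he g _ _ fun x _ => ?_
    by_cases hx : x = a
    · subst hx; exact le_rfl
    · exact hex x hx
  set u' := (g : V ≃ₗ[F] V) (e b)
  refine ⟨a, b, hba.symm, ?_⟩
  by_contra! hsmall
  let G : Finset (F × ι) := (circ σ ×ˢ (supp e u ∪ supp e u')).filter fun z => e.repr u z.2 + z.1 * e.repr u' z.2 ≠ 0
  have hup : G.card ≤ 2 * (circ σ).card := by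
    refine Finset.card_le_mul_card_image_of_maps_to (f := Prod.fst) (t := circ σ) (fun z hz => (Finset.mem_product.1
      (Finset.mem_filter.1 hz).1).1) 2 fun τ hτ => ?_
    refine le_trans ?_ (Nat.le_of_lt_succ (hsmall τ (mem_circ.1 hτ)))
    refine Finset.card_le_card_of_injOn Prod.snd (fun z hz => ?_) (fun z hz z' hz' e' => ?_)
    · obtain ⟨h1, rfl⟩ := Finset.mem_filter.1 (Finset.mem_coe.1 hz)
      refine Finset.mem_coe.2 (mem_supp.2 ?_)
      simpa only [map_add, map_smul, Finsupp.add_apply, Finsupp.smul_apply, smul_eq_mul] using (Finset.mem_filter.1 h1).2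
    · exact Prod.ext ((Finset.mem_filter.1 (Finset.mem_coe.1 hz)).2.trans
        (Finset.mem_filter.1 (Finset.mem_coe.1 hz')).2.symm) e'
  have hlow : (supp e u).card * Nat.card (fixedSub σ) + (supp e u' \ supp e u).card * (circ σ).card ≤ G.card := by
    have h1 : ∀ x ∈ supp e u ∪ supp e u', (if x ∈ supp e u then Nat.card (fixedSub σ) else (circ σ).card) ≤
        (G.filter fun z => z.2 = x).card := by
      intro x hx
      have h2 : ∀ S ⊆ circ σ, (∀ τ ∈ S, e.repr u x + τ * e.repr u' x ≠ 0) → S.card ≤ (G.filter fun z => z.2 = x).card := by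
        intro S hS hS'
        refine Finset.card_le_card_of_injOn (fun τ => (τ, x)) (fun τ hτ => ?_) (fun τ _ τ' _ e' => congrArg Prod.fst e')
        simp only [Finset.mem_coe, G, Finset.mem_filter, Finset.mem_product] at hτ ⊢
        exact ⟨⟨⟨hS hτ, hx⟩, hS' τ hτ⟩, trivial⟩
      split_ifs with hxu
      · refine le_trans ?_ (h2 ((circ σ).erase (-(e.repr u x / e.repr u' x))) (Finset.erase_subset _ _) fun τ hτ e' => ?_)
        · have := Finset.pred_card_le_card_erase (s := circ σ) (a := -(e.repr u x / e.repr u' x))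
          have := card_circ hσ
          omega
        · by_cases h0 : e.repr u' x = 0
          · rw [h0, mul_zero, add_zero] at e'
            exact mem_supp.1 hxu e'
          · exact (Finset.mem_erase.1 hτ).1 (by field_simp; linear_combination e')
      · refine h2 _ le_rfl fun τ hτ e' => ?_
        rw [not_mem_supp.1 hxu, zero_add, mul_eq_zero] at e'
        rcases e' with e' | e'
        · exact ne_zero_of_norm_one (mem_circ.1 hτ) e'
        · exact mem_supp.1 ((Finset.mem_union.1 hx).resolve_left hxu) e'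
    rw [Finset.card_eq_sum_card_fiberwise (f := Prod.snd) (t := supp e u ∪ supp e u') (fun z hz =>
      (Finset.mem_product.1 (Finset.mem_filter.1 hz).1).2)]
    refine le_trans ?_ (Finset.sum_le_sum h1)
    rw [← Finset.union_sdiff_self_eq_union, Finset.sum_union Finset.disjoint_sdiff,
      Finset.sum_congr rfl (fun x hx => if_pos hx), Finset.sum_congr rfl (fun x hx => if_neg (Finset.mem_sdiff.1 hx).2)]
    simp
  have hc := card_circ hσ
  have hq1 : 2 ≤ Nat.card (fixedSub σ) := by
    have := card_fixStar (σ := σ)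
    have : 0 < (fixStar σ).card := Finset.card_pos.2 ⟨1, mem_fixStar.2 ⟨map_one σ, one_ne_zero⟩⟩
    omega
  rw [hc] at hup hlow
  by_cases hsub : supp e u' ⊆ supp e u
  · nlinarith [hext hsub]
  · have : 0 < (supp e u' \ supp e u).card := Finset.card_pos.2 (Finset.sdiff_nonempty.2 hsub)
    nlinarith

/-- Over the field with four elements a non-monomial element gives a wide centre. -/
theorem one_witness [Finite F] (hq : Nat.card (fixedSub σ) = 2) (hn : 6 ≤ Fintype.card ι) {g : HU B} (hg : g ∈ M)
    (hnm : ¬ Mon e g) :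
    (∀ a b : ι, a ≠ b → ∀ w, supp e w ⊆ {a, b} → B w w = 0 → w ∈ Ctr h M) ∧
      ∃ v ∈ Ctr h M, 4 ≤ (supp e v).card := by
  classical
  haveI := Fintype.ofFinite F
  obtain ⟨h2, hone, -⟩ := four_facts h.invol hq
  have hpair : ∀ (a b : ι), a ≠ b → ∀ τ : F, nm σ τ = 1 → e a + τ • e b ∈ Ctr h M := by
    intro a b hab τ hτ
    obtain ⟨hw, hc, ht⟩ := swap_tr_mem h he hH h2 hab hτ
    refine ⟨hw, fun hw' c hc' => ?_⟩
    by_cases hc0 : c = 0
    · subst hc0
      rw [show h.tr hw' hc' = 1 from Subtype.ext (LinearEquiv.ext fun y => by simp [h.tr_apply])]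
      exact M.one_mem
    · have hfix : σ c = c := by linear_combination hc' - c * h2
      have hc1 : c = 1 := by
        have h1 := hone c hc0
        rw [nm, hfix] at h1
        have h3 : (c - 1) * (c - 1) = 0 := by linear_combination h1 - (c - 1) * h2
        exact sub_eq_zero.1 (mul_self_eq_zero.1 h3)
      subst hc1
      exact ht
  constructor
  · intro a b hab w hw hww
    have hsum : w = e.repr w a • e a + e.repr w b • e b := by
      conv_lhs => rw [← e.sum_repr w]
      rw [Finset.sum_eq_add a b hab (fun x _ hx => by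
        rw [not_mem_supp.1 (fun hm => by
          have := hw hm
          simp only [Finset.mem_insert, Finset.mem_singleton] at this
          exact this.elim hx.1 hx.2), zero_smul]) (by simp) (by simp)]
    by_cases ha : e.repr w a = 0
    · by_cases hb : e.repr w b = 0
      · rw [hsum, ha, hb, zero_smul, zero_smul, add_zero]; exact ctr_zero h
      · exfalso
        rw [hsum, ha, zero_smul, zero_add, IsHerm.smul_self, he b b, if_pos rfl, mul_one] at hww
        exact hb (nm_eq_zero.1 hww)
    · by_cases hb : e.repr w b = 0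
      · exfalso
        rw [hsum, hb, zero_smul, add_zero, IsHerm.smul_self, he a a, if_pos rfl, mul_one] at hww
        exact ha (nm_eq_zero.1 hww)
      · have := ctr_smul h (hpair a b hab (e.repr w b / e.repr w a) (by rw [nm_div, hone _ ha, hone _ hb, div_one]))
          (e.repr w a)
        rwa [smul_add, smul_smul, mul_div_cancel₀ _ ha, ← hsum] at this
  · obtain ⟨a, b, hab, τ, hτ, hs⟩ := exists_wide h he hn hnm
    have hv := ctr_conj h (hpair a b hab τ hτ) hg
    refine ⟨_, hv, ?_⟩
    obtain ⟨r, hr⟩ := even_card h he h2 hone hv.1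
    omega

end CfsgLib.Geo.UnitDecomp
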