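/-
The stabiliser of a decomposition into non-degenerate spaces of equal dimension is maximal.
-/
import Cfsg.Agent.Lib.Geo.UnitDecomp.One
import Cfsg.Agent.Lib.Geo.UnitDecomp.Blocks

set_option autoImplicit false
set_option linter.unusedSectionVars false
set_option linter.style.haveILetI false
set_option maxHeartbeats 800000

namespace CfsgLib.Geo.UnitDecomp

open CfsgLib.Classical CfsgLib.Classical.Herm CfsgLib.Geo.UnitMax

variable {F : Type*} [Field F] {σ : F →+* F} {V : Type*} [AddCommGroup V] [Module F V]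
  {B : V →ₛₗ[σ] V →ₗ[F] F} [DecidableEq F] [FiniteDimensional F V] {t k : ℕ}
  {e : Module.Basis (Fin t × Fin k) F V}

/-- Block compatible permutations move any cross pair to any other. -/
theorem exists_block_perm (a c a' c' : Fin t × Fin k) (hac : a.1 ≠ c.1) (hac' : a'.1 ≠ c'.1) :
    ∃ π : Equiv.Perm (Fin t × Fin k), (∀ x x', x.1 = x'.1 → (π x).1 = (π x').1) ∧ π a = a' ∧ π c = c' := by
  classical
  let p1 := Equiv.swap a.1 a'.1
  let p : Equiv.Perm (Fin t) := Equiv.swap (p1 c.1) c'.1 * p1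
  have hpc : p c.1 = c'.1 := by simp [p]
  have hpa : p a.1 = a'.1 := by
    have h1 : p1 a.1 = a'.1 := Equiv.swap_apply_left _ _
    simp only [p, Equiv.Perm.mul_apply, h1]
    refine Equiv.swap_apply_of_ne_of_ne (fun e' => hac (p1.injective (h1.trans e'))) hac'
  let q : Fin t → Equiv.Perm (Fin k) := fun i => if i = a.1 then Equiv.swap a.2 a'.2 else Equiv.swap c.2 c'.2
  refine ⟨Equiv.prodShear p q, fun x x' hx => congrArg p hx, Prod.ext hpa ?_, Prod.ext hpc ?_⟩
  · simp [q]
  · simp [q, hac.symm]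

variable (h : IsHerm B)
include h

theorem mem_one_of_all [Finite F] {M : Subgroup (HU B)} (h2 : 2 ≤ Module.finrank F V)
    (hex : Module.finrank F V = 3 → Nat.card (fixedSub σ) ≠ 2)
    (hall : ∀ w : V, B w w = 0 → w ∈ Ctr h M) : HSU B ≤ M := by
  refine (h.generated h2 hex).trans ?_
  rw [IsHerm.trGroup, Subgroup.closure_le]
  rintro _ ⟨u, hu, c, hc, rfl⟩
  exact (hall u hu).2 hu c hc

variable (he : IsFrame B e)
include he

/-- An overgroup of the block stabiliser with a further element is everything. -/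
theorem top_of_not_blk [Finite F] (ht : 2 ≤ t) (hk : 0 < k) (hn : 6 ≤ t * k) (h7 : Nat.card (fixedSub σ) = 2 → k ≠ 1 ∨ 7 ≤ t * k)
    (hex : ¬ (k = 2 ∧ Nat.card (fixedSub σ) = 2)) {M : Subgroup (HU B)}
    (hH : ∀ g ∈ HSU B, Blk e Prod.fst g → g ∈ M) {g : HU B} (hg : g ∈ M) (hnb : ¬ Blk e Prod.fst g) :
    HSU B ≤ M := by
  classical
  haveI := Fintype.ofFinite F
  have hσ := h.invol
  have hcard : Fintype.card (Fin t × Fin k) = t * k := by simp
  have hfr : Module.finrank F V = t * k := by rw [Module.finrank_eq_card_basis e, hcard]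
  refine mem_one_of_all h (by omega) (fun h3 => by omega) ?_
  have hq2 : 2 ≤ Nat.card (fixedSub σ) := by
    have := card_fixStar (σ := σ)
    have : 0 < (fixStar σ).card := Finset.card_pos.2 ⟨1, mem_fixStar.2 ⟨map_one σ, one_ne_zero⟩⟩
    omega
  have hperm : ∀ a c a' c' : Fin t × Fin k, a.1 ≠ c.1 → a'.1 ≠ c'.1 →
      ∃ π : Equiv.Perm (Fin t × Fin k), (∀ x x', x.1 = x'.1 → (π x).1 = (π x').1) ∧ π a = a' ∧ π c = c' :=
    exists_block_perm
  by_cases hk1 : k = 1
  · subst hk1
    have hinj : ∀ x x' : Fin t × Fin 1, x.1 = x'.1 → x = x' := fun x x' e' => Prod.ext e' (Subsingleton.elim _ _)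
    have hiff : ∀ g : HU B, Mon e g ↔ Blk e Prod.fst g := fun g =>
      ⟨fun hm x x' hx y y' hy hy' => congrArg Prod.fst (hm x x' (hinj x x' hx) y y' hy hy'),
        fun hb x x' hx y y' hy hy' => hinj _ _ (hb x x' (congrArg Prod.fst hx) y y' hy hy')⟩
    have hH1 : ∀ g ∈ HSU B, Mon e g → g ∈ M := fun g hg hm => hH g hg ((hiff g).1 hm)
    have hnm : ¬ Mon e g := fun hm => hnb ((hiff g).1 hm)
    rcases (show Nat.card (fixedSub σ) = 2 ∨ 3 ≤ Nat.card (fixedSub σ) by omega) with hq | hq
    · obtain ⟨htwo, v, hv, hv4⟩ := one_witness h he hH1 hq (by omega) hg hnm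
      exact ctr_all_two h he hH hq (by omega) htwo hv hv4 (Or.inl (by have := h7 hq; omega))
    · obtain ⟨a₀, c₀, hac, y, hy, hys⟩ := one_pair h he hH1 hq (by omega) hg hnm
      refine ctr_all h he hH (by omega) (fun a b hab w hw hww => ?_) hq
      obtain ⟨π, hπ, ea, ec⟩ := hperm a₀ c₀ a b (fun e' => hac (hinj _ _ e')) (fun e' => hab (hinj _ _ e'))
      exact two_perm h he hH (by omega) hac hy hys π hπ w (by rw [ea, ec]; exact hw) hww
  · have hfib : ∀ x : Fin t × Fin k, ∃ x', x' ≠ x ∧ x'.1 = x.1 := fun x => by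
      obtain ⟨j, hj⟩ := Fintype.exists_ne_of_one_lt_card (by rw [Fintype.card_fin]; omega) x.2
      exact ⟨(x.1, j), fun e' => hj (congrArg Prod.snd e'), rfl⟩
    have htwo := block_htwo h he hH (by omega) hfib hperm hg hnb
    rcases (show Nat.card (fixedSub σ) = 2 ∨ 3 ≤ Nat.card (fixedSub σ) by omega) with hq | hq
    · have hk3 : 3 ≤ k := by
        by_contra hc
        exact hex ⟨by omega, hq⟩
      obtain ⟨v, hv, hv4, hv4'⟩ := block_witness h he hH hq htwo (a := (⟨0, by omega⟩, ⟨0, by omega⟩))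
        (b := (⟨0, by omega⟩, ⟨1, by omega⟩)) (b' := (⟨0, by omega⟩, ⟨2, by omega⟩))
        (c := (⟨1, by omega⟩, ⟨0, by omega⟩)) (by simp) (by simp) (by simp) rfl rfl (by simp)
      exact ctr_all_two h he hH hq (by omega) htwo hv hv4 (Or.inr (by omega))
    · exact ctr_all h he hH (by omega) htwo hq

/-- Some element of the special unitary group does not respect the blocks. -/
theorem exists_not_blk [Finite F] (ht : 2 ≤ t) (hk : 0 < k) (hn : 4 ≤ t * k) :
    ∃ g ∈ HSU B, ¬ Blk e Prod.fst g := by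
  classical
  haveI := Fintype.ofFinite F
  have hσ := h.invol
  let a : Fin t × Fin k := (⟨0, by omega⟩, ⟨0, hk⟩)
  let c : Fin t × Fin k := (⟨1, by omega⟩, ⟨0, hk⟩)
  have hac : a.1 ≠ c.1 := by simp [a, c]
  have hca : c ≠ a := fun e' => hac (by rw [e'])
  have hbig : ∀ {w : V} (hw : B w w = 0) {θ : F} (hθ : θ + σ θ = 0), ∀ x, e.repr ((h.tr hw hθ : V ≃ₗ[F] V) (e a)) x =
        (if a = x then 1 else 0) + θ * σ (e.repr w a) * e.repr w x := by
    intro w hw θ hθ x
    rw [h.tr_apply, map_add, map_smul, Finsupp.add_apply, Finsupp.smul_apply, repr_single, smul_eq_mul,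
      ← h.symm, ← repr_eq he]
  by_cases hq : 3 ≤ Nat.card (fixedSub σ)
  · obtain ⟨τ, hτ⟩ := hσ.exists_norm_eq (μ := (-1 : F)) (by rw [map_neg, map_one])
    obtain ⟨θ, hθ0, hθ, hθ1⟩ := exists_skew_ne hσ hq (-1)
    have hw : B (e a + τ • e c) (e a + τ • e c) = 0 := by
      simp only [map_add, LinearMap.add_apply, smul_left, smul_right, he a a, he c c, he a c, he c a, if_neg hca,
        if_neg hca.symm, if_true]
      linear_combination hτ
    have hτ0 : τ ≠ 0 := fun e' => by rw [e', zero_mul] at hτ; exact one_ne_zero (neg_eq_zero.1 hτ.symm)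
    refine ⟨h.tr hw hθ, h.det_tr hw hθ, fun hb => hac (hb a a rfl a c ?_ ?_)⟩
    · rw [hbig hw hθ a]
      simp [hca]
      intro e'
      exact hθ1 (by linear_combination e')
    · rw [hbig hw hθ c]
      simp [hca, hca.symm, hθ0, hτ0]
  have hq2 : Nat.card (fixedSub σ) = 2 := by
    have := card_fixStar (σ := σ)
    have : 0 < (fixStar σ).card := Finset.card_pos.2 ⟨1, mem_fixStar.2 ⟨map_one σ, one_ne_zero⟩⟩
    omega
  obtain ⟨h2, hone, -⟩ := four_facts hσ hq2
  have hθ : (1 : F) + σ 1 = 0 := by rw [map_one]; linear_combination h2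
  by_cases hk1 : k = 1
  · subst hk1
    let p : Fin 4 → Fin t × Fin 1 := fun i => (⟨i, by omega⟩, 0)
    have hp : Function.Injective p := fun i j hij => Fin.ext (congrArg (fun z : Fin t × Fin 1 => (z.1 : ℕ)) hij)
    let w : V := e (p 0) + e (p 1) + e (p 2) + e (p 3)
    have hpp : ∀ i j, B (e (p i)) (e (p j)) = if i = j then 1 else 0 := fun i j => by
      rw [he]; simp [hp.eq_iff]
    have hw : B w w = 0 := by
      simp only [w, map_add, LinearMap.add_apply, hpp]
      simp
      linear_combination 2 * h2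
    have hwr : ∀ x, e.repr w x = (if p 0 = x then (1 : F) else 0) + (if p 1 = x then 1 else 0) +
        (if p 2 = x then 1 else 0) + (if p 3 = x then 1 else 0) := fun x => by
      simp only [w, map_add, Finsupp.add_apply, repr_single]
    have hp0 : p 0 = a := Prod.ext rfl (Subsingleton.elim _ _)
    refine ⟨h.tr hw hθ, h.det_tr hw hθ, fun hb => ?_⟩
    have := hb a a rfl (p 1) (p 2) ?_ ?_
    · simp [p] at this
    all_goals
      rw [hbig hw hθ]
      simp [hwr, ← hp0, hp.eq_iff]
  let b : Fin t × Fin k := (⟨0, by omega⟩, ⟨1, by omega⟩)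
  have hab : a ≠ b := by simp [a, b]
  have hbc : b ≠ c := by simp [b, c]
  have hw : B (e a + e c) (e a + e c) = 0 := by
    simp only [map_add, LinearMap.add_apply, he a a, he c c, he a c, he c a, if_neg hca, if_neg hca.symm, if_true]
    linear_combination h2
  refine ⟨h.tr hw hθ, h.det_tr hw hθ, fun hb => hac.symm (hb a b rfl c b ?_ ?_)⟩
  · rw [hbig hw hθ c]
    simp [hca, hca.symm]
  · rw [h.tr_fix hw hθ (by simp [he a b, he c b, hab, hbc.symm]), repr_single, if_pos rfl]
    exact one_ne_zero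

end CfsgLib.Geo.UnitDecomp
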