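/-
Decomposition stabilisers in the special unitary matrix groups.
-/
import Cfsg.Agent.Lib.Geo.UnitDecomp.Final
import Cfsg.Agent.Lib.Geo.UnitMaximal

set_option autoImplicit false
set_option linter.unusedSectionVars false
set_option linter.style.haveILetI false
set_option maxHeartbeats 800000

namespace CfsgLib.Geo.UnitDecomp

open CfsgLib.Classical CfsgLib.Classical.Herm CfsgLib.Geo.UnitMax

variable {F : Type*} [Field F] [Fintype F] {n q t k : ℕ}

/-- An orthonormal basis adapted to a non-degenerate decomposition. -/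
theorem exists_decomp_frame (hF : Fintype.card F = q ^ 2) {D : Fin t → Submodule F (Fin n → F)}
    (hD : Cfsg.Geo.IsNondegenerateMDecomposition (Cfsg.hermForm n F q) k D) :
    ∃ e : Module.Basis (Fin t × Fin k) F (Fin n → F), IsFrame (hermStd n hF) e ∧
      ∀ i v, v ∈ D i ↔ ∀ y, e.repr v y ≠ 0 → y.1 = i := by
  classical
  have h := hermStd_isHerm (n := n) hF
  have hb : ∀ i, ∃ b : Module.Basis (Fin k) F (D i),
      ∀ r s, hermStd n hF (b r : Fin n → F) (b s) = if r = s then 1 else 0 := fun i => by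
    refine (h.restrict_herm (U := D i) fun x hx hxy => ?_).exists_orthonormal_basis (hD.decomp.finrank_eq i)
    by_contra hx0
    obtain ⟨y, hy, hne⟩ := (hD.nondegenerate i x hx hx0).1
    exact hne (hxy y hy)
  choose b hb using hb
  have hint : DirectSum.IsInternal D :=
    DirectSum.isInternal_submodule_of_iSupIndep_of_iSup_eq_top hD.decomp.indep hD.decomp.iSup_eq_top
  set e := (hint.collectedBasis b).reindex (Equiv.sigmaEquivProd (Fin t) (Fin k))
  have hev : ∀ i r, e (i, r) = (b i r : Fin n → F) := fun i r => by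
    simp [e, DirectSum.IsInternal.collectedBasis_coe]
    rfl
  have he : IsFrame (hermStd n hF) e := by
    rintro ⟨i, r⟩ ⟨j, s⟩
    rw [hev, hev]
    by_cases hij : i = j
    · subst hij
      simp [hb]
    · rw [show hermStd n hF (b i r : Fin n → F) (b j s) = 0 from
        hD.orthogonal j i (Ne.symm hij) _ (b j s).2 _ (b i r).2]
      simp [hij]
  refine ⟨e, he, fun i v => ⟨fun hv => ?_, fun hv => ?_⟩⟩
  · rintro ⟨j, r⟩ hy
    by_contra hne
    refine hy ?_
    rw [repr_eq he, hev]
    exact hD.orthogonal i j (Ne.symm hne) _ hv _ (b j r).2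
  · rw [← e.sum_repr v]
    refine Submodule.sum_mem _ fun y _ => ?_
    by_cases hy : e.repr v y = 0
    · rw [hy, zero_smul]; exact Submodule.zero_mem _
    · obtain ⟨j, r⟩ := y
      obtain rfl : j = i := hv (j, r) hy
      exact Submodule.smul_mem _ _ (by rw [hev]; exact (b j r).2)

/-- The stabiliser of a non-degenerate decomposition is maximal in the special unitary group. -/
theorem decomp_maximal (hF : Fintype.card F = q ^ 2) (hn : 6 ≤ n) (h7 : q = 2 → k ≠ 1 ∨ 7 ≤ n) {D : Fin t → Submodule F (Fin n → F)}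
    (hD : Cfsg.Geo.IsNondegenerateMDecomposition (Cfsg.hermForm n F q) k D) (hex : ¬ (k = 2 ∧ q = 2)) :
    Cfsg.Geo.IsMaximalIn (Cfsg.GU n F q ⊓ Cfsg.Geo.specialLinear (Fin n) F)
      (Cfsg.Geo.decompositionStabilizer D ⊓ (Cfsg.GU n F q ⊓ Cfsg.Geo.specialLinear (Fin n) F)) := by
  classical
  have h := hermStd_isHerm (n := n) hF
  have ht := hD.decomp.two_le
  have hk := hD.decomp.pos
  obtain ⟨e, he, hmemD⟩ := exists_decomp_frame hF hD
  have htk : t * k = n := by
    have := Module.finrank_eq_card_basis e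
    rw [Module.finrank_fin_fun, Fintype.card_prod, Fintype.card_fin, Fintype.card_fin] at this
    exact this.symm
  have hex' : ¬ (k = 2 ∧ Nat.card (fixedSub (powHom hF)) = 2) := by
    rintro ⟨h1, h2⟩
    refine hex ⟨h1, ?_⟩
    have hc := card_field (powHom_isInvol hF)
    rw [h2, hF] at hc
    exact Nat.pow_left_injective (by norm_num) hc
  let E := guEquiv n hF
  have hS : ∀ g : Cfsg.GU n F q, (g : GL (Fin n) F) ∈ Cfsg.Geo.specialLinear (Fin n) F ↔
      E g ∈ HSU (hermStd n hF) := by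
    intro g
    rw [MonoidHom.mem_ker, Units.ext_iff]
    show Matrix.GeneralLinearGroup.det (g : GL (Fin n) F) = 1 ↔ _
    rw [Units.ext_iff, guEquiv_det]
    rfl
  have hblk : ∀ g : Cfsg.GU n F q, (g : GL (Fin n) F) ∈ Cfsg.Geo.decompositionStabilizer D ↔
      Blk e Prod.fst (E g) := by
    intro g
    have hmap : ∀ v, Matrix.toLin' ((g : GL (Fin n) F) : Matrix (Fin n) (Fin n) F) v =
        (E g : (Fin n → F) ≃ₗ[F] (Fin n → F)) v := fun v => by
      rw [Matrix.toLin'_apply]; rfl
    have hin : ∀ x, e x ∈ D x.1 := fun x => (hmemD _ _).2 fun y hy => by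
      rw [repr_single] at hy
      by_cases hxy : x = y
      · rw [hxy]
      · exact absurd (if_neg hxy) hy
    constructor
    · rintro ⟨π, hπ⟩ x x' hxx y y' hy hy'
      have h1 : ∀ x, (E g : (Fin n → F) ≃ₗ[F] (Fin n → F)) (e x) ∈ D (π x.1) := fun x => by
        rw [← hmap, ← hπ]
        exact Submodule.mem_map_of_mem (hin x)
      rw [(hmemD _ _).1 (h1 x) y hy, (hmemD _ _).1 (h1 x') y' hy', hxx]
    · intro hb
      have hne : ∀ i : Fin t, ∃ y, e.repr ((E g : (Fin n → F) ≃ₗ[F] (Fin n → F)) (e (i, ⟨0, hk⟩))) y ≠ 0 := fun i => by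
        obtain ⟨y, hy⟩ := supp_nonempty (e := e) (v := (E g : (Fin n → F) ≃ₗ[F] (Fin n → F)) (e (i, ⟨0, hk⟩)))
          fun h0 => e.ne_zero _ ((E g : (Fin n → F) ≃ₗ[F] (Fin n → F)).map_eq_zero_iff.1 h0)
        exact ⟨y, mem_supp.1 hy⟩
      choose y₀ hy₀ using hne
      let π₀ : Fin t → Fin t := fun i => (y₀ i).1
      have hle : ∀ i, (D i).map (Matrix.toLin' ((g : GL (Fin n) F) : Matrix (Fin n) (Fin n) F)) = D (π₀ i) := by
        intro i
        refine Submodule.eq_of_le_of_finrank_eq ?_ ?_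
        · rintro _ ⟨v, hv, rfl⟩
          rw [hmap, ← e.sum_repr v, map_sum]
          refine Submodule.sum_mem _ fun x _ => ?_
          rw [map_smul]
          by_cases hx : e.repr v x = 0
          · rw [hx, zero_smul]; exact Submodule.zero_mem _
          · refine Submodule.smul_mem _ _ ((hmemD _ _).2 fun y hy => ?_)
            exact hb x (i, ⟨0, hk⟩) ((hmemD _ _).1 hv x hx) y (y₀ i) hy (hy₀ i)
        · rw [hD.decomp.finrank_eq, show Matrix.toLin' ((g : GL (Fin n) F) : Matrix (Fin n) (Fin n) F) =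
            ((E g : (Fin n → F) ≃ₗ[F] (Fin n → F)) : (Fin n → F) →ₗ[F] (Fin n → F)) from LinearMap.ext hmap,
            LinearEquiv.finrank_map_eq, hD.decomp.finrank_eq]
      have hinj : Function.Injective π₀ := by
        intro i i' hii
        have h1 : D i = D i' := Submodule.map_injective_of_injective
          (f := Matrix.toLin' ((g : GL (Fin n) F) : Matrix (Fin n) (Fin n) F))
          (fun a b hab => (E g : (Fin n → F) ≃ₗ[F] (Fin n → F)).injective (by rw [← hmap, ← hmap, hab]))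
          (by rw [hle, hle, hii])
        exact (hmemD _ _).1 (h1 ▸ hin (i, ⟨0, hk⟩)) (i, ⟨0, hk⟩) (by rw [repr_single, if_pos rfl]; exact one_ne_zero)
      exact ⟨Equiv.ofBijective π₀ (Finite.injective_iff_bijective.1 hinj), hle⟩
  refine ⟨lt_of_le_of_ne inf_le_right fun heq => ?_, fun M hM hMS => ?_⟩
  · obtain ⟨x, hx, hxb⟩ := exists_not_blk h he ht hk (by omega)
    obtain ⟨g, rfl⟩ := E.surjective x
    exact hxb ((hblk g).1 (heq.ge (show (g : GL (Fin n) F) ∈ _ from ⟨g.2, (hS g).2 hx⟩)).1)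
  by_cases hall : ∀ g : Cfsg.GU n F q, (g : GL (Fin n) F) ∈ M → Blk e Prod.fst (E g)
  · refine Or.inl (le_antisymm (fun x hx => ?_) hM)
    exact ⟨(hblk ⟨x, (hMS hx).1⟩).2 (hall _ hx), hMS hx⟩
  push Not at hall
  obtain ⟨g, hg, hnb⟩ := hall
  have hmem : ∀ g : Cfsg.GU n F q,
      E g ∈ (M.subgroupOf (Cfsg.GU n F q)).map E.toMonoidHom ↔ (g : GL (Fin n) F) ∈ M := fun g => by
    rw [Subgroup.mem_map_equiv, MulEquiv.symm_apply_apply, Subgroup.mem_subgroupOf]
  have htop := top_of_not_blk h he ht hk (by omega) (fun e2 => by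
    have hc := card_field (powHom_isInvol hF)
    rw [e2, hF] at hc
    have := h7 (Nat.pow_left_injective (by norm_num) hc)
    omega) hex' (M := (M.subgroupOf (Cfsg.GU n F q)).map E.toMonoidHom)
    (fun x hx hb => by
      obtain ⟨y, rfl⟩ := E.surjective x
      exact (hmem y).2 (hM ⟨(hblk y).2 hb, y.2, (hS y).2 hx⟩)) ((hmem g).2 hg) hnb
  refine Or.inr (le_antisymm hMS fun x hx => ?_)
  exact (hmem ⟨x, hx.1⟩).1 (htop ((hS ⟨x, hx.1⟩).1 hx.2))

end CfsgLib.Geo.UnitDecomp
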